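import Mathlib
import Cfsg.Agent.H952.S7.B6_m3
import Cfsg.Agent.H952.F4.Scott_m3
import Cfsg.Agent.H710.E6C.Cases_mg_m3
import Cfsg.Agent.Lib.PermCode
import Cfsg.Agent.H944.E6TwE_m3
import Cfsg.Agent.H401.E6Grp_m3
import Cfsg.Agent.H944.E6TwC
import Cfsg.Agent.Lib.FastPerm
import Cfsg.Agent.H879.E6.Conj_m3
import Cfsg.Agent.H944.E6Tab
import Cfsg.Agent.H65.E6Ext_m3
import Cfsg.Agent.H16.E6.Cov
import Cfsg.Agent.H952.F4.KillBase_m3
import Cfsg.Agent.H944.E6CenMax_m3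
import Cfsg.Agent.H905.E6T.BigEight_m3
import Cfsg.Agent.FastGrp
import Cfsg.Agent.Prune
set_option linter.all false

section
prune_inst 0x7fbcadfbabfca9dfdfff7e7fae9edffdfbb93fffe6dff9cbffe061ff0bdf4b80cbe5fb8d8be810fe1ef7e21490f87b53f9ffefffea6bd87ffffd1ff41ffbffdfedf7b50851d68c340fbc0ff703f0778e7f3fffffffffffffffffffffffffffaeffbfffffffff

-- part: H401/SixLast
section
prune_inst 0x434200100050002000000000600000040000000000000000000200000080080000002200038200000000000004000004000000010004000000400040000000100008110020100010002008e000000000000000000000000000000000000000000000000000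
set_option linter.all false
open scoped Cfsg.Agent.FastGrp

-- part: H944/E6CovKer
section
/-!
# Derivations commuting with the three-fold cover of `A₆` in characteristic 2: the kernel (helper944)
-/

set_option autoImplicit false

namespace Cfsg.Agent.H944.E6CovKer

open Cfsg Cfsg.Lie Module Equiv
open Cfsg.Agent.ChevalleyStructure.E6Min.Tables Cfsg.Agent.ChevalleyStructure.E6Min.Basic
  Cfsg.Agent.ChevalleyStructure.E6Min.Adjoint
open Cfsg.Agent.H163.E6 Cfsg.Agent.H163.E6.Der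
open Cfsg.Agent.H952.F4 (ev es matRep sh cr tf MaxAlt)
open Cfsg.Agent.H952.F4.Jord
open Cfsg.Agent.H944.E6CovTwo Cfsg.Agent.H944.E6CovFit
open Cfsg.Agent.H906.E6.Hexa (A6 tx ty Ext XY)
open Cfsg.Agent.H906.E6.SixC (j j_injective j_surj eq_one_of_id)

universe u

/-! ### linear algebra -/

section lin

variable {K : Type*} [Field K] {W : Type*} [AddCommGroup W] [Module K W] [FiniteDimensional K W]

/-- an element of order five inverted by an involution, characteristic 2 -/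
theorem even_aux [CharP K 2] {T B : Module.End K W} (hT : T ^ 5 = 1) (hB : B ^ 2 = 1) (hBT : (B * T) ^ 2 = 1) :
    ∃ m, finrank K W = ev T 1 + 2 * m := by
  have h2 : (2 : K) = 0 := CharTwo.two_eq_zero
  obtain ⟨Y, hY⟩ : ∃ Y, Y = LinearMap.range (T - 1) := ⟨_, rfl⟩
  have h1 := H952.F4.Scott.rank_add_ev T
  rw [← hY] at h1
  have hTT : ∀ w, T (T (T (T (T w)))) = w := by
    intro w
    have := LinearMap.congr_fun hT w
    rw [pow_succ, pow_succ, pow_succ, pow_two] at this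
    exact this
  have hBB : ∀ w, B (B w) = w := by
    intro w
    have := LinearMap.congr_fun hB w
    rwa [pow_two] at this
  have hBTT : ∀ w, B (T (B (T w))) = w := by
    intro w
    have := LinearMap.congr_fun hBT w
    rwa [pow_two] at this
  have hYT : ∀ w ∈ Y, T w ∈ Y := by
    rw [hY]
    rintro _ ⟨w, rfl⟩
    exact ⟨T w, by show T (T w) - T w = T (T w - w); rw [map_sub]⟩
  have hYB : ∀ w ∈ Y, B w ∈ Y := by
    rw [hY]
    rintro _ ⟨w, rfl⟩
    refine ⟨-B (T w), ?_⟩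
    show T (-B (T w)) - (-B (T w)) = B (T w - w)
    have h3 : T (B (T w)) = B w := by rw [← hBB (T (B (T w))), hBTT]
    rw [map_neg, h3, map_sub]
    abel
  have hYBT : ∀ w ∈ Y, (B * T) w ∈ Y := fun w hw => hYB _ (hYT w hw)
  have e1 := two_mul_ev (T := B.restrict hYB) (LinearMap.ext fun w => Subtype.ext (LinearMap.congr_fun hB w))
  have e2 := two_mul_ev (T := (B * T).restrict hYBT) (LinearMap.ext fun w => Subtype.ext (LinearMap.congr_fun hBT w))
  rw [ev_restrict] at e1 e2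
  have h3 : (Y ⊓ Module.End.eigenspace B 1) ⊓ (Y ⊓ Module.End.eigenspace (B * T) 1) = ⊥ := by
    rw [Submodule.eq_bot_iff]
    rintro w ⟨⟨hw, h3⟩, -, h4⟩
    have h3' : B w = w := by
      have := Module.End.mem_eigenspace_iff.1 h3
      rwa [one_smul] at this
    have h4' : B (T w) = w := by
      have := Module.End.mem_eigenspace_iff.1 h4
      rwa [one_smul] at this
    have h5 : T w = w := by rw [← hBB (T w), h4', h3']
    rw [hY] at hw
    obtain ⟨u, hu⟩ := hw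
    have hu' : T u = u + w := by
      have : T u - u = w := hu
      rw [← this]
      abel
    have h6 := hTT u
    simp only [hu', map_add, h5] at h6
    have h7 : w + (w + (w + (w + w))) = 0 := by
      have h8 : u + w + w + w + w + w = u := h6
      have h9 : w + (w + (w + (w + w))) = (u + w + w + w + w + w) - u := by abel
      rw [h9, h8, sub_self]
    have h8 : w + (w + (w + (w + w))) = w := by
      have h9 : w + (w + (w + (w + w))) = (2 : K) • ((2 : K) • w) + w := by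
        rw [two_smul, two_smul]
        abel
      rw [h9, h2, zero_smul, zero_add]
    rw [← h8, h7]
  have h4 := Submodule.finrank_sup_add_finrank_inf_eq (Y ⊓ Module.End.eigenspace B 1) (Y ⊓ Module.End.eigenspace (B * T) 1)
  rw [h3, finrank_bot] at h4
  have h5 : finrank K ↥((Y ⊓ Module.End.eigenspace B 1) ⊔ (Y ⊓ Module.End.eigenspace (B * T) 1)) ≤ finrank K ↥Y :=
    Submodule.finrank_mono (sup_le inf_le_left inf_le_left)
  exact ⟨finrank K ↥(Y ⊓ Module.End.eigenspace B 1), by omega⟩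

end lin

/-! ### elements of order five -/

open scoped Pointwise in
theorem conj_five {a b : A6} (ha : orderOf a = 5) (hb : orderOf b = 5) : ∃ g : A6, ∃ k : ℕ, b = g * a ^ k * g⁻¹ := by
  have : Fact (Nat.Prime 5) := ⟨by norm_num⟩
  have hc : Nat.card A6 = 360 := by
    rw [_root_.nat_card_alternatingGroup, _root_.Nat.card_eq_fintype_card, _root_.Fintype.card_fin]
    rfl
  have hf : (Nat.card A6).factorization 5 = 1 := by
    rw [hc]
    rw [show (360 : ℕ) = 5 * 72 by norm_num, Nat.factorization_mul (by norm_num) (by norm_num)]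
    have h1 : Nat.factorization 5 5 = 1 := Nat.Prime.factorization_self (by norm_num)
    have h2 : Nat.factorization 72 5 = 0 := Nat.factorization_eq_zero_of_not_dvd (by norm_num)
    rw [Finsupp.add_apply, h1, h2]
  have hza : Nat.card ↥(Subgroup.zpowers a) = 5 ^ (Nat.card A6).factorization 5 := by
    rw [hf, pow_one, Nat.card_zpowers, ha]
  have hzb : Nat.card ↥(Subgroup.zpowers b) = 5 ^ (Nat.card A6).factorization 5 := by
    rw [hf, pow_one, Nat.card_zpowers, hb]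
  obtain ⟨g, hg⟩ := MulAction.exists_smul_eq A6 (Sylow.ofCard _ hza) (Sylow.ofCard _ hzb)
  have h1 : b ∈ (g • Sylow.ofCard (p := 5) _ hza : Sylow 5 A6) := by
    rw [hg]
    exact Subgroup.mem_zpowers b
  have h2 : g⁻¹ * b * g ∈ Subgroup.zpowers a := by
    have h3 : b ∈ MulAut.conj g • (Subgroup.zpowers a) := h1
    rw [Subgroup.mem_pointwise_smul_iff_inv_smul_mem] at h3
    have h4 : (MulAut.conj g)⁻¹ • b = g⁻¹ * b * g := by
      rw [← map_inv]
      show g⁻¹ * b * g⁻¹⁻¹ = _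
      rw [inv_inv]
    rwa [h4] at h3
  obtain ⟨k, hk⟩ := (Submonoid.mem_powers_iff _ _).1 ((mem_powers_iff_mem_zpowers).2 h2)
  exact ⟨g, k, by rw [hk]; group⟩

theorem real_five : ∀ a : ↥(alternatingGroup (Fin 5)), a ^ 5 = 1 → ∃ k : ↥(alternatingGroup (Fin 5)), k ^ 2 = 1 ∧
    (k * a) ^ 2 = 1 := by
  simp only [↓Cfsg.Agent.PermCode.M, Cfsg.Agent.PermCode.P5.R, Cfsg.Agent.PermCode.B]
  decide +kernel

variable {F : Type u} [Field F] [Finite F] {φ : A6 →* ↥(chevE6.group F)}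

omit [Finite F] in
/-- the fixed spaces of the elements of order five, inequality -/
theorem fix_le (hφ : Function.Injective φ) {ρ : Representation F ↥(Zgrp F) (I27 → F)} {U : Submodule F (I27 → F)} (hU : Stab ρ φ.range U) {z z' : ↥(Zgrp F)}
    (hz : ad F z ∈ φ.range) (hz' : ad F z' ∈ φ.range) (h1 : z ≠ 1) (h1' : z' ≠ 1) (h5 : z ^ 5 = 1) (h5' : z' ^ 5 = 1) :
    finrank F ↥(U ⊓ Module.End.eigenspace (ρ z) 1) ≤ finrank F ↥(U ⊓ Module.End.eigenspace (ρ z') 1) := by
  have key : ∀ {z : ↥(Zgrp F)}, z ≠ 1 → z ^ 5 = 1 → ∀ {a : A6}, φ a = ad F z → orderOf a = 5 := by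
    intro z h1 h5 a ha
    have : Fact (Nat.Prime 5) := ⟨by norm_num⟩
    refine orderOf_eq_prime (hφ (by rw [map_pow, ha, ← map_pow, h5, map_one, map_one])) ?_
    rintro rfl
    have h2 : z ^ 3 = 1 := Cov.ker_pow (by rw [← ha, map_one])
    apply h1
    have h3 : z ^ 6 = 1 := by rw [show (6 : ℕ) = 3 * 2 by norm_num, pow_mul, h2, one_pow]
    rw [pow_succ, h5, one_mul] at h3
    exact h3
  obtain ⟨a, ha⟩ := hz
  obtain ⟨a', ha'⟩ := hz'
  obtain ⟨g, k, hg⟩ := conj_five (key h1 h5 ha) (key h1' h5' ha')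
  obtain ⟨h, hh⟩ := ad_surjective (φ g)
  -- the lift of order five
  have h2 : ad F (h * z ^ k * h⁻¹) = ad F z' := by
    rw [map_mul, map_mul, map_inv, map_pow, hh, ← ha, ← ha', hg, map_mul, map_mul, map_inv, map_pow]
  have h3 : z' = h * z ^ k * h⁻¹ := by
    obtain ⟨w, hw⟩ : ∃ w, w = z'⁻¹ * (h * z ^ k * h⁻¹) := ⟨_, rfl⟩
    have hw1 : ad F w = 1 := by rw [hw, map_mul, h2, map_inv, inv_mul_cancel]
    have hw3 := Cov.ker_pow hw1
    have hwc := Cov.ker_comm hw1
    have e1 : h * z ^ k * h⁻¹ = z' * w := by rw [hw]; group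
    have e2 : (h * z ^ k * h⁻¹) ^ 5 = 1 := by
      rw [conj_pow, ← pow_mul, mul_comm, pow_mul, h5, one_pow, mul_one, mul_inv_cancel]
    have hcm : Commute z' w := hwc z'
    rw [e1, hcm.mul_pow, h5', one_mul] at e2
    have e3 : w = 1 := by
      have e4 : w ^ 6 = 1 := by rw [show (6 : ℕ) = 3 * 2 by norm_num, pow_mul, hw3, one_pow]
      rwa [pow_succ, e2, one_mul] at e4
    rw [e1, e3, mul_one]
  have hst : ∀ w, w ∈ U ⊓ Module.End.eigenspace (ρ z) 1 → ρ h w ∈ U ⊓ Module.End.eigenspace (ρ z') 1 := by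
    rintro w ⟨hw, hw1⟩
    refine ⟨hU h ⟨g, hh.symm⟩ w hw, ?_⟩
    rw [SetLike.mem_coe, Module.End.mem_eigenspace_iff, one_smul] at hw1 ⊢
    have h4 : ∀ k : ℕ, ρ (z ^ k) w = w := by
      intro k
      induction k with
      | zero => rw [pow_zero, map_one]; rfl
      | succ k ih => rw [pow_succ, rho_mul, hw1, ih]
    rw [h3, ← rho_mul, inv_mul_cancel_right, rho_mul, h4]
  refine LinearMap.finrank_le_finrank_of_injective
    (f := (ρ h).restrict (p := U ⊓ Module.End.eigenspace (ρ z) 1) (q := U ⊓ Module.End.eigenspace (ρ z') 1) hst) ?_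
  intro u v huv
  have h4 : ρ h u = ρ h v := congrArg Subtype.val huv
  have h5 := congrArg (ρ h⁻¹) h4
  rw [← rho_mul, ← rho_mul, inv_mul_cancel, map_one] at h5
  exact Subtype.ext h5

/-- the fixed space of an element of order five on a stable subspace is at most half of it -/
theorem fix_half [CharP F 2] (hφ : Function.Injective φ) {ω : Fˣ} (hc : Cover φ ω) {ρ : Representation F ↥(Zgrp F) (I27 → F)}
    (hρ : ρ = V F ∨ ρ = V' F) {U : Submodule F (I27 → F)} (hU : Stab ρ φ.range U) {z : ↥(Zgrp F)}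
    (hz : ad F z ∈ φ.range) (h1 : z ≠ 1) (h5 : z ^ 5 = 1) :
    2 * finrank F ↥(U ⊓ Module.End.eigenspace (ρ z) 1) ≤ finrank F ↥U := by
  obtain ⟨x, y, hgen, -, hy, hxy⟩ := H952.F4.Gen.gen6a
  have lift : ∀ a : A6, (a : Perm (Fin 6)).cycleType = {5} → ∃ w : ↥(Zgrp F), ad F w = φ a ∧ w ≠ 1 ∧ w ^ 5 = 1 := by
    intro a ha
    have oa : orderOf a = 5 := by
      rw [← Subgroup.orderOf_coe, ← Perm.lcm_cycleType, ha]
      decide
    obtain ⟨g, hg⟩ := ad_surjective (φ a)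
    have h2 : ad F (g ^ 5) = 1 := by rw [map_pow, hg, ← map_pow, ← oa, pow_orderOf_eq_one, map_one]
    have h3 := Cov.ker_pow h2
    refine ⟨g ^ 6, ?_, ?_, ?_⟩
    · rw [pow_succ, map_mul, h2, one_mul, hg]
    · intro h4
      have h5 : φ a = 1 := by
        have h6 := congrArg (ad F) h4
        rw [pow_succ, map_mul, h2, one_mul, hg, map_one] at h6
        exact h6
      have h6 : a = 1 := hφ (by rw [h5, map_one])
      rw [h6, orderOf_one] at oa
      omega
    · rw [← pow_mul, show 6 * 5 = 5 * 3 * 2 by norm_num, pow_mul, pow_mul, h3, one_pow]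
  obtain ⟨b, hb, hb1, hb5⟩ := lift y hy
  obtain ⟨c, hc', hc1, hc5⟩ := lift (x * y) hxy
  have e1 := fix_le hφ hU hz ⟨y, hb.symm⟩ h1 hb1 h5 hb5
  have e2 := fix_le hφ hU hz ⟨x * y, hc'.symm⟩ h1 hc1 h5 hc5
  have h3 : (U ⊓ Module.End.eigenspace (ρ b) 1) ⊓ (U ⊓ Module.End.eigenspace (ρ c) 1) = ⊥ := by
    rw [Submodule.eq_bot_iff]
    rintro v ⟨⟨-, h3⟩, -, h4⟩
    rw [SetLike.mem_coe, Module.End.mem_eigenspace_iff, one_smul] at h3 h4
    by_contra hv
    -- the line of `v` is stable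
    have key : ∀ a : A6, ∀ g : ↥(Zgrp F), ad F g = φ a → ∃ s : F, ρ g v = s • v := by
      intro a
      have hab : ∀ {a : A6} {w : ↥(Zgrp F)}, ad F w = φ a → ρ w v = v →
          ∀ g : ↥(Zgrp F), ad F g = φ a → ∃ s : F, ρ g v = s • v := by
        intro a w hw hv g hg
        obtain ⟨s, hs⟩ := exists_smul (z := g * w⁻¹) (by rw [map_mul, map_inv, hg, hw, mul_inv_cancel]) hρ
        refine ⟨s, ?_⟩
        rw [← hs]
        conv_rhs => rw [← hv]
        rw [← rho_mul, inv_mul_cancel_right]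
      have hgen' : Subgroup.closure {y, x * y} = ⊤ := by
        rw [eq_top_iff, ← hgen, Subgroup.closure_le]
        have hy' : y ∈ Subgroup.closure {y, x * y} := Subgroup.subset_closure (by simp)
        have hxy' : x * y ∈ Subgroup.closure {y, x * y} := Subgroup.subset_closure (by simp)
        rintro w (rfl | rfl)
        · have := Subgroup.mul_mem _ hxy' (Subgroup.inv_mem _ hy')
          rwa [mul_inv_cancel_right] at this
        · exact hy'
      refine H952.F4.Scott.fix_all (P := fun a : A6 => ∀ g : ↥(Zgrp F), ad F g = φ a → ∃ s : F, ρ g v = s • v)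
        hgen' (hab hb h3) (hab hc' h4) ?_ ?_ ?_ a
      · intro g hg
        obtain ⟨s, hs⟩ := exists_smul (z := g) (by rw [hg, map_one]) hρ
        exact ⟨s, hs v⟩
      · intro a a' ha ha' g hg
        obtain ⟨g', hg'⟩ := ad_surjective (φ a')
        obtain ⟨s', hs'⟩ := ha' g' hg'
        obtain ⟨s, hs⟩ := ha (g * g'⁻¹) (by rw [map_mul, map_inv, hg, hg', map_mul, mul_inv_cancel_right])
        refine ⟨s' * s, ?_⟩
        have h5 : ρ g v = ρ (g * g'⁻¹) (ρ g' v) := by rw [← rho_mul, inv_mul_cancel_right]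
        rw [h5, hs', map_smul, hs, smul_smul]
      · intro a ha g hg
        obtain ⟨s, hs⟩ := ha g⁻¹ (by rw [map_inv, hg, map_inv, inv_inv])
        have hs0 : s ≠ 0 := by
          rintro rfl
          rw [zero_smul] at hs
          have h5 := congrArg (ρ g) hs
          rw [← rho_mul, mul_inv_cancel, map_one, map_zero] at h5
          exact hv h5
        refine ⟨s⁻¹, ?_⟩
        have h5 : ρ g (s • v) = v := by rw [← hs, ← rho_mul, mul_inv_cancel, map_one]; rfl
        rw [map_smul] at h5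
        rw [← h5, smul_smul, inv_mul_cancel₀ hs0, one_smul, h5]
    have hst : Stab ρ φ.range (Submodule.span F {v}) := by
      rintro g ⟨a, ha⟩ w hw
      obtain ⟨t, rfl⟩ := Submodule.mem_span_singleton.1 hw
      obtain ⟨s, hs⟩ := key a g ha.symm
      rw [map_smul, hs]
      exact Submodule.smul_mem _ _ (Submodule.smul_mem _ _ (Submodule.mem_span_singleton_self v))
    have h4 := three_dvd hφ hc hρ hst
    rw [finrank_span_singleton hv] at h4
    omega
  have h4 := Submodule.finrank_sup_add_finrank_inf_eq (U ⊓ Module.End.eigenspace (ρ b) 1)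
    (U ⊓ Module.End.eigenspace (ρ c) 1)
  rw [h3, finrank_bot] at h4
  have h5 : finrank F ↥((U ⊓ Module.End.eigenspace (ρ b) 1) ⊔ (U ⊓ Module.End.eigenspace (ρ c) 1)) ≤ finrank F ↥U :=
    Submodule.finrank_mono (sup_le inf_le_left inf_le_left)
  omega

/-- the parity -/
theorem fix_even [CharP F 2] (hφ : Function.Injective φ) {ρ : Representation F ↥(Zgrp F) (I27 → F)} {U : Submodule F (I27 → F)} (hU : Stab ρ φ.range U) {z : ↥(Zgrp F)}
    (hz : ad F z ∈ φ.range) (h1 : z ≠ 1) (h5 : z ^ 5 = 1) :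
    ∃ m, finrank F ↥U = finrank F ↥(U ⊓ Module.End.eigenspace (ρ z) 1) + 2 * m := by
  have : Fact (Nat.Prime 2) := ⟨Nat.prime_two⟩
  obtain ⟨ψ, hψ⟩ : ∃ ψ : ↥(alternatingGroup (Fin 5)) →* ↥(Zgrp F), Lift (φ.comp j) ψ := by
    rcases Cov.exists_lift (n := 5) le_rfl (φ := φ.comp j) (hφ.comp j_injective) with h | ⟨h | h, -⟩
    · exact h
    · omega
    · omega
  have hψ' : ∀ a, ad F (ψ a) = φ (j a) := hψ
  have hψm : ∀ a, ad F (ψ a) ∈ φ.range := fun a => ⟨j a, (hψ' a).symm⟩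
  obtain ⟨x, y, -, -, -, hxy⟩ := H952.F4.Gen.gen5
  have oz : orderOf (x * y) = 5 := by
    rw [← Subgroup.orderOf_coe, ← Perm.lcm_cycleType, hxy]
    decide
  have hz5 : (x * y) ^ 5 = 1 := orderOf_dvd_iff_pow_eq_one.1 (by rw [oz])
  obtain ⟨w, hw⟩ : ∃ w, w = x * y := ⟨_, rfl⟩
  rw [← hw] at oz hz5
  have hne : ψ w ≠ 1 := by
    intro h6
    have h7 : φ (j w) = 1 := by rw [← hψ', h6, map_one]
    have h8 : w = 1 := j_injective (hφ (by rw [h7, map_one, map_one]))
    rw [h8, orderOf_one] at oz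
    omega
  have hp5 : ψ w ^ 5 = 1 := by rw [← map_pow, hz5, map_one]
  have e1 := fix_le hφ hU hz (hψm w) h1 hne h5 hp5
  have e2 := fix_le hφ hU (hψm w) hz hne h1 hp5 h5
  obtain ⟨k, hk, hkw⟩ := real_five w hz5
  obtain ⟨m, hm⟩ := even_aux (T := (ρ (ψ w)).restrict (hU _ (hψm w))) (B := (ρ (ψ k)).restrict (hU _ (hψm k)))
    (by
      refine LinearMap.ext fun u => Subtype.ext ?_
      have h6 : ρ (ψ w ^ 5) u = u := by rw [hp5, map_one]; rfl
      rw [pow_succ, pow_succ, pow_succ, pow_two] at h6 ⊢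
      rw [rho_mul, rho_mul, rho_mul, rho_mul] at h6
      exact h6)
    (by
      refine LinearMap.ext fun u => Subtype.ext ?_
      have h6 : ρ (ψ k ^ 2) u = u := by rw [← map_pow, hk, map_one, map_one]; rfl
      rw [pow_two] at h6 ⊢
      rw [rho_mul] at h6
      exact h6)
    (by
      refine LinearMap.ext fun u => Subtype.ext ?_
      have h6 : ρ ((ψ k * ψ w) ^ 2) u = u := by rw [← map_mul, ← map_pow, hkw, map_one, map_one]; rfl
      rw [pow_two] at h6 ⊢
      rw [rho_mul, rho_mul, rho_mul] at h6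
      exact h6)
  rw [ev_restrict] at hm
  exact ⟨m, by omega⟩

/-- on a stable subspace of dimension six -/
theorem fix_six [CharP F 2] (hφ : Function.Injective φ) {ω : Fˣ} (hc : Cover φ ω) {ρ : Representation F ↥(Zgrp F) (I27 → F)}
    (hρ : ρ = V F ∨ ρ = V' F) {U : Submodule F (I27 → F)} (hU : Stab ρ φ.range U) (h6 : finrank F ↥U = 6) {z : ↥(Zgrp F)}
    (hz : ad F z ∈ φ.range) (h1 : z ≠ 1) (h5 : z ^ 5 = 1) :
    finrank F ↥(U ⊓ Module.End.eigenspace (ρ z) 1) ≤ 2 := by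
  have e1 := fix_half hφ hc hρ hU hz h1 h5
  obtain ⟨m, hm⟩ := fix_even hφ hU hz h1 h5
  omega

end Cfsg.Agent.H944.E6CovKer
end

-- part: H906/E6/BoxR
section
/-!
# S5927, S5928, `p = 2`, three-fold cover of `A₆`: three-dimensional modules (helper906)

Involutions act as transvections; the Klein groups `E₀`, `E₁` have a common centre or a common axis. Klein lemma;
the tensor product of two modules of different types is irreducible.
-/

set_option autoImplicit false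
set_option linter.unusedSectionVars false

namespace Cfsg.Agent.H906.E6.Hexa

open Module Equiv

/-- `(0 1)(4 5)`; the second Klein group is `{1, a1, k2, k3}` -/
def k2 : A6 := mk (swap (0 : Fin 6) 1 * swap (4 : Fin 6) 5) (by decide)
def k3 : A6 := mk (swap (2 : Fin 6) 3 * swap (4 : Fin 6) 5) (by decide)

section tv

variable {F : Type*} [Field F] [CharP F 2] {U : Type*} [AddCommGroup U] [Module F U]

omit [CharP F 2] in
/-- a functional with value 1 -/
theorem exists_one {l : U →ₗ[F] F} (hl : l ≠ 0) : ∃ x, l x = 1 := by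
  by_contra hn
  apply hl
  apply LinearMap.ext
  intro x
  by_contra hx
  exact hn ⟨(l x)⁻¹ • x, by rw [map_smul, smul_eq_mul, inv_mul_cancel₀ hx]⟩

omit [CharP F 2] in
/-- proportional functionals -/
theorem smul_of_ker_le {l m : U →ₗ[F] F} (hl : l ≠ 0) (h : ∀ x, l x = 0 → m x = 0) : ∃ c : F, ∀ x, m x = c * l x := by
  obtain ⟨x0, hx0⟩ := exists_one hl
  refine ⟨m x0, fun x => ?_⟩
  have h1 := h (x - l x • x0) (by rw [map_sub, map_smul, hx0, smul_eq_mul, mul_one, sub_self])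
  rw [map_sub, map_smul, smul_eq_mul] at h1
  linear_combination h1

/-- a transvection -/
structure Tv (t : U →ₗ[F] U) (a : U) (l : U →ₗ[F] F) : Prop where
  a0 : a ≠ 0
  l0 : l ≠ 0
  la : l a = 0
  eq : ∀ x, t x = x + l x • a

/-- involutions on a 3-dimensional space are transvections -/
theorem exists_tv [Module.Finite F U] (h3 : finrank F U = 3) {t : U →ₗ[F] U} (ht : ∀ x, t (t x) = x) (h1 : t ≠ 1) :
    ∃ a l, Tv t a l := by
  let n : U →ₗ[F] U := t - 1
  have hn : ∀ x, n x = t x - x := fun x => rfl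
  have hnn : ∀ x, n (n x) = 0 := by
    intro x
    rw [hn, hn, map_sub, ht]
    have h2 := add_self F (x - t x)
    rw [← h2]
    abel
  have hle : LinearMap.range n ≤ LinearMap.ker n := by
    rintro _ ⟨x, rfl⟩
    exact hnn x
  have hd := LinearMap.finrank_range_add_finrank_ker n
  have hd' := Submodule.finrank_mono hle
  rw [h3] at hd
  obtain ⟨x0, hx0⟩ : ∃ x, n x ≠ 0 := by
    by_contra hne
    push Not at hne
    apply h1
    apply LinearMap.ext
    intro x
    have h2 := hne x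
    rw [hn, sub_eq_zero] at h2
    exact h2
  have hmem : ∀ x, ∃ c : F, n x = c • n x0 := by
    intro x
    have h2 : finrank F (LinearMap.range n) = 1 := by
      have h4 : 0 < finrank F (LinearMap.range n) := by
        rw [Module.finrank_pos_iff_exists_ne_zero]
        exact ⟨⟨n x0, x0, rfl⟩, fun he => hx0 (congrArg Subtype.val he)⟩
      omega
    have h4 := (finrank_eq_one_iff_of_nonzero' (⟨n x0, x0, rfl⟩ : LinearMap.range n)
      (fun he => hx0 (congrArg Subtype.val he))).1 h2 ⟨n x, x, rfl⟩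
    obtain ⟨c, hc⟩ := h4
    exact ⟨c, (congrArg Subtype.val hc).symm⟩
  obtain ⟨f, hf⟩ : ∃ f : U →ₗ[F] F, f (n x0) = 1 := by
    obtain ⟨g, hg⟩ : ∃ g : Module.Dual F U, g (n x0) ≠ 0 := by
      by_contra hcon
      push Not at hcon
      exact hx0 ((Module.forall_dual_apply_eq_zero_iff F _).1 hcon)
    exact ⟨(g (n x0))⁻¹ • g, by
      rw [LinearMap.smul_apply, smul_eq_mul, inv_mul_cancel₀ hg]⟩
  refine ⟨n x0, f ∘ₗ n, hx0, ?_, ?_, ?_⟩
  · intro h2
    have h4 := LinearMap.congr_fun h2 x0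
    rw [LinearMap.comp_apply, hf] at h4
    exact one_ne_zero h4
  · rw [LinearMap.comp_apply, hnn, map_zero]
  · intro x
    obtain ⟨c, hc⟩ := hmem x
    rw [LinearMap.comp_apply, hc, map_smul, hf, smul_eq_mul, mul_one, ← hc, hn]
    abel

/-- a Klein group with a common centre -/
structure Cc (t1 t2 : U →ₗ[F] U) (a : U) (l1 l2 : U →ₗ[F] F) : Prop where
  v1 : Tv t1 a l1
  v2 : Tv t2 a l2

/-- a Klein group with a common axis -/
structure Ca (t1 t2 : U →ₗ[F] U) (l : U →ₗ[F] F) (a1 a2 : U) : Prop where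
  v1 : Tv t1 a1 l
  v2 : Tv t2 a2 l

theorem dich [Module.Finite F U] (h3 : finrank F U = 3) {t1 t2 : U →ₗ[F] U} (h11 : ∀ x, t1 (t1 x) = x)
    (h22 : ∀ x, t2 (t2 x) = x) (h12 : ∀ x, t1 (t2 x) = t2 (t1 x)) (n1 : t1 ≠ 1) (n2 : t2 ≠ 1) (n12 : t1 * t2 ≠ 1) :
    (∃ a l1 l2, Cc t1 t2 a l1 l2) ∨ ∃ l a1 a2, Ca t1 t2 l a1 a2 := by
  obtain ⟨a1, l1, v1⟩ := exists_tv h3 h11 n1
  obtain ⟨a2, l2, v2⟩ := exists_tv h3 h22 n2
  obtain ⟨a3, l3, v3⟩ := exists_tv (t := t1 * t2) h3 (fun x => by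
    show t1 (t2 (t1 (t2 x))) = x
    rw [← h12, h11, h22]) n12
  by_cases hc : ∃ c : F, a2 = c • a1
  · obtain ⟨c, rfl⟩ := hc
    have hc0 : c ≠ 0 := by
      rintro rfl
      exact v2.a0 (zero_smul _ _)
    refine Or.inl ⟨a1, l1, c • l2, v1, v1.a0, ?_, ?_, ?_⟩
    · exact smul_ne_zero hc0 v2.l0
    · have h4 := v2.la
      rw [map_smul, smul_eq_mul] at h4
      rw [LinearMap.smul_apply, smul_eq_mul]
      exact h4
    · intro x
      rw [v2.eq, LinearMap.smul_apply, smul_eq_mul, smul_smul, mul_comm]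
  · right
    have key : ∀ x, (l2 x * l1 a2) • a1 = (l1 x * l2 a1) • a2 := by
      intro x
      have h4 := h12 x
      rw [v1.eq (t2 x), v2.eq x, v2.eq (t1 x), v1.eq x, map_add, map_add, map_smul, map_smul, smul_eq_mul,
        smul_eq_mul, add_smul, add_smul] at h4
      have h5 : x + l2 x • a2 + (l1 x • a1 + (l2 x * l1 a2) • a1) - (x + l1 x • a1 + (l2 x • a2 + (l1 x * l2 a1) • a2)) =
          (l2 x * l1 a2) • a1 - (l1 x * l2 a1) • a2 := by abel
      rw [h4, sub_self] at h5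
      exact (sub_eq_zero.1 h5.symm)
    have hl12 : l2 a1 = 0 := by
      by_contra hne
      obtain ⟨x, hx⟩ := exists_one v1.l0
      refine hc ⟨(l2 a1)⁻¹ * (l2 x * l1 a2), ?_⟩
      rw [mul_smul, key x, hx, one_mul, smul_smul, inv_mul_cancel₀ hne, one_smul]
    have hl21 : l1 a2 = 0 := by
      by_contra hne
      obtain ⟨x, hx⟩ := exists_one v2.l0
      have h4 := key x
      rw [hl12, mul_zero, zero_smul, hx, one_mul] at h4
      exact v1.a0 ((smul_eq_zero.1 h4).resolve_left hne)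
    have e3 : ∀ x, l1 x • a1 + l2 x • a2 = l3 x • a3 := by
      intro x
      have h4 : t1 (t2 x) = x + l3 x • a3 := v3.eq x
      rw [v1.eq, v2.eq, map_add, map_smul, hl21, smul_zero, add_zero] at h4
      have h5 : x + l2 x • a2 + l1 x • a1 - x = x + l3 x • a3 - x := by rw [h4]
      rw [add_sub_cancel_left] at h5
      rw [← h5]
      abel
    have hcase : (∀ x, l1 x = 0 → l2 x = 0) ∨ (∀ x, l2 x = 0 → l1 x = 0) := by
      by_contra hcon
      push Not at hcon
      obtain ⟨⟨x, hx1, hx2⟩, ⟨y, hy2, hy1⟩⟩ := hcon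
      have h4 := e3 x
      have h5 := e3 y
      rw [hx1, zero_smul, zero_add] at h4
      rw [hy2, zero_smul, add_zero] at h5
      have h6 : l3 y ≠ 0 := by
        intro h0
        rw [h0, zero_smul] at h5
        exact v1.a0 ((smul_eq_zero.1 h5).resolve_left hy1)
      refine hc ⟨(l2 x)⁻¹ * (l3 x * ((l3 y)⁻¹ * l1 y)), ?_⟩
      rw [mul_smul, mul_smul, mul_smul, h5, smul_smul (l3 y)⁻¹, inv_mul_cancel₀ h6, one_smul, ← h4, smul_smul,
        inv_mul_cancel₀ hx2, one_smul]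
    have hker : ∀ x, l1 x = 0 → l2 x = 0 := by
      rcases hcase with h4 | h4
      · exact h4
      · obtain ⟨c, hcc⟩ := smul_of_ker_le v2.l0 h4
        have hc0 : c ≠ 0 := by
          rintro rfl
          obtain ⟨x, hx⟩ := exists_one v1.l0
          rw [hcc, zero_mul] at hx
          exact zero_ne_one hx
        intro x hx
        rw [hcc] at hx
        exact (mul_eq_zero.1 hx).resolve_left hc0
    obtain ⟨c, hcc⟩ := smul_of_ker_le v1.l0 hker
    have hc0 : c ≠ 0 := by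
      rintro rfl
      obtain ⟨x, hx⟩ := exists_one v2.l0
      rw [hcc, zero_mul] at hx
      exact zero_ne_one hx
    refine ⟨l1, a1, c • a2, v1, smul_ne_zero hc0 v2.a0, v1.l0, ?_, ?_⟩
    · rw [map_smul, hl21, smul_zero]
    · intro x
      rw [v2.eq, hcc, smul_smul, mul_comm]

omit [CharP F 2] in
theorem Tv.comm {t t' : U →ₗ[F] U} {a a' : U} {l l' : U →ₗ[F] F} (v : Tv t a l) (v' : Tv t' a' l')
    (h : (∃ c : F, a' = c • a) ∨ ∃ c : F, ∀ x, l' x = c * l x) (x : U) : t (t' x) = t' (t x) := by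
  have h1 : l a' = 0 ∧ l' a = 0 := by
    rcases h with ⟨c, rfl⟩ | ⟨c, hc⟩
    · have hc0 : c ≠ 0 := by
        rintro rfl
        exact v'.a0 (zero_smul _ _)
      have h2 := v'.la
      rw [map_smul, smul_eq_mul] at h2
      exact ⟨by rw [map_smul, v.la, smul_zero], (mul_eq_zero.1 h2).resolve_left hc0⟩
    · have hc0 : c ≠ 0 := by
        rintro rfl
        obtain ⟨x, hx⟩ := exists_one v'.l0
        rw [hc, zero_mul] at hx
        exact zero_ne_one hx
      have h2 := v'.la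
      rw [hc] at h2
      exact ⟨(mul_eq_zero.1 h2).resolve_left hc0, by rw [hc, v.la, mul_zero]⟩
  rw [v'.eq x, v.eq x, map_add, map_add, map_smul, map_smul, v.eq x, v'.eq x, v.eq a', v'.eq a, h1.1, h1.2, zero_smul,
    zero_smul, add_zero, add_zero]
  abel

omit [CharP F 2] in
/-- the centre is unique -/
theorem Tv.centre {t : U →ₗ[F] U} {a a' : U} {l l' : U →ₗ[F] F} (v : Tv t a l) (v' : Tv t a' l') :
    ∃ c : F, a' = c • a := by
  obtain ⟨x, hx⟩ := exists_one v'.l0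
  have h1 := v.eq x
  rw [v'.eq x, hx, one_smul] at h1
  exact ⟨l x, add_left_cancel h1⟩

omit [CharP F 2] in
/-- the axis is unique -/
theorem Tv.axis {t : U →ₗ[F] U} {a a' : U} {l l' : U →ₗ[F] F} (v : Tv t a l) (v' : Tv t a' l') :
    ∃ c : F, ∀ x, l' x = c * l x := by
  refine smul_of_ker_le v.l0 fun x hx => ?_
  have h1 := v.eq x
  rw [v'.eq x, hx, zero_smul] at h1
  exact (smul_eq_zero.1 (add_left_cancel h1)).resolve_right v'.a0

end tv

/-! ### three-dimensional modules -/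

section tri

variable {F : Type*} [Field F] [CharP F 2] {U : Type*} [AddCommGroup U] [Module F U] [Module.Finite F U]
  {P : Type*} [Group P] {π : P →* A6} {ρ : Representation F P U} {x y : P} {ω : F}

/-- a three-dimensional module -/
structure Tri (π : P →* A6) (ρ : Representation F P U) (x y : P) (ω : F) : Prop where
  T : XY π ρ x y ω
  dim : finrank F U = 3
  ker : ∀ z, π z = 1 → ∃ c : F, ∀ u, ρ z u = c • u

omit [CharP F 2] in
theorem Tri.stable (M : Tri π ρ x y ω) {W : Submodule F U} (hW : ∀ b, ∀ w ∈ W, ρ b w ∈ W) : W = ⊥ ∨ W = ⊤ := by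
  obtain ⟨k, hk⟩ := M.T.three_dvd W hW
  have h1 := Submodule.finrank_le W
  rw [M.dim] at h1
  have h2 : k = 0 ∨ k = 1 := by omega
  rcases h2 with rfl | rfl
  · exact Or.inl (Submodule.finrank_eq_zero.1 (by omega))
  · exact Or.inr (Submodule.eq_top_of_finrank_eq (by rw [M.dim]; omega))

/-- involutions act non-trivially -/
theorem Tri.nt (M : Tri π ρ x y ω) (h : Ext π) {a : A6} (ha : a * a = 1) (hc : ∃ c : A6, c * a * c⁻¹ = a1) :
    ρ (h.s a) ≠ 1 := by
  intro h1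
  have hcj : ∀ (a b c : A6), a * a = 1 → c * a * c⁻¹ = b → ρ (h.s a) = 1 → ρ (h.s b) = 1 := by
    intro a b c ha hcb h1
    obtain ⟨g, rfl⟩ := h.surj c
    have h2 := h.s_conj ha g
    rw [hcb] at h2
    rw [← h2, map_mul, map_mul, h1, mul_one, ← map_mul, mul_inv_cancel, map_one]
  obtain ⟨c, hc⟩ := hc
  have e1 := hcj a a1 c ha hc h1
  have e2 := hcj a1 g1 (Hexa.mk (swap (2 : Fin 6) 3 * swap (3 : Fin 6) 4) (by decide)) (by decide) (by decide +kernel) e1
  have e3 := hcj a1 (Hexa.mk (swap (1 : Fin 6) 2 * swap (3 : Fin 6) 4) (by decide))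
    (Hexa.mk (swap (0 : Fin 6) 1 * swap (1 : Fin 6) 2 * swap (2 : Fin 6) 3 * swap (3 : Fin 6) 4) (by decide)) (by decide) (by decide +kernel) e1
  have hs1 := (h.s_spec (a := g1) (by decide)).1
  have hs2 := (h.s_spec (a := Hexa.mk (swap (1 : Fin 6) 2 * swap (3 : Fin 6) 4) (by decide)) (by decide)).1
  obtain ⟨k, hk⟩ : ∃ k, k = (h.s g1 * h.s (Hexa.mk (swap (1 : Fin 6) 2 * swap (3 : Fin 6) 4) (by decide)))⁻¹ * x := ⟨_, rfl⟩
  have hk1 : π k = 1 := by
    rw [hk, map_mul, map_inv, map_mul, hs1, hs2, M.T.hx, inv_mul_eq_one]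
    decide +kernel
  have hx : x = h.s g1 * h.s (Hexa.mk (swap (1 : Fin 6) 2 * swap (3 : Fin 6) 4) (by decide)) * k := by rw [hk, mul_inv_cancel_left]
  obtain ⟨d, hd⟩ := M.ker k hk1
  have hxd : ∀ u, ρ x u = d • u := by
    intro u
    rw [hx, map_mul, map_mul, e2, e3, mul_one]
    show ρ k u = d • u
    exact hd u
  obtain ⟨u, hu⟩ : ∃ u : U, u ≠ 0 := by
    have : 0 < finrank F U := by rw [M.dim]; norm_num
    exact Module.finrank_pos_iff_exists_ne_zero.1 this
  have hd0 : d ≠ 0 := by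
    rintro rfl
    have h2 := hxd u
    rw [zero_smul] at h2
    exact hu (rho_inj x (h2.trans (map_zero (ρ x)).symm))
  have h3 := M.T.comm u
  rw [hxd, hxd, map_smul] at h3
  have h4 : (d - ω * d) • ρ y u = 0 := by rw [sub_smul, h3, mul_smul, sub_self]
  rcases smul_eq_zero.1 h4 with h5 | h5
  · have h6 : (1 - ω) * d = 0 := by linear_combination h5
    exact M.T.ne (sub_eq_zero.1 ((mul_eq_zero.1 h6).resolve_right hd0)).symm
  · exact hu (rho_inj y (h5.trans (map_zero (ρ y)).symm))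

theorem Tri.nt1 (M : Tri π ρ x y ω) (h : Ext π) : ρ (h.s a1) ≠ 1 := M.nt h (by decide) ⟨1, by decide⟩

theorem Tri.nt2 (M : Tri π ρ x y ω) (h : Ext π) : ρ (h.s a2) ≠ 1 :=
  M.nt h (by decide) ⟨Hexa.mk (swap 1 2 * swap 4 5) (by decide), by decide +kernel⟩

theorem Tri.nt3 (M : Tri π ρ x y ω) (h : Ext π) : ρ (h.s a3) ≠ 1 :=
  M.nt h (by decide) ⟨Hexa.mk (swap 1 3 * swap 4 5) (by decide), by decide +kernel⟩

theorem Tri.ntk2 (M : Tri π ρ x y ω) (h : Ext π) : ρ (h.s k2) ≠ 1 :=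
  M.nt h (by decide) ⟨Hexa.mk (swap (2 : Fin 6) 4 * swap (3 : Fin 6) 5) (by decide), by decide +kernel⟩

theorem Tri.ntk3 (M : Tri π ρ x y ω) (h : Ext π) : ρ (h.s k3) ≠ 1 :=
  M.nt h (by decide) ⟨Hexa.mk (swap (0 : Fin 6) 4 * swap (1 : Fin 6) 5) (by decide), by decide +kernel⟩

omit [CharP F 2] [Module.Finite F U] in
theorem inv_inv (h : Ext π) {a : A6} (ha : a * a = 1) (u : U) : ρ (h.s a) (ρ (h.s a) u) = u := by
  rw [← rho_mul, (h.s_spec ha).2, rho_one]

omit [CharP F 2] [Module.Finite F U] in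
theorem inv_comm (h : Ext π) {a b : A6} (ha : a * a = 1) (hb : b * b = 1) (hab : a * b = b * a) (u : U) :
    ρ (h.s a) (ρ (h.s b) u) = ρ (h.s b) (ρ (h.s a) u) := by
  rw [← rho_mul, ← rho_mul, h.s_mul ha hb hab, h.s_mul hb ha hab.symm, hab]

/-- the images of the two Klein groups do not commute -/
theorem Tri.not_comm (M : Tri π ρ x y ω) (h : Ext π) : ¬ ∀ u, ρ (h.s a2) (ρ (h.s k2) u) = ρ (h.s k2) (ρ (h.s a2) u) := by
  intro hc
  apply M.nt1 h
  apply LinearMap.ext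
  intro u
  have h1 := push (h := h) (ρ := ρ) (a := k2) (by decide) (h.s a2) u
  rw [hc, (h.s_spec (a := a2) (by decide)).1, show a2 * k2 * a2⁻¹ = a1 * k2 by decide +kernel,
    ← h.s_mul (by decide) (by decide) (by decide +kernel), rho_mul] at h1
  show ρ (h.s a1) u = u
  have h2 := congrArg (ρ (h.s k2)) h1
  rw [inv_inv h (by decide), inv_comm h (by decide) (by decide) (by decide +kernel), inv_inv h (by decide)] at h2
  exact (rho_inj (h.s a2) (h2.trans (inv_comm h (by decide) (by decide) (by decide +kernel) u).symm)).symm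

/-- the types: a common centre or a common axis of the first Klein group -/
theorem Tri.dich0 (M : Tri π ρ x y ω) (h : Ext π) :
    (∃ a l1 l2, Cc (ρ (h.s a1)) (ρ (h.s a2)) a l1 l2) ∨ ∃ l b1 b2, Ca (ρ (h.s a1)) (ρ (h.s a2)) l b1 b2 := by
  refine dich M.dim (inv_inv h (by decide)) (inv_inv h (by decide))
    (inv_comm h (by decide) (by decide) (by decide +kernel)) (M.nt1 h) (M.nt2 h) ?_
  rw [← map_mul, h.s_mul (by decide) (by decide) (by decide +kernel), show a1 * a2 = a3 by decide +kernel]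
  exact M.nt3 h

theorem Tri.dich1 (M : Tri π ρ x y ω) (h : Ext π) :
    (∃ a l1 l2, Cc (ρ (h.s a1)) (ρ (h.s k2)) a l1 l2) ∨ ∃ l b1 b2, Ca (ρ (h.s a1)) (ρ (h.s k2)) l b1 b2 := by
  refine dich M.dim (inv_inv h (by decide)) (inv_inv h (by decide))
    (inv_comm h (by decide) (by decide) (by decide +kernel)) (M.nt1 h) (M.ntk2 h) ?_
  rw [← map_mul, h.s_mul (by decide) (by decide) (by decide +kernel), show a1 * k2 = k3 by decide +kernel]
  exact M.ntk3 h

omit [CharP F 2] [Module.Finite F U] in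
theorem Tv.smul {t : U →ₗ[F] U} {a : U} {l : U →ₗ[F] F} (v : Tv t a l) {c : F} (hc : c ≠ 0) :
    Tv t (c • a) (c⁻¹ • l) := by
  refine ⟨smul_ne_zero hc v.a0, smul_ne_zero (inv_ne_zero hc) v.l0, ?_, fun x => ?_⟩
  · rw [LinearMap.smul_apply, map_smul, v.la, smul_zero, smul_zero]
  · rw [v.eq, LinearMap.smul_apply, smul_eq_mul, smul_smul, mul_comm c⁻¹, mul_assoc, inv_mul_cancel₀ hc, mul_one]

/-- common centre of the first Klein group: common axis of the second one, and the axes of the first one differ -/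
theorem Tri.centre (M : Tri π ρ x y ω) (h : Ext π) {a : U} {l1 l2 : U →ₗ[F] F}
    (hc : Cc (ρ (h.s a1)) (ρ (h.s a2)) a l1 l2) : (∃ l b1 b2, Ca (ρ (h.s a1)) (ρ (h.s k2)) l b1 b2) ∧
    ¬ ∃ c : F, ∀ u, l2 u = c * l1 u := by
  rcases M.dich1 h with ⟨a', l1', l2', hk⟩ | ⟨l, b1, b2, hk⟩
  · exfalso
    obtain ⟨c, hc'⟩ := hc.v1.centre hk.v1
    exact M.not_comm h (hc.v2.comm hk.v2 (Or.inl ⟨c, hc'⟩))
  · refine ⟨⟨l, b1, b2, hk⟩, ?_⟩
    rintro ⟨c, hcc⟩
    obtain ⟨d, hd⟩ := hc.v1.axis hk.v1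
    have hc0 : c ≠ 0 := by
      rintro rfl
      obtain ⟨u, hu⟩ := exists_one hc.v2.l0
      rw [hcc, zero_mul] at hu
      exact zero_ne_one hu
    refine M.not_comm h (hc.v2.comm hk.v2 (Or.inr ⟨d * c⁻¹, fun u => ?_⟩))
    rw [hcc, hd, mul_assoc, inv_mul_cancel_left₀ hc0]

/-- common axis of the first Klein group -/
theorem Tri.axis (M : Tri π ρ x y ω) (h : Ext π) {l : U →ₗ[F] F} {b1 b2 : U}
    (hc : Ca (ρ (h.s a1)) (ρ (h.s a2)) l b1 b2) : (∃ a l1 l2, Cc (ρ (h.s a1)) (ρ (h.s k2)) a l1 l2) ∧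
    ¬ ∃ c : F, b2 = c • b1 := by
  rcases M.dich1 h with ⟨a', l1', l2', hk⟩ | ⟨l', b1', b2', hk⟩
  · refine ⟨⟨a', l1', l2', hk⟩, ?_⟩
    rintro ⟨c, hcc⟩
    obtain ⟨d, hd⟩ := hc.v1.centre hk.v1
    have hc0 : c ≠ 0 := by
      rintro rfl
      exact hc.v2.a0 (hcc.trans (zero_smul _ _))
    refine M.not_comm h (hc.v2.comm hk.v2 (Or.inl ⟨d * c⁻¹, ?_⟩))
    rw [hcc, hd, smul_smul, mul_assoc, inv_mul_cancel₀ hc0, mul_one]
  · exfalso
    obtain ⟨c, hc'⟩ := hc.v1.axis hk.v1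
    exact M.not_comm h (hc.v2.comm hk.v2 (Or.inr ⟨c, hc'⟩))

end tri

/-! ### the Klein lemma -/

section klein

variable {F : Type*} [Field F] [CharP F 2] {U : Type*} [AddCommGroup U] [Module F U]
  {Y : Type*} [AddCommGroup Y] [Module F Y] {P : Type*} [Group P] {π : P →* A6} {ρ : Representation F P U}
  {ρ' : Representation F P Y}

/-- an equivariant alternating form `β` and an equivariant quadratic map `s` with polar form `β` -/
structure QD (ρ : Representation F P U) (ρ' : Representation F P Y) (β : U → U → Y) (s : U → Y) : Prop where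
  add : ∀ u u' w, β (u + u') w = β u w + β u' w
  smul : ∀ (c : F) u w, β (c • u) w = c • β u w
  symm : ∀ u w, β u w = β w u
  alt : ∀ u, β u u = 0
  act : ∀ b u w, ρ' b (β u w) = β (ρ b u) (ρ b w)
  inj : ∀ u w, u ≠ 0 → β u w = 0 → ∃ c : F, w = c • u
  sadd : ∀ u w, s (u + w) = s u + s w + β u w
  ssmul : ∀ (c : F) u, s (c • u) = (c * c) • s u
  sact : ∀ b u, ρ' b (s u) = s (ρ b u)
  span : ∀ u, s u ∈ Submodule.span F {y | ∃ v w, y = β v w}

variable {β : U → U → Y} {s : U → Y}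

theorem QD.add' (Q : QD ρ ρ' β s) (u w w' : U) : β u (w + w') = β u w + β u w' := by
  rw [Q.symm, Q.add, Q.symm w, Q.symm w']

theorem QD.smul' (Q : QD ρ ρ' β s) (c : F) (u w : U) : β u (c • w) = c • β u w := by
  rw [Q.symm, Q.smul, Q.symm]

theorem QD.sub' (Q : QD ρ ρ' β s) (u w w' : U) : β u (w - w') = β u w - β u w' := by
  have h1 := Q.smul' (-1) u w'
  rw [neg_one_smul, neg_one_smul] at h1
  rw [sub_eq_add_neg, Q.add', h1, sub_eq_add_neg]

/-- the value at the centre of a transvection -/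
theorem QD.at_centre (Q : QD ρ ρ' β s) {b : P} {a : U} {l : U →ₗ[F] F} (v : Tv (ρ b) a l) :
    ∃ p, l p = 1 ∧ s a = β a p := by
  obtain ⟨x0, hx0⟩ := exists_one v.l0
  have key : ∀ y ∈ Submodule.span F {y | ∃ v w, y = β v w}, ∃ q, l q = 0 ∧ ρ' b y - y = β a q := by
    intro y hy
    induction hy using Submodule.span_induction with
    | mem y hy =>
      obtain ⟨u, w, rfl⟩ := hy
      refine ⟨l w • u + l u • w, ?_, ?_⟩
      · rw [map_add, map_smul, map_smul, smul_eq_mul, smul_eq_mul, mul_comm]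
        exact CharTwo.add_self_eq_zero _
      · rw [Q.act, v.eq, v.eq, Q.add, Q.add', Q.add', Q.smul, Q.smul, Q.smul', Q.smul', Q.alt, smul_zero, smul_zero,
          add_zero, Q.add', Q.smul', Q.smul', Q.symm u a]
        abel
    | zero => exact ⟨0, map_zero l, by
        rw [map_zero, sub_zero]
        have h1 := Q.smul' 0 a 0
        rw [zero_smul, zero_smul] at h1
        exact h1.symm⟩
    | add y y' _ _ h1 h2 =>
      obtain ⟨q, hq, e1⟩ := h1
      obtain ⟨q', hq', e2⟩ := h2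
      refine ⟨q + q', by rw [map_add, hq, hq', add_zero], ?_⟩
      rw [Q.add', ← e1, ← e2, map_add]
      abel
    | smul c y _ h1 =>
      obtain ⟨q, hq, e1⟩ := h1
      refine ⟨c • q, by rw [map_smul, hq, smul_zero], ?_⟩
      rw [Q.smul', ← e1, map_smul, smul_sub]
  obtain ⟨q, hq, e1⟩ := key _ (Q.span x0)
  rw [Q.sact, v.eq, hx0, one_smul, Q.sadd] at e1
  refine ⟨q + x0, by rw [map_add, hq, hx0, zero_add], ?_⟩
  rw [Q.add', ← e1, Q.symm x0 a]
  have h2 := add_self F (β a x0)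
  calc s a = s a + (β a x0 + β a x0) := by rw [h2, add_zero]
    _ = _ := by abel

/-- a Klein group with a common centre excludes `s` -/
theorem QD.false_of_cc (Q : QD ρ ρ' β s) {b1 b2 : P} {a : U} {l1 l2 : U →ₗ[F] F} (hc : Cc (ρ b1) (ρ b2) a l1 l2)
    (hne : ρ (b1 * b2) ≠ 1) : False := by
  have v3 : Tv (ρ (b1 * b2)) a (l1 + l2) := by
    have he : ∀ u, ρ (b1 * b2) u = u + (l1 + l2) u • a := by
      intro u
      rw [rho_mul, hc.v2.eq, map_add, map_smul, hc.v1.eq u, hc.v1.eq a, hc.v1.la, zero_smul, add_zero,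
        LinearMap.add_apply, add_smul]
      abel
    refine ⟨hc.v1.a0, ?_, by rw [LinearMap.add_apply, hc.v1.la, hc.v2.la, add_zero], he⟩
    intro h0
    apply hne
    apply LinearMap.ext
    intro u
    rw [he, h0, LinearMap.zero_apply, zero_smul, add_zero]
    rfl
  obtain ⟨p1, h1, e1⟩ := Q.at_centre hc.v1
  obtain ⟨p2, h2, e2⟩ := Q.at_centre hc.v2
  obtain ⟨p3, h3, e3⟩ := Q.at_centre v3
  have hd : ∀ p p', s a = β a p → s a = β a p' → ∃ c : F, p = p' + c • a := by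
    intro p p' h h'
    obtain ⟨c, hc'⟩ := Q.inj a (p - p') hc.v1.a0 (by rw [Q.sub', ← h, ← h', sub_self])
    exact ⟨c, by rw [← hc', add_sub_cancel]⟩
  obtain ⟨c, rfl⟩ := hd p2 p1 e2 e1
  obtain ⟨c', rfl⟩ := hd p3 p1 e3 e1
  rw [map_add, map_smul, hc.v2.la, smul_zero, add_zero] at h2
  rw [map_add, map_smul, v3.la, smul_zero, add_zero, LinearMap.add_apply, h1, h2] at h3
  rw [CharTwo.add_self_eq_zero] at h3
  exact zero_ne_one h3

/-- **Klein lemma** -/
theorem QD.false [Module.Finite F U] {x y : P} {ω : F} (Q : QD ρ ρ' β s) (h : Ext π) (M : Tri π ρ x y ω) : False := by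
  have e2 : ρ (h.s a1 * h.s a2) ≠ 1 := by
    rw [h.s_mul (by decide) (by decide) (by decide +kernel), show a1 * a2 = a3 by decide +kernel]
    exact M.nt3 h
  have e3 : ρ (h.s a1 * h.s k2) ≠ 1 := by
    rw [h.s_mul (by decide) (by decide) (by decide +kernel), show a1 * k2 = k3 by decide +kernel]
    exact M.ntk3 h
  rcases M.dich0 h with ⟨a, l1, l2, hc⟩ | ⟨l, b1, b2, hc⟩
  · exact Q.false_of_cc hc e2
  · obtain ⟨a, l1, l2, hc'⟩ := (M.axis h hc).1
    exact Q.false_of_cc hc' e3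

end klein

/-! ### the product of two modules of different types -/

section prod

variable {F : Type*} [Field F] [CharP F 2] {P : Type*} [Group P] {π : P →* A6} {x y : P} {ω ω' ω'' : F}
  {U : Type*} [AddCommGroup U] [Module F U] [Module.Finite F U] {ρ : Representation F P U}
  {U' : Type*} [AddCommGroup U'] [Module F U'] [Module.Finite F U'] {ρ' : Representation F P U'}
  {U'' : Type*} [AddCommGroup U''] [Module F U''] [Module.Finite F U''] {ρ'' : Representation F P U''}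

theorem e_three (h : Ext π) (u : U) : ρ (h.s a3) u = ρ (h.s a1) (ρ (h.s a2) u) := by
  rw [← rho_mul, h.s_mul (by decide) (by decide) (by decide +kernel), show a1 * a2 = a3 by decide +kernel]

/-- the norm of the Klein group vanishes -/
theorem Tri.Nm_zero (h : Ext π) (M : Tri π ρ x y ω) (u : U) : Nm h ρ u = 0 := by
  rw [Nm_eq, e_three]
  rcases M.dich0 h with ⟨a, l1, l2, hc⟩ | ⟨l, b1, b2, hc⟩
  · rw [hc.v2.eq, map_add, map_smul, hc.v1.eq u, hc.v1.eq a, hc.v1.la, zero_smul, add_zero]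
    have e1 := add_self F u
    have e2 := add_self F (l1 u • a)
    have e3 := add_self F (l2 u • a)
    calc u + (u + l1 u • a) + (u + l2 u • a) + (u + l1 u • a + l2 u • a)
        = (u + u) + (u + u) + (l1 u • a + l1 u • a) + (l2 u • a + l2 u • a) := by abel
      _ = 0 := by rw [e1, e2, e3]; simp
  · rw [hc.v2.eq, map_add, map_smul, hc.v1.eq u, hc.v1.eq b2, hc.v2.la, zero_smul, add_zero]
    have e1 := add_self F u
    have e2 := add_self F (l u • b1)
    have e3 := add_self F (l u • b2)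
    calc u + (u + l u • b1) + (u + l u • b2) + (u + l u • b1 + l u • b2)
        = (u + u) + (u + u) + (l u • b1 + l u • b1) + (l u • b2 + l u • b2) := by abel
      _ = 0 := by rw [e1, e2, e3]; simp

/-! #### quotients, duals, tensor products -/

/-- the representation on a quotient -/
noncomputable def quo (ρ : Representation F P U) (S : Submodule F U) (hS : ∀ b, ∀ s ∈ S, ρ b s ∈ S) :
    Representation F P (U ⧸ S) where
  toFun b := S.mapQ S (ρ b) (hS b)
  map_one' := by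
    apply LinearMap.ext
    intro u
    obtain ⟨u, rfl⟩ := S.mkQ_surjective u
    show S.mkQ (ρ 1 u) = S.mkQ u
    rw [rho_one]
  map_mul' b b' := by
    apply LinearMap.ext
    intro u
    obtain ⟨u, rfl⟩ := S.mkQ_surjective u
    show S.mkQ (ρ (b * b') u) = S.mkQ (ρ b (ρ b' u))
    rw [rho_mul]

theorem quo_mk (S : Submodule F U) (hS : ∀ b, ∀ s ∈ S, ρ b s ∈ S) (b : P) (u : U) :
    quo ρ S hS b (S.mkQ u) = S.mkQ (ρ b u) := rfl

/-- the representation on a stable subspace -/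
noncomputable def sub (ρ : Representation F P U) (S : Submodule F U) (hS : ∀ b, ∀ s ∈ S, ρ b s ∈ S) :
    Representation F P S where
  toFun b := (ρ b).restrict (hS b)
  map_one' := LinearMap.ext fun u => Subtype.ext (rho_one (ρ := ρ) (u : U))
  map_mul' b b' := LinearMap.ext fun u => Subtype.ext (rho_mul (ρ := ρ) b b' (u : U))

theorem XY.quo (T : XY π ρ x y ω) (S : Submodule F U) (hS : ∀ b, ∀ s ∈ S, ρ b s ∈ S) : XY π (quo ρ S hS) x y ω := by
  refine ⟨T.hx, T.hy, fun u => ?_, T.ne, T.cube⟩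
  obtain ⟨u, rfl⟩ := S.mkQ_surjective u
  rw [quo_mk, quo_mk, quo_mk, quo_mk, T.comm, map_smul]

theorem XY.sub (T : XY π ρ x y ω) (S : Submodule F U) (hS : ∀ b, ∀ s ∈ S, ρ b s ∈ S) : XY π (sub ρ S hS) x y ω :=
  ⟨T.hx, T.hy, fun u => Subtype.ext (T.comm u), T.ne, T.cube⟩

theorem dual_eq (b : P) (f : Module.Dual F U) (u : U) : ρ.dual b f u = f (ρ b⁻¹ u) := rfl

theorem XY.dual (T : XY π ρ x y ω) : XY π ρ.dual x y ω⁻¹ := by
  refine ⟨T.hx, T.hy, fun f => ?_, inv_ne_one.2 T.ne, by rw [inv_pow, T.cube, inv_one]⟩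
  apply LinearMap.ext
  intro u
  rw [LinearMap.smul_apply, dual_eq, dual_eq, dual_eq, dual_eq]
  -- `y⁻¹ x⁻¹ = ω⁻¹ x⁻¹ y⁻¹`
  have h1 := T.comm (ρ x⁻¹ (ρ y⁻¹ u))
  have e1 : ρ x (ρ x⁻¹ (ρ y⁻¹ u)) = ρ y⁻¹ u := by rw [← rho_mul, mul_inv_cancel, rho_one]
  rw [e1, ← rho_mul y y⁻¹, mul_inv_cancel, rho_one] at h1
  have h2 : ρ y (ρ x⁻¹ (ρ y⁻¹ u)) = ω • ρ x⁻¹ u := by
    have h3 := congrArg (ρ x⁻¹) h1
    rw [← rho_mul, inv_mul_cancel, rho_one, map_smul] at h3
    exact h3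
  have h3 := congrArg (ρ y⁻¹) h2
  rw [← rho_mul, inv_mul_cancel, rho_one, map_smul] at h3
  rw [h3, map_smul, smul_smul, inv_mul_cancel₀ T.ne_zero, one_smul]

theorem XY.tprod {ω' : F} (T : XY π ρ x y ω) (T' : XY π ρ' x y ω') (hne : ω * ω' ≠ 1) :
    XY π (ρ.tprod ρ') x y (ω * ω') := by
  refine ⟨T.hx, T.hy, fun u => ?_, hne, by rw [mul_pow, T.cube, T'.cube, one_mul]⟩
  induction u using TensorProduct.induction_on with
  | zero => simp only [map_zero, smul_zero]
  | tmul u u' =>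
    rw [Representation.tprod_apply, Representation.tprod_apply, TensorProduct.map_tmul, TensorProduct.map_tmul,
      TensorProduct.map_tmul, TensorProduct.map_tmul, T.comm, T'.comm, TensorProduct.smul_tmul_smul]
  | add u u' h1 h2 => rw [map_add, map_add, h1, h2, map_add, map_add, smul_add]

theorem Tri.quo (T : XY π ρ x y ω) (hk : ∀ z, π z = 1 → ∃ c : F, ∀ u, ρ z u = c • u) (S : Submodule F U)
    (hS : ∀ b, ∀ s ∈ S, ρ b s ∈ S) (h3 : finrank F (U ⧸ S) = 3) : Tri π (Hexa.quo ρ S hS) x y ω := by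
  refine ⟨T.quo S hS, h3, fun z hz => ?_⟩
  obtain ⟨c, hc⟩ := hk z hz
  refine ⟨c, fun u => ?_⟩
  obtain ⟨u, rfl⟩ := S.mkQ_surjective u
  rw [quo_mk, hc, map_smul]

theorem Tri.sub (T : XY π ρ x y ω) (hk : ∀ z, π z = 1 → ∃ c : F, ∀ u, ρ z u = c • u) (S : Submodule F U)
    (hS : ∀ b, ∀ s ∈ S, ρ b s ∈ S) (h3 : finrank F S = 3) : Tri π (Hexa.sub ρ S hS) x y ω := by
  refine ⟨T.sub S hS, h3, fun z hz => ?_⟩
  obtain ⟨c, hc⟩ := hk z hz
  exact ⟨c, fun u => Subtype.ext (hc u)⟩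

theorem Tri.dual (M : Tri π ρ x y ω) : Tri π ρ.dual x y ω⁻¹ := by
  refine ⟨M.T.dual, by rw [Subspace.dual_finrank_eq, M.dim], fun z hz => ?_⟩
  obtain ⟨c, hc⟩ := M.ker z⁻¹ (by rw [map_inv, hz, inv_one])
  refine ⟨c, fun f => LinearMap.ext fun u => ?_⟩
  rw [dual_eq, hc, map_smul, LinearMap.smul_apply]

theorem Tv.dual (h : Ext π) {e : A6} (he : e * e = 1) {a : U} {l : U →ₗ[F] F} (v : Tv (ρ (h.s e)) a l) :
    Tv (ρ.dual (h.s e)) (l : Module.Dual F U) (Module.Dual.eval F U a) := by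
  refine ⟨v.l0, ?_, v.la, fun f => LinearMap.ext fun u => ?_⟩
  · intro h0
    apply v.a0
    rw [← Module.forall_dual_apply_eq_zero_iff F]
    intro f
    exact LinearMap.congr_fun h0 f
  · rw [dual_eq, inv_eq_of_mul_eq_one_left (h.s_spec he).2, v.eq, map_add, map_smul, LinearMap.add_apply,
      LinearMap.smul_apply, smul_eq_mul, smul_eq_mul, mul_comm]
    rfl

theorem Cc.dual (h : Ext π) {a : U} {l1 l2 : U →ₗ[F] F} (hc : Cc (ρ (h.s a1)) (ρ (h.s a2)) a l1 l2) :
    Ca (ρ.dual (h.s a1)) (ρ.dual (h.s a2)) (Module.Dual.eval F U a) (l1 : Module.Dual F U) l2 :=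
  ⟨Tv.dual h (by decide) hc.v1, Tv.dual h (by decide) hc.v2⟩

theorem Ca.dual (h : Ext π) {l : U →ₗ[F] F} {b1 b2 : U} (hc : Ca (ρ (h.s a1)) (ρ (h.s a2)) l b1 b2) :
    Cc (ρ.dual (h.s a1)) (ρ.dual (h.s a2)) (l : Module.Dual F U) (Module.Dual.eval F U b1)
      (Module.Dual.eval F U b2) :=
  ⟨Tv.dual h (by decide) hc.v1, Tv.dual h (by decide) hc.v2⟩

end prod

end Cfsg.Agent.H906.E6.Hexa
end

-- part: H944/E6CovEnd
section
/-!
# `sixc_two`: the end game (helper944)

From the list of the stable subspaces of dimension three (two of them in `V`, two in `V'`), the relations between them and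
the irreducible subspace `R` of dimension nine spanned by `cr S₁ S₂`: a contradiction, if the fixed space of the elements of order
five has dimension at least 7.
-/

set_option autoImplicit false

namespace Cfsg.Agent.H944.E6CovEnd

open Cfsg Cfsg.Lie Module Equiv
open Cfsg.Agent.ChevalleyStructure.E6Min.Tables Cfsg.Agent.ChevalleyStructure.E6Min.Basic
  Cfsg.Agent.ChevalleyStructure.E6Min.Adjoint
open Cfsg.Agent.H163.E6 Cfsg.Agent.H163.E6.Der
open Cfsg.Agent.H952.F4 (ev es matRep sh cr tf MaxAlt)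
open Cfsg.Agent.H952.F4.Jord
open Cfsg.Agent.H944.E6CovTwo Cfsg.Agent.H944.E6CovFit Cfsg.Agent.H944.E6CovKer
open Cfsg.Agent.H906.E6.Hexa (A6 tx ty Ext XY Tri QD)

universe u

variable {F : Type u} [Field F] [Finite F] {φ : A6 →* ↥(chevE6.group F)}

/-- the span of the products -/
def crs (S T : Submodule F (I27 → F)) : Submodule F (I27 → F) := Submodule.span F {y | ∃ s ∈ S, ∃ t ∈ T, y = cr s t}

section alt

variable [CharP F 2]

omit [Finite F] [CharP F 2] in
theorem cr_zero_left' (y : I27 → F) : cr 0 y = 0 := by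
  have h := cr_smul_left (0 : F) 0 y
  rwa [zero_smul, zero_smul] at h

omit [Finite F] in
theorem cr_self_two (x : I27 → F) : cr x x = 0 := by
  rw [cr_self, CharTwo.two_eq_zero, zero_smul]

omit [Finite F] in
/-- `cr` is injective on the exterior square of a space of dimension 3 if the span of the products has dimension 3 -/
theorem cr_inj {S : Submodule F (I27 → F)} (dS : finrank F ↥S = 3) (dW : finrank F ↥(crs S S) = 3) {u w : I27 → F}
    (hu : u ∈ S) (hw : w ∈ S) (hu0 : u ≠ 0) (h : cr u w = 0) : ∃ c : F, w = c • u := by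
  by_contra hcon
  have hli : LinearIndependent F ![u, w] := by
    rw [LinearIndependent.pair_iff' hu0]
    intro a ha
    exact hcon ⟨a, ha.symm⟩
  obtain ⟨A, hA⟩ : ∃ A, A = Submodule.span F (Set.range ![u, w]) := ⟨_, rfl⟩
  have hA2 : finrank F ↥A = 2 := by rw [hA, finrank_span_eq_card hli, Fintype.card_fin]
  have hAm : ∀ a, a ∈ A ↔ ∃ p q : F, a = p • u + q • w := by
    intro a
    rw [hA, Matrix.range_cons, Matrix.range_cons, Matrix.range_empty, Set.union_empty, Set.singleton_union,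
      Submodule.mem_span_pair]
    exact ⟨fun ⟨p, q, h⟩ => ⟨p, q, h.symm⟩, fun ⟨p, q, h⟩ => ⟨p, q, h.symm⟩⟩
  have hAS : A ≤ S := by
    intro a ha
    obtain ⟨p, q, rfl⟩ := (hAm a).1 ha
    exact S.add_mem (S.smul_mem _ hu) (S.smul_mem _ hw)
  have hAA : ∀ a ∈ A, ∀ b ∈ A, cr a b = 0 := by
    intro a ha b hb
    obtain ⟨p, q, rfl⟩ := (hAm a).1 ha
    obtain ⟨p', q', rfl⟩ := (hAm b).1 hb
    rw [cr_add_left, cr_add_right, cr_add_right]
    simp only [cr_smul_left, cr_smul_right, cr_self_two, h, cr_comm w u, smul_zero, add_zero]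
  obtain ⟨t, htS, htA⟩ : ∃ t ∈ S, t ∉ A := by
    by_contra hc
    push Not at hc
    have : finrank F ↥S ≤ finrank F ↥A := Submodule.finrank_mono hc
    omega
  have hS : S ≤ A ⊔ Submodule.span F {t} := by
    have h1 : A ⊔ Submodule.span F {t} ≤ S := sup_le hAS (by rwa [Submodule.span_singleton_le_iff_mem])
    have h2 : A < A ⊔ Submodule.span F {t} :=
      lt_of_le_of_ne le_sup_left fun he => htA (he ▸ Submodule.mem_sup_right (Submodule.mem_span_singleton_self t))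
    have h3 := Submodule.finrank_lt_finrank_of_lt h2
    have h4 := Submodule.finrank_mono h1
    exact (Submodule.eq_of_le_of_finrank_eq h1 (by omega)).ge
  let f : ↥A →ₗ[F] (I27 → F) :=
    { toFun := fun a => (cr (a : I27 → F) t :)
      map_add' := fun a b => cr_add_left _ _ _
      map_smul' := fun c a => cr_smul_left _ _ _ }
  have hle : crs S S ≤ LinearMap.range f := by
    rw [crs, Submodule.span_le]
    rintro _ ⟨s, hs, s', hs', rfl⟩
    obtain ⟨a, ha, b, hb, rfl⟩ := Submodule.mem_sup.1 (hS hs)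
    obtain ⟨a', ha', b', hb', rfl⟩ := Submodule.mem_sup.1 (hS hs')
    obtain ⟨c, rfl⟩ := Submodule.mem_span_singleton.1 hb
    obtain ⟨c', rfl⟩ := Submodule.mem_span_singleton.1 hb'
    refine ⟨⟨c' • a + c • a', A.add_mem (A.smul_mem _ ha) (A.smul_mem _ ha')⟩, ?_⟩
    show cr (c' • a + c • a') t = _
    simp only [cr_add_left, cr_add_right, cr_smul_left, cr_smul_right, cr_self_two, hAA a ha a' ha', smul_zero, add_zero,
      zero_add, cr_comm t a']
    exact add_comm _ _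
  have h5 := Submodule.finrank_mono hle
  have h6 := LinearMap.finrank_range_le f
  omega

omit [Finite F] [CharP F 2] in
/-- the representation on a stable subspace of dimension three -/
theorem tri (hφ : Function.Injective φ) {ρ : Representation F ↥(Zgrp F) (I27 → F)}
    (hρ : ρ = V F ∨ ρ = V' F) {S : Submodule F (I27 → F)} (hS : Stab ρ φ.range S) (dS : finrank F ↥S = 3) {x y d}
    (hT : XY (Cov.pr hφ) (rP φ ρ) x y d) : Tri (Cov.pr hφ) (subrep (rP φ ρ) S (stab_rP hS)) x y d := by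
  refine ⟨⟨hT.hx, hT.hy, fun u => Subtype.ext ((hT.comm u :)), hT.ne, hT.cube⟩, dS, fun z hz => ?_⟩
  obtain ⟨c, hc⟩ := exists_smul (z := (z : ↥(Zgrp F))) ((Cov.pr_eq_one hφ z).1 hz) hρ
  exact ⟨c, fun u => Subtype.ext (hc u)⟩

/-- `sh` does not map a stable subspace of dimension three into the sum of two stable ones -/
theorem sh_not_le (hφ : Function.Injective φ) {ω : Fˣ} (hc : Cover φ ω) {S W₁ W₂ : Submodule F (I27 → F)}
    (hS : Stab (V' F) φ.range S) (dS : finrank F ↥S = 3) (hW₁ : Stab (V F) φ.range W₁) (hW₂ : Stab (V F) φ.range W₂)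
    (d₂ : finrank F ↥W₂ = 3) (h12 : W₁ ⊓ W₂ = ⊥) (hsp : crs S S = W₂) : ¬ ∀ s ∈ S, sh s ∈ W₁ ⊔ W₂ := by
  intro hsh
  obtain ⟨x, y, d, hT⟩ := exists_xy hφ hc (ρ := V' F) (Or.inr rfl)
  have hM := tri hφ (Or.inr rfl) hS dS hT
  have h1 : ∀ s : ↥S, ∃ w, w ∈ W₂ ∧ sh (s : I27 → F) - w ∈ W₁ := by
    rintro ⟨s, hs⟩
    obtain ⟨w₁, hw₁, w₂, hw₂, he⟩ := Submodule.mem_sup.1 (hsh s hs)
    exact ⟨w₂, hw₂, by show sh s - w₂ ∈ W₁; rw [← he, add_sub_cancel_right]; exact hw₁⟩
  choose f hf2 hf1 using h1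
  have huniq : ∀ (s : ↥S) (w : I27 → F), w ∈ W₂ → sh (s : I27 → F) - w ∈ W₁ → f s = w := by
    intro s w hw hw'
    have h2 : f s - w ∈ W₁ ⊓ W₂ := by
      refine ⟨?_, W₂.sub_mem (hf2 s) hw⟩
      have h3 := W₁.sub_mem hw' (hf1 s)
      have h4 : sh (s : I27 → F) - w - (sh (s : I27 → F) - f s) = f s - w := by abel
      rwa [h4] at h3
    rw [h12, Submodule.mem_bot] at h2
    exact sub_eq_zero.1 h2
  have hcr : ∀ s t : ↥S, (cr (s : I27 → F) t :) ∈ W₂ := by
    intro s t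
    rw [← hsp]
    exact Submodule.subset_span ⟨s, s.2, t, t.2, rfl⟩
  have Q : QD (subrep (rP φ (V' F)) S (stab_rP hS)) (rP φ (V F)) (fun u w : ↥S => cr (u : I27 → F) w) f := by
    refine ⟨fun u u' w => cr_add_left _ _ _, fun c u w => cr_smul_left _ _ _, fun u w => cr_comm _ _,
      fun u => cr_self_two _, fun b u w => ?_, fun u w hu h => ?_, fun u w => ?_, fun c u => ?_, fun b u => ?_, fun u => ?_⟩
    · exact ((Act.cr_act' (b : ↥(Zgrp F)) u w).symm :)
    · obtain ⟨c, hc⟩ := cr_inj dS (by rw [hsp]; exact d₂) u.2 w.2 (fun h0 => hu (Subtype.ext h0)) h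
      exact ⟨c, Subtype.ext hc⟩
    · refine huniq _ _ (W₂.add_mem (W₂.add_mem (hf2 u) (hf2 w)) (hcr u w)) ?_
      have h3 : sh ((u + w : ↥S) : I27 → F) = sh (u : I27 → F) + sh (w : I27 → F) + cr (u : I27 → F) (w : I27 → F) :=
        sh_add _ _
      rw [h3]
      have h4 : sh (u : I27 → F) + sh (w : I27 → F) + cr (u : I27 → F) (w : I27 → F)
          - (f u + f w + cr (u : I27 → F) (w : I27 → F))
        = (sh (u : I27 → F) - f u) + (sh (w : I27 → F) - f w) := by abel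
      rw [h4]
      exact W₁.add_mem (hf1 u) (hf1 w)
    · refine huniq _ _ (W₂.smul_mem _ (hf2 u)) ?_
      show sh (c • (u : I27 → F)) - (c * c) • f u ∈ W₁
      rw [sh_smul, pow_two, ← smul_sub]
      exact W₁.smul_mem _ (hf1 u)
    · symm
      refine huniq _ _ (hW₂ _ b.2 _ (hf2 u)) ?_
      show sh (V' F (b : ↥(Zgrp F)) (u : I27 → F)) - V F (b : ↥(Zgrp F)) (f u) ∈ W₁
      rw [Act.sh_act', ← map_sub]
      exact hW₁ _ b.2 _ (hf1 u)
    · have h2 := hf2 u
      rw [← hsp, crs] at h2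
      refine Submodule.span_mono ?_ h2
      rintro _ ⟨s, hs, t, ht, rfl⟩
      exact ⟨⟨s, hs⟩, ⟨t, ht⟩, rfl⟩
  exact Q.false (ext_pr hφ) hM

omit [Finite F] [CharP F 2] in
/-- the span of the squares -/
def shs (S : Submodule F (I27 → F)) : Submodule F (I27 → F) := Submodule.span F {y | ∃ s ∈ S, y = sh s}

omit [Finite F] [CharP F 2] in
theorem crs_le_shs (S : Submodule F (I27 → F)) : crs S S ≤ shs S := by
  rw [crs, Submodule.span_le]
  rintro _ ⟨s, hs, t, ht, rfl⟩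
  have h1 : cr s t = sh (s + t) - sh s - sh t := by rw [sh_add]; abel
  rw [h1]
  exact Submodule.sub_mem _ (Submodule.sub_mem _ (Submodule.subset_span ⟨s + t, S.add_mem hs ht, rfl⟩)
    (Submodule.subset_span ⟨s, hs, rfl⟩)) (Submodule.subset_span ⟨t, ht, rfl⟩)

omit [Finite F] [CharP F 2] in
theorem stab_shs {S : Submodule F (I27 → F)} (hS : Stab (V' F) φ.range S) : Stab (V F) φ.range (shs S) := by
  intro g hg
  have h1 : shs S ≤ (shs S).comap (V F g) := by
    conv_lhs => rw [shs]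
    rw [Submodule.span_le]
    rintro _ ⟨s, hs, rfl⟩
    show V F g (sh s) ∈ shs S
    rw [← Act.sh_act']
    exact Submodule.subset_span ⟨_, hS g hg s hs, rfl⟩
  exact fun w hw => h1 hw

omit [Finite F] [CharP F 2] in
theorem finrank_shs {S : Submodule F (I27 → F)} (dS : finrank F ↥S = 3) : finrank F ↥(shs S) ≤ 6 := by
  let b := Module.finBasisOfFinrankEq F ↥S dS
  let v : Fin 6 → (I27 → F) := ![(sh (b 0 : I27 → F) :), sh (b 1 : I27 → F), sh (b 2 : I27 → F), cr (b 0 : I27 → F) (b 1),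
    cr (b 0 : I27 → F) (b 2), cr (b 1 : I27 → F) (b 2)]
  have h1 : shs S ≤ Submodule.span F (Set.range v) := by
    rw [shs, Submodule.span_le]
    rintro _ ⟨s, hs, rfl⟩
    have h2 := b.sum_repr ⟨s, hs⟩
    have h3 : s = b.repr ⟨s, hs⟩ 0 • (b 0 : I27 → F) + b.repr ⟨s, hs⟩ 1 • (b 1 : I27 → F)
        + b.repr ⟨s, hs⟩ 2 • (b 2 : I27 → F) := by
      have := congrArg Subtype.val h2
      rw [Fin.sum_univ_three] at this
      exact this.symm
    have hv : ∀ i, v i ∈ Submodule.span F (Set.range v) := fun i => Submodule.subset_span ⟨i, rfl⟩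
    rw [h3, sh_add, sh_add, cr_add_left]
    simp only [sh_smul, cr_smul_left, cr_smul_right]
    refine Submodule.add_mem _ (Submodule.add_mem _ (Submodule.add_mem _ (Submodule.add_mem _ ?_ ?_) ?_) ?_)
      (Submodule.add_mem _ ?_ ?_)
    · exact Submodule.smul_mem _ _ (hv 0)
    · exact Submodule.smul_mem _ _ (hv 1)
    · exact Submodule.smul_mem _ _ (Submodule.smul_mem _ _ (hv 3))
    · exact Submodule.smul_mem _ _ (hv 2)
    · exact Submodule.smul_mem _ _ (Submodule.smul_mem _ _ (hv 4))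
    · exact Submodule.smul_mem _ _ (Submodule.smul_mem _ _ (hv 5))
  exact (Submodule.finrank_mono h1).trans ((finrank_range_le_card v).trans (by simp))

/-! ### operators commuting with the group -/

omit [Finite F] [CharP F 2] in
/-- an element of order five -/
theorem exists_five (hφ : Function.Injective φ) : ∃ w : ↥(Zgrp F), ad F w ∈ φ.range ∧ w ≠ 1 ∧ w ^ 5 = 1 := by
  obtain ⟨x, a, -, -, ha, -⟩ := H952.F4.Gen.gen6a
  have oa : orderOf a = 5 := by
    rw [← Subgroup.orderOf_coe, ← Perm.lcm_cycleType, ha]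
    decide
  obtain ⟨g, hg⟩ := ad_surjective (φ a)
  have h2 : ad F (g ^ 5) = 1 := by rw [map_pow, hg, ← map_pow, ← oa, pow_orderOf_eq_one, map_one]
  have h3 := Cov.ker_pow h2
  refine ⟨g ^ 6, ⟨a, ?_⟩, ?_, ?_⟩
  · rw [pow_succ, map_mul, h2, one_mul, hg]
  · intro h4
    have h5 : φ a = 1 := by
      have h6 := congrArg (ad F) h4
      rw [pow_succ, map_mul, h2, one_mul, hg, map_one] at h6
      exact h6
    have h6 : a = 1 := hφ (by rw [h5, map_one])
    rw [h6, orderOf_one] at oa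
    omega
  · rw [← pow_mul, show 6 * 5 = 5 * 3 * 2 by norm_num, pow_mul, pow_mul, h3, one_pow]

omit [CharP F 2] in
/-- stable subspaces of dimension three are irreducible -/
theorem irr_three (hφ : Function.Injective φ) {ω : Fˣ} (hc : Cover φ ω) {ρ : Representation F ↥(Zgrp F) (I27 → F)}
    (hρ : ρ = V F ∨ ρ = V' F) {W X : Submodule F (I27 → F)} (hW : Stab ρ φ.range W) (dW : finrank F ↥W = 3)
    (hX : Stab ρ φ.range X) : W ⊓ X = ⊥ ∨ W ≤ X := by
  have h1 : Stab ρ φ.range (W ⊓ X) := fun g hg w hw => ⟨hW g hg w hw.1, hX g hg w hw.2⟩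
  obtain ⟨k, hk⟩ := three_dvd hφ hc hρ h1
  have h2 : finrank F ↥(W ⊓ X) ≤ finrank F ↥W := Submodule.finrank_mono inf_le_left
  have h3 : k = 0 ∨ k = 1 := by omega
  rcases h3 with rfl | rfl
  · exact Or.inl (Submodule.finrank_eq_zero.1 hk)
  · right
    have h4 := Submodule.eq_of_le_of_finrank_eq (inf_le_left : W ⊓ X ≤ W) (by omega)
    rw [← h4]
    exact inf_le_right

/-- commuting operators are scalars on the stable subspaces of dimension three if there are only two of them -/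
theorem scalar_on (hφ : Function.Injective φ) {ω : Fˣ} (hc : Cover φ ω) {ρ : Representation F ↥(Zgrp F) (I27 → F)}
    (hρ : ρ = V F ∨ ρ = V' F) {W₁ W₂ : Submodule F (I27 → F)} (a₁ : Stab ρ φ.range W₁) (d₁ : finrank F ↥W₁ = 3)
    (a₂ : Stab ρ φ.range W₂) (d₂ : finrank F ↥W₂ = 3) (hne : W₁ ≠ W₂)
    (ho : ∀ W : Submodule F (I27 → F), Stab ρ φ.range W → finrank F ↥W = 3 → W = W₁ ∨ W = W₂)
    {T : (I27 → F) →ₗ[F] (I27 → F)} (hT : ∀ g, ad F g ∈ φ.range → ∀ x, ρ g (T x) = T (ρ g x)) :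
    ∃ m : F, ∀ w ∈ W₁, T w = m • w := by
  have h12 : W₁ ⊓ W₂ = ⊥ := by
    rcases irr_three hφ hc hρ a₁ d₁ a₂ with h | h
    · exact h
    · exact absurd (Submodule.eq_of_le_of_finrank_eq h (by omega)) hne
  have hmap : ∀ T : (I27 → F) →ₗ[F] (I27 → F), (∀ g, ad F g ∈ φ.range → ∀ x, ρ g (T x) = T (ρ g x)) →
      W₁.map T = ⊥ ∨ W₁.map T = W₁ ∨ W₁.map T = W₂ := by
    intro T hT
    have h1 : Stab ρ φ.range (W₁.map T) := by
      rintro g hg _ ⟨w, hw, rfl⟩
      exact ⟨ρ g w, a₁ g hg w hw, (hT g hg w).symm⟩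
    obtain ⟨k, hk⟩ := three_dvd hφ hc hρ h1
    have h2 := Submodule.finrank_map_le T W₁
    have h3 : k = 0 ∨ k = 1 := by omega
    rcases h3 with rfl | rfl
    · exact Or.inl (Submodule.finrank_eq_zero.1 hk)
    · exact Or.inr (ho _ h1 hk)
  have hst : ∀ w ∈ W₁, T w ∈ W₁ := by
    intro w hw
    have hTw : T w ∈ W₁.map T := ⟨w, hw, rfl⟩
    rcases hmap T hT with h | h | h
    · rw [h, Submodule.mem_bot] at hTw
      rw [hTw]
      exact W₁.zero_mem
    · rwa [h] at hTw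
    · rw [h] at hTw
      have hGw : w + T w ∈ W₁.map (1 + T) := ⟨w, hw, rfl⟩
      rcases hmap (1 + T) (fun g hg x => by
        show ρ g (x + T x) = ρ g x + T (ρ g x)
        rw [map_add, hT g hg]) with h' | h' | h'
      · rw [h', Submodule.mem_bot] at hGw
        have h1 : T w = -w := by rw [eq_neg_iff_add_eq_zero, add_comm]; exact hGw
        rw [h1]
        exact W₁.neg_mem hw
      · rw [h'] at hGw
        have := W₁.sub_mem hGw hw
        rwa [add_sub_cancel_left] at this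
      · rw [h'] at hGw
        have h1 : w ∈ W₁ ⊓ W₂ := ⟨hw, by
          have := W₂.sub_mem hGw hTw
          rwa [add_sub_cancel_right] at this⟩
        rw [h12, Submodule.mem_bot] at h1
        rw [h1, map_zero]
        exact W₁.zero_mem
  obtain ⟨z, hz, hz1, hz5⟩ := exists_five hφ
  have e1 := fix_half hφ hc hρ a₁ hz hz1 hz5
  obtain ⟨m, e2⟩ := fix_even hφ a₁ hz hz1 hz5
  obtain ⟨⟨v, hv1, hv2⟩, hv0, hv⟩ := finrank_eq_one_iff'.1
    (show finrank F ↥(W₁ ⊓ Module.End.eigenspace (ρ z) 1) = 1 by omega)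
  have hv0' : v ≠ 0 := fun h => hv0 (Subtype.ext h)
  obtain ⟨m, hm⟩ := hv ⟨T v, hst v hv1, by
    rw [SetLike.mem_coe, Module.End.mem_eigenspace_iff, one_smul] at hv2 ⊢
    rw [hT z hz, hv2]⟩
  have hm' : T v = m • v := (congrArg Subtype.val hm).symm
  refine ⟨m, ?_⟩
  have h1 : Stab ρ φ.range (LinearMap.ker (T - m • (1 : Module.End F (I27 → F)))) := by
    intro g hg w hw
    rw [LinearMap.mem_ker] at hw ⊢
    have h2 : T w - m • w = 0 := hw
    show T (ρ g w) - m • ρ g w = 0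
    rw [← hT g hg, ← map_smul, ← map_sub, h2, map_zero]
  rcases irr_three hφ hc hρ a₁ d₁ h1 with h | h
  · exfalso
    have h2 : v ∈ W₁ ⊓ LinearMap.ker (T - m • (1 : Module.End F (I27 → F))) := by
      refine ⟨hv1, ?_⟩
      show T v - m • v = 0
      rw [hm', sub_self]
    rw [h, Submodule.mem_bot] at h2
    exact hv0' h2
  · intro w hw
    have h2 : T w - m • w = 0 := h hw
    exact sub_eq_zero.1 h2

omit [Finite F] [CharP F 2] in
/-- eigenspaces on disjoint sums -/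
theorem fix_sup {T : Module.End F (I27 → F)} {A B : Submodule F (I27 → F)} (hA : ∀ w ∈ A, T w ∈ A) (hB : ∀ w ∈ B, T w ∈ B)
    (h : A ⊓ B = ⊥) : finrank F ↥((A ⊔ B) ⊓ Module.End.eigenspace T 1) ≤
      finrank F ↥(A ⊓ Module.End.eigenspace T 1) + finrank F ↥(B ⊓ Module.End.eigenspace T 1) := by
  have h3 : (A ⊔ B) ⊓ Module.End.eigenspace T 1 ≤ (A ⊓ Module.End.eigenspace T 1) ⊔ (B ⊓ Module.End.eigenspace T 1) := by
    rintro w ⟨hw0, hw⟩
    obtain ⟨u1, hu1, u2, hu2, rfl⟩ := Submodule.mem_sup.1 hw0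
    rw [SetLike.mem_coe, Module.End.mem_eigenspace_iff, one_smul, map_add] at hw
    have h4 : T u1 - u1 = -(T u2 - u2) := by
      rw [neg_sub, sub_eq_sub_iff_add_eq_add, hw]
      abel
    have h5 : T u1 - u1 ∈ A ⊓ B := by
      refine ⟨A.sub_mem (hA _ hu1) hu1, ?_⟩
      rw [h4]
      exact B.neg_mem (B.sub_mem (hB _ hu2) hu2)
    rw [h, Submodule.mem_bot] at h5
    have h6 : T u2 - u2 = 0 := by rw [h5, eq_comm, neg_eq_zero] at h4; exact h4
    refine Submodule.add_mem_sup ⟨hu1, ?_⟩ ⟨hu2, ?_⟩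
    · exact Module.End.mem_eigenspace_iff.2 (by rw [one_smul]; exact sub_eq_zero.1 h5)
    · exact Module.End.mem_eigenspace_iff.2 (by rw [one_smul]; exact sub_eq_zero.1 h6)
  exact (Submodule.finrank_mono h3).trans (Submodule.finrank_add_le_finrank_add_finrank _ _)

/-- **the end game** -/
theorem end_game {H : Subgroup ↥(chevE6.group F)} (hS : Sit H 6 φ) {ω : Fˣ} (hc : Cover φ ω)
    {W₁ W₂ S₁ S₂ R : Submodule F (I27 → F)}
    (aW₁ : Stab (V F) φ.range W₁) (dW₁ : finrank F ↥W₁ = 3) (aW₂ : Stab (V F) φ.range W₂) (dW₂ : finrank F ↥W₂ = 3)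
    (aS₁ : Stab (V' F) φ.range S₁) (dS₁ : finrank F ↥S₁ = 3) (aS₂ : Stab (V' F) φ.range S₂) (dS₂ : finrank F ↥S₂ = 3)
    (nW : W₁ ≠ W₂)
    (oV : ∀ W : Submodule F (I27 → F), Stab (V F) φ.range W → finrank F ↥W = 3 → W = W₁ ∨ W = W₂)
    (oV' : ∀ W : Submodule F (I27 → F), Stab (V' F) φ.range W → finrank F ↥W = 3 → W = S₁ ∨ W = S₂)
    (c₁ : crs W₁ W₁ = S₂) (c₂ : crs W₂ W₂ = S₁) (c₁' : crs S₁ S₁ = W₂) (c₂' : crs S₂ S₂ = W₁)
    (aR : Stab (V F) φ.range R) (dR : finrank F ↥R = 9) (sR : R ≤ crs S₁ S₂)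
    (iR : ∀ X : Submodule F (I27 → F), X ≤ R → Stab (V F) φ.range X → X = ⊥ ∨ X = R)
    (fR : ∀ z : ↥(Zgrp F), ad F z ∈ φ.range → z ≠ 1 → z ^ 5 = 1 → finrank F ↥(R ⊓ Module.End.eigenspace (V F z) 1) ≤ 1)
    (hf : ∀ z : ↥(Zgrp F), ad F z ∈ φ.range → z ≠ 1 → z ^ 5 = 1 → 7 ≤ ev (V F z) 1) : False := by
  have hφ := hS.inj
  obtain ⟨c, hc0, hfix⟩ := exists_der hφ hc
  have hV : V F = V F ∨ V F = V' F := Or.inl rfl
  -- `D c` is scalar on `W₁`, `W₂`
  obtain ⟨m₁, hm₁⟩ := scalar_on hφ hc hV aW₁ dW₁ aW₂ dW₂ nW oV (T := D c) (fun g hg x => D_comm (hfix g hg) x)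
  obtain ⟨m₂, hm₂⟩ := scalar_on hφ hc hV aW₂ dW₂ aW₁ dW₁ nW.symm (fun W h1 h2 => (oV W h1 h2).symm) (T := D c)
    (fun g hg x => D_comm (hfix g hg) x)
  have kcr : ∀ {W : Submodule F (I27 → F)} {m : F}, (∀ w ∈ W, D c w = m • w) → ∀ y ∈ crs W W, D' c y = 0 := by
    intro W m hm y hy
    have h1 : crs W W ≤ LinearMap.ker (D' c) := by
      rw [crs, Submodule.span_le]
      rintro _ ⟨s, hs, t, ht, rfl⟩
      show D' c (cr s t) = 0
      rw [D'_cr, hm s hs, hm t ht, cr_smul_left, cr_smul_right, ← two_smul F, CharTwo.two_eq_zero, zero_smul]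
    exact h1 hy
  have hDS₂ : ∀ s ∈ S₂, D' c s = 0 := by rw [← c₁]; exact kcr hm₁
  have hDS₁ : ∀ s ∈ S₁, D' c s = 0 := by rw [← c₂]; exact kcr hm₂
  have kcr' : ∀ {S T : Submodule F (I27 → F)}, (∀ s ∈ S, D' c s = 0) → (∀ s ∈ T, D' c s = 0) → crs S T ≤ LinearMap.ker (D c) := by
    intro S T h1 h2
    rw [crs, Submodule.span_le]
    rintro _ ⟨s, hs, t, ht, rfl⟩
    show D c (cr s t) = 0
    rw [D_cr', h1 s hs, h2 t ht, cr_zero_left', cr_comm, cr_zero_left', add_zero]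
  have ksh : ∀ {S : Submodule F (I27 → F)}, (∀ s ∈ S, D' c s = 0) → shs S ≤ LinearMap.ker (D c) := by
    intro S h1
    rw [shs, Submodule.span_le]
    rintro _ ⟨s, hs, rfl⟩
    show D c (sh s) = 0
    rw [D_sh', h1 s hs, cr_comm, cr_zero_left']
  have hDW₂ : W₂ ≤ LinearMap.ker (D c) := by rw [← c₁']; exact kcr' hDS₁ hDS₁
  have hDW₁ : W₁ ≤ LinearMap.ker (D c) := by rw [← c₂']; exact kcr' hDS₂ hDS₂
  have hDR : R ≤ LinearMap.ker (D c) := sR.trans (kcr' hDS₁ hDS₂)
  -- the subspaces `N₁`, `N₂`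
  have h12 : W₁ ⊓ W₂ = ⊥ := by
    rcases irr_three hφ hc hV aW₁ dW₁ aW₂ with h | h
    · exact h
    · exact absurd (Submodule.eq_of_le_of_finrank_eq h (by omega)) nW
  have h12s : finrank F ↥(W₁ ⊔ W₂) = 6 := by
    have := Submodule.finrank_sup_add_finrank_inf_eq W₁ W₂
    rw [h12, finrank_bot] at this
    omega
  have six : ∀ {S W W' : Submodule F (I27 → F)}, Stab (V' F) φ.range S → finrank F ↥S = 3 → Stab (V F) φ.range W →
      finrank F ↥W = 3 → Stab (V F) φ.range W' → finrank F ↥W' = 3 → W' ⊓ W = ⊥ → crs S S = W →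
      finrank F ↥(shs S) = 6 ∧ W' ⊓ shs S = ⊥ := by
    intro S W W' aS dS aW dW aW' dW' hWW hsp
    have h1 := sh_not_le hφ hc aS dS aW' aW dW hWW hsp
    have h2 : W ≤ shs S := by rw [← hsp]; exact crs_le_shs S
    have h3 := finrank_shs dS
    obtain ⟨k, hk⟩ := three_dvd hφ hc hV (stab_shs aS)
    have h4 := Submodule.finrank_mono h2
    have h5 : finrank F ↥(shs S) ≠ 3 := by
      intro h6
      apply h1
      have h7 : W = shs S := Submodule.eq_of_le_of_finrank_eq h2 (by omega)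
      intro s hs
      rw [h7]
      exact Submodule.mem_sup_right (Submodule.subset_span ⟨s, hs, rfl⟩)
    have h6 : finrank F ↥(shs S) = 6 := by omega
    refine ⟨h6, ?_⟩
    rcases irr_three hφ hc hV aW' dW' (stab_shs aS) with h | h
    · exact h
    · exfalso
      apply h1
      have h7 : W' ⊔ W = shs S := by
        refine Submodule.eq_of_le_of_finrank_eq (sup_le h h2) ?_
        have := Submodule.finrank_sup_add_finrank_inf_eq W' W
        rw [hWW, finrank_bot] at this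
        omega
      intro s hs
      rw [h7]
      exact Submodule.subset_span ⟨s, hs, rfl⟩
  obtain ⟨dN₁, n₁⟩ := six aS₁ dS₁ aW₂ dW₂ aW₁ dW₁ h12 c₁'
  obtain ⟨dN₂, n₂⟩ := six aS₂ dS₂ aW₁ dW₁ aW₂ dW₂ (by rw [inf_comm]; exact h12) c₂'
  have aN₁ := stab_shs aS₁
  have aN₂ := stab_shs aS₂
  have inf_st : ∀ {A B : Submodule F (I27 → F)}, Stab (V F) φ.range A → Stab (V F) φ.range B → Stab (V F) φ.range (A ⊓ B) :=
    fun hA hB g hg w hw => ⟨hA g hg w hw.1, hB g hg w hw.2⟩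
  have sup_st : ∀ {A B : Submodule F (I27 → F)}, Stab (V F) φ.range A → Stab (V F) φ.range B →
      Stab (V F) φ.range (A ⊔ B) := by
    intro A B hA hB g hg w hw
    obtain ⟨a, ha, b, hb, rfl⟩ := Submodule.mem_sup.1 hw
    rw [map_add]
    exact Submodule.add_mem_sup (hA g hg a ha) (hB g hg b hb)
  have hN : shs S₁ ⊓ shs S₂ = ⊥ := by
    have h1 := inf_st aN₁ aN₂
    obtain ⟨k, hk⟩ := three_dvd hφ hc hV h1
    have h2 : finrank F ↥(shs S₁ ⊓ shs S₂) ≤ finrank F ↥(shs S₁) := Submodule.finrank_mono inf_le_left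
    have h3 : k = 0 ∨ k = 1 ∨ k = 2 := by omega
    have q₁ : ¬ W₁ ≤ shs S₁ := by
      intro h
      rw [inf_eq_left.2 h] at n₁
      rw [n₁, finrank_bot] at dW₁
      omega
    have q₂ : ¬ W₂ ≤ shs S₂ := by
      intro h
      rw [inf_eq_left.2 h] at n₂
      rw [n₂, finrank_bot] at dW₂
      omega
    rcases h3 with rfl | rfl | rfl
    · exact Submodule.finrank_eq_zero.1 hk
    · exfalso
      rcases oV _ h1 hk with h | h
      · exact q₁ (h ▸ inf_le_left)
      · exact q₂ (h ▸ inf_le_right)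
    · exfalso
      have h4 : shs S₁ ⊓ shs S₂ = shs S₁ := Submodule.eq_of_le_of_finrank_eq inf_le_left (by omega)
      have h5 : W₂ ≤ shs S₁ := by rw [← c₁']; exact crs_le_shs S₁
      exact q₂ (h5.trans (inf_eq_left.1 h4))
  have dN : finrank F ↥(shs S₁ ⊔ shs S₂) = 12 := by
    have := Submodule.finrank_sup_add_finrank_inf_eq (shs S₁) (shs S₂)
    rw [hN, finrank_bot] at this
    omega
  have hNR : (shs S₁ ⊔ shs S₂) ⊓ R = ⊥ := by
    rcases iR _ inf_le_right (inf_st (sup_st aN₁ aN₂) aR) with h | h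
    · exact h
    · exfalso
      have h1 : R ≤ shs S₁ ⊔ shs S₂ := inf_eq_right.1 h
      have h2 : R ⊓ shs S₁ = ⊥ := by
        rcases iR _ inf_le_left (inf_st aR aN₁) with h | h
        · exact h
        · exfalso
          have h3 := Submodule.finrank_mono (inf_eq_left.1 h)
          omega
      have h3 := Submodule.finrank_sup_add_finrank_inf_eq R (shs S₁)
      rw [h2, finrank_bot] at h3
      have h4 : finrank F ↥(R ⊔ shs S₁) ≤ finrank F ↥(shs S₁ ⊔ shs S₂) := Submodule.finrank_mono (sup_le h1 le_sup_left)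
      omega
  have dK : finrank F ↥((shs S₁ ⊔ shs S₂) ⊔ R) = 21 := by
    have := Submodule.finrank_sup_add_finrank_inf_eq (shs S₁ ⊔ shs S₂) R
    rw [hNR, finrank_bot] at this
    omega
  have hK : (shs S₁ ⊔ shs S₂) ⊔ R ≤ LinearMap.ker (D c) := sup_le (sup_le (ksh hDS₁) (ksh hDS₂)) hDR
  have hK' := Submodule.finrank_mono hK
  have hrk := LinearMap.finrank_range_add_finrank_ker (D c)
  have hdim : finrank F (I27 → F) = 27 := by
    rw [Module.finrank_fintype_fun_eq_card]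
    decide
  rw [hdim] at hrk
  refine no_der hS hc hc0 hfix ?_ ?_ (by omega) ?_
  · intro W h1 h2 w hw
    rcases oV W h1 h2 with rfl | rfl
    · exact hDW₁ hw
    · exact hDW₂ hw
  · intro W h1 h2 w hw
    rcases oV' W h1 h2 with rfl | rfl
    · exact hDS₁ w hw
    · exact hDS₂ w hw
  · intro h6 z hz h1 h5
    have e0 := hf z hz h1 h5
    have hKe : LinearMap.ker (D c) = (shs S₁ ⊔ shs S₂) ⊔ R := (Submodule.eq_of_le_of_finrank_eq hK (by (clear * - dK hrk h6; omega))).symm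
    rw [hKe]
    have e1 := fix_sup (T := V F z) (fun w hw => sup_st aN₁ aN₂ z hz w hw) (aR z hz) hNR
    have e2 := fix_sup (T := V F z) (aN₁ z hz) (aN₂ z hz) hN
    have e3 := fix_six hφ hc hV aN₁ dN₁ hz h1 h5
    have e4 := fix_six hφ hc hV aN₂ dN₂ hz h1 h5
    have e5 := fR z hz h1 h5
    omega

end alt

end Cfsg.Agent.H944.E6CovEnd
end

-- part: H401/SixLast
section
/-!
# S5927, S5928: `sixc_two`: the end game from the types (helper401)
-/

set_option autoImplicit false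
set_option linter.unusedSectionVars false

namespace Cfsg.Agent.H401.SixLast

open Cfsg Cfsg.Lie Module Equiv
open Cfsg.Agent.ChevalleyStructure.E6Min.Tables Cfsg.Agent.ChevalleyStructure.E6Min.Basic
  Cfsg.Agent.ChevalleyStructure.E6Min.Adjoint
open Cfsg.Agent.H952.F4 (ev es matRep sh cr tf MaxAlt)
open Cfsg.Agent.H163.E6 Cfsg.Agent.H163.E6.SixC
open Cfsg.Agent.H958.SixC
open Cfsg.Agent.H401.SixUniq

universe u

variable {F : Type u} [Field F] [Finite F] [CharP F 2] {H : Subgroup ↥(chevE6.group F)}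
  {φ : ↥(alternatingGroup (Fin 6)) →* ↥(chevE6.group F)}

theorem pr1 : Pr (V F) (V' F) := Or.inl ⟨rfl, rfl⟩
theorem pr2 : Pr (V' F) (V F) := Or.inr ⟨rfl, rfl⟩

/-- the list of the stable subspaces of dimension three -/
theorem only (hR : BoxR F ↥(φ.range.comap (ad F))) (hS : Sit H 6 φ) {ω : Fˣ} (hω : Cover φ ω)
    {ζ z g₁ g₂ β t a : ↥(φ.range.comap (ad F))} (hF : Full ζ z g₁ g₂ β t a)
    (hζ : ((ζ : ↥(Zgrp F)) : GL I27 F) = scal ω) {ρ ρ' : Representation F ↥(Zgrp F) (I27 → F)} (hp : Pr ρ ρ')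
    (h6 : 6 ≤ ev (ρ' z) 1) {W₁ W₂ : Submodule F (I27 → F)} (h₁ : Ty φ ρ z g₁ W₁) (h₂ : Ty φ ρ z g₂ W₂) :
    ∀ W : Submodule F (I27 → F), Stab ρ φ.range W → finrank F ↥W = 3 → W = W₁ ∨ W = W₂ := by
  intro W hW d
  rcases ty_cases hω.1 hω.2.1 hF hζ hp.left hW d with ⟨h, -⟩ | ⟨h, -⟩
  · exact Or.inl (uniq_of hR hS hω hF hζ hp h6 h h₁ h₂)
  · exact Or.inr (uniq_of hR hS hω hF.symm hζ hp h6 h h₂ h₁)

seal _root_.Finset.sum _root_.dotProduct in
/-- **the contradiction from the existence of both types in both modules** -/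
theorem last (hR : BoxR F ↥(φ.range.comap (ad F))) (hS : Sit H 6 φ) {ω : Fˣ} (hω : Cover φ ω)
    {ζ z g₁ g₂ β t a : ↥(φ.range.comap (ad F))} (hF : Full ζ z g₁ g₂ β t a)
    (hζ : ((ζ : ↥(Zgrp F)) : GL I27 F) = scal ω)
    (hct : ∀ {ρ ρ' : Representation F ↥(Zgrp F) (I27 → F)}, Pr ρ ρ' → ∀ {W : Submodule F (I27 → F)}, Ty φ ρ z g₁ W →
      Ty φ ρ' z g₂ (crs W W))
    (hct' : ∀ {ρ ρ' : Representation F ↥(Zgrp F) (I27 → F)}, Pr ρ ρ' → ∀ {W : Submodule F (I27 → F)}, Ty φ ρ z g₂ W →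
      Ty φ ρ' z g₁ (crs W W))
    (hW₁ : ∃ W, Ty φ (V F) z g₁ W) (hW₂ : ∃ W, Ty φ (V F) z g₂ W) (hS₁ : ∃ W, Ty φ (V' F) z g₁ W)
    (hS₂ : ∃ W, Ty φ (V' F) z g₂ W) (he : 7 ≤ ev (V F z) 1) (he' : 7 ≤ ev (V' F z) 1) : False := by
  obtain ⟨W₁, hW₁⟩ := hW₁
  obtain ⟨W₂, hW₂⟩ := hW₂
  obtain ⟨S₁, hS₁⟩ := hS₁
  obtain ⟨S₂, hS₂⟩ := hS₂
  have nW : W₁ ≠ W₂ := by
    rintro rfl
    rcases ty_cases hω.1 hω.2.1 hF hζ (Or.inl rfl) hW₁.st hW₁.d with ⟨-, h⟩ | ⟨-, h⟩
    · exact h hW₂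
    · exact h hW₁
  have c₁ : crs W₁ W₁ = S₂ := uniq_of hR hS hω hF.symm hζ pr2 (by omega) (hct pr1 hW₁) hS₂ hS₁
  have c₂ : crs W₂ W₂ = S₁ := uniq_of hR hS hω hF hζ pr2 (by omega) (hct' pr1 hW₂) hS₁ hS₂
  have c₁' : crs S₁ S₁ = W₂ := uniq_of hR hS hω hF.symm hζ pr1 (by omega) (hct pr2 hS₁) hW₂ hW₁
  have c₂' : crs S₂ S₂ = W₁ := uniq_of hR hS hω hF hζ pr1 (by omega) (hct' pr2 hS₂) hW₁ hW₂
  obtain ⟨u₁, m₁, n₁, k₁⟩ := hS₁.k
  obtain ⟨u₂, m₂, n₂, k₂⟩ := hS₂.k
  obtain ⟨dR, nR, fR, iR⟩ := br_of hR hS hω hF hζ pr2 S₁ S₂ (st_iff.2 hS₁.st) (st_iff.2 hS₂.st) hS₁.d hS₂.d u₁ m₁ u₂ m₂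
    k₁ k₂ n₁ n₂
  have aR : Stab (V F) φ.range (crs S₁ S₂) :=
    st_iff.1 (crs_st (r := rP φ (V' F)) (r' := rP φ (V F)) (fun g x y => (pr2.cr g x y :)) (st_iff.2 hS₁.st)
      (st_iff.2 hS₂.st))
  have hzr : ad F (z : ↥(Zgrp F)) ∈ φ.range := z.2
  have hz5 : (z : ↥(Zgrp F)) ^ 5 = 1 := congrArg Subtype.val hF.h1.z5
  have hz1 : (z : ↥(Zgrp F)) ≠ 1 := by
    intro h1
    obtain ⟨c, hc⟩ := ch_pr hω.1 hω.2.1 hζ (ρ := V F) (Or.inl rfl)
    have h2 : 3 * ev (V F z) 1 ≤ finrank F (I27 → F) := ev_le hF (rP φ (V F)) hc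
    rw [h1, map_one, H905.E6T.finrank27] at h2
    have h3 : ev (1 : (I27 → F) →ₗ[F] (I27 → F)) 1 = 27 := by
      have h4 : Module.End.eigenspace (1 : Module.End F (I27 → F)) 1 = ⊤ := by
        rw [eq_top_iff]
        intro v _
        rw [Module.End.mem_eigenspace_iff, one_smul]
        rfl
      rw [ev, h4, finrank_top, H905.E6T.finrank27]
    omega
  refine H944.E6CovEnd.end_game hS hω hW₁.st hW₁.d hW₂.st hW₂.d hS₁.st hS₁.d hS₂.st hS₂.d nW
    (only hR hS hω hF hζ pr1 (by omega) hW₁ hW₂) (only hR hS hω hF hζ pr2 (by omega) hS₁ hS₂) c₁ c₂ c₁' c₂' aR dR le_rfl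
    (fun X hX hXs => iR X hX (st_iff.2 hXs)) ?_ ?_
  · intro z' hz' h1' h5'
    refine (H944.E6CovKer.fix_le hS.inj aR hz' hzr h1' hz1 h5' hz5).trans ?_
    have h1 : crs S₁ S₂ ⊓ Module.End.eigenspace (V F z) 1 ≤ Submodule.span F {cr u₁ u₂} := by
      rintro y ⟨hy, hy1⟩
      rw [SetLike.mem_coe, Module.End.mem_eigenspace_iff, one_smul] at hy1
      obtain ⟨s, hs⟩ := fR y hy hy1
      rw [hs]
      exact Submodule.smul_mem _ _ (Submodule.mem_span_singleton_self _)
    exact (Submodule.finrank_mono h1).trans (H65.SixA.one_span _)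
  · intro z' hz' h1' h5'
    have h1 := H944.E6CovKer.fix_le hS.inj (ρ := V F) (U := ⊤) (fun g _ w _ => Submodule.mem_top) hzr hz' hz1 h1' hz5 h5'
    rw [top_inf_eq, top_inf_eq] at h1
    exact he.trans h1

end Cfsg.Agent.H401.SixLast
end

private theorem dce_424456e838e8 : _root_.True := by
  try have : _root_.True := by simp only [_root_.Cfsg.Agent.H944.E6CovEnd.crs.eq_1]
  try have : _root_.True := by simp only [_root_.Cfsg.Agent.H944.E6CovEnd.shs.eq_1]
  exact _root_.True.intro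
end

-- part: H163/E6/SixcTwo
section
prune_inst 0x404200400010000000000000400000000000000000000000000c000000100a0000002204008200000000004000000006001000010424000000e000000000001000000000291080000000080000000000000000000000000000000000000010000000000000
set_option linter.all false
open scoped Cfsg.Agent.FastGrp

-- part: H401/SixU3
section
/-!
# S5927, S5928: `sixc_two`, piece U3: `cr` and `sh` on stable subspaces of dimension three (helper401)
-/

set_option autoImplicit false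
set_option linter.unusedSectionVars false

namespace Cfsg.Agent.H401.SixU3

open Cfsg Cfsg.Lie Module Equiv
open Cfsg.Agent.ChevalleyStructure.E6Min.Tables Cfsg.Agent.ChevalleyStructure.E6Min.Basic
  Cfsg.Agent.ChevalleyStructure.E6Min.Adjoint
open Cfsg.Agent.H952.F4 (ev es matRep sh cr tf MaxAlt)
open Cfsg.Agent.H952.F4.Jord
open Cfsg.Agent.H905.E6T (sh_zero cr_zero_left cr_zero_right cr_self2)
open Cfsg.Agent.H163.E6 Cfsg.Agent.H163.E6.SixC
open Cfsg.Agent.H958.SixC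

universe u

/-- the span of the products -/
def crSpan {F : Type u} [Field F] (S : Submodule F (I27 → F)) : Submodule F (I27 → F) :=
  Submodule.span F {v | ∃ x ∈ S, ∃ y ∈ S, v = cr x y}

section
variable {F : Type u} [Field F]

theorem crSpan_le (h2 : (2 : F) = 0) {S : Submodule F (I27 → F)} {x y v : I27 → F}
    (h : ∀ u ∈ S, ∃ p q r : F, u = p • x + q • y + r • v) :
    crSpan S ≤ Submodule.span F {cr x y, cr x v, cr y v} := by
  rw [crSpan, Submodule.span_le]
  rintro _ ⟨u, hu, u', hu', rfl⟩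
  obtain ⟨p, q, r, rfl⟩ := h u hu
  obtain ⟨p', q', r', rfl⟩ := h u' hu'
  have e : cr (p • x + q • y + r • v) (p' • x + q' • y + r' • v) =
      (p * q' + q * p') • cr x y + (p * r' + r * p') • cr x v + (q * r' + r * q') • cr y v := by
    simp only [cr_add_left, cr_add_right, cr_smul_left, cr_smul_right, cr_self2 h2, smul_zero]
    rw [cr_comm y x, cr_comm v x, cr_comm v y]
    module
  rw [e]
  exact mem3 _ _ _

theorem exists_basis3 {S : Submodule F (I27 → F)} (h3 : finrank F ↥S = 3) :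
    ∃ x ∈ S, ∃ y ∈ S, ∃ v ∈ S, ∀ u ∈ S, ∃ p q r : F, u = p • x + q • y + r • v := by
  have B := Module.finBasisOfFinrankEq F ↥S h3
  refine ⟨B 0, (B 0).2, B 1, (B 1).2, B 2, (B 2).2, fun u hu => ⟨B.repr ⟨u, hu⟩ 0, B.repr ⟨u, hu⟩ 1, B.repr ⟨u, hu⟩ 2, ?_⟩⟩
  have h := congrArg Subtype.val (B.sum_repr ⟨u, hu⟩)
  rw [Fin.sum_univ_three] at h
  exact h.symm

end

variable {F : Type u} [Field F] {H : Subgroup ↥(chevE6.group F)} {φ : ↥(alternatingGroup (Fin 6)) →* ↥(chevE6.group F)}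

/-- the products of a stable subspace of dimension three -/
theorem crS_aux (h2 : (2 : F) = 0) (hS : Sit H 6 φ) (hd : Div3 φ) {ρ ρ' : Representation F ↥(Zgrp F) (I27 → F)}
    (hρ : ρ = V F ∨ ρ = V' F) (hρ' : ρ' = V F ∨ ρ' = V' F) (hcr : ∀ g x y, ρ' g (cr x y) = cr (ρ g x) (ρ g y))
    {S : Submodule F (I27 → F)} (hSt : Stab ρ φ.range S) (h3 : finrank F ↥S = 3) :
    Stab ρ' φ.range (crSpan S) ∧ finrank F ↥(crSpan S) = 3 := by
  have h1 : Stab ρ' φ.range (crSpan S) := by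
    refine H65.SixA.span_stab fun g hg v hv => ?_
    obtain ⟨x, hx, y, hy, rfl⟩ := hv
    exact ⟨_, hSt g hg x hx, _, hSt g hg y hy, hcr g x y⟩
  refine ⟨h1, ?_⟩
  obtain ⟨x, hx, y, hy, v, hv, hsp⟩ := exists_basis3 h3
  obtain ⟨p, hp, q, hq, hne⟩ := cr_ne hS hd hρ hSt h3
  have h4 : finrank F ↥(crSpan S) ≤ 3 := (Submodule.finrank_mono (crSpan_le h2 hsp)).trans (finrank_span3 _ _ _)
  exact three_of h4 (hd ρ' hρ' _ h1) (Submodule.subset_span ⟨p, hp, q, hq, rfl⟩) hne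

end Cfsg.Agent.H401.SixU3
end

-- part: H905/SixC/CrTy
section
/-!
# S5927, S5928, `sixc_two`: the products of a 3-dimensional stable subspace have the other type (helper905)
-/

set_option autoImplicit false

namespace Cfsg.Agent.H905.SixC

open Cfsg Cfsg.Lie Module
open Cfsg.Agent.ChevalleyStructure.E6Min.Tables
open Cfsg.Agent.H952.F4 (ev es sh cr tf)
open Cfsg.Agent.H952.F4.Jord

universe u

variable {F : Type u} [Field F]

/-- the relation of `z` on the products -/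
theorem rel_cr (h2 : (2 : F) = 0) {b : F} {T : (I27 → F) →ₗ[F] (I27 → F)} {w0 w1 w2 : I27 → F}
    (h01 : T (cr w0 w1) = cr w1 w2) (h02 : T (cr w0 w2) = cr w1 (w0 + b • w1 + b • w2))
    (h12 : T (cr w1 w2) = cr w2 (w0 + b • w1 + b • w2)) {y : I27 → F}
    (hy : y ∈ Submodule.span F ({cr w0 w1, cr w0 w2, cr w1 w2} : Set (I27 → F))) :
    T (T (T y)) = y + b • T y + b • T (T y) := by
  have e1 : T (cr w0 w2) = cr w0 w1 + b • cr w1 w2 := by
    rw [h02, cr_add_right, cr_add_right, cr_smul_right, cr_smul_right, cr_self, h2, zero_smul, smul_zero, add_zero,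
      cr_comm w1 w0]
  have e2 : T (cr w1 w2) = cr w0 w2 + b • cr w1 w2 := by
    rw [h12, cr_add_right, cr_add_right, cr_smul_right, cr_smul_right, cr_self, h2, zero_smul, smul_zero, add_zero,
      cr_comm w2 w0, cr_comm w2 w1]
  generalize cr w0 w1 = y1 at *
  generalize cr w0 w2 = y2 at *
  generalize cr w1 w2 = y3 at *
  induction hy using Submodule.span_induction with
  | mem x hx =>
    rcases hx with rfl | rfl | rfl
    · simp only [h01, e1, e2, map_add, map_smul]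
    · simp only [h01, e1, e2, map_add, map_smul]
      module
    · simp only [h01, e1, e2, map_add, map_smul]
  | zero => simp
  | add x x' _ _ hx hx' =>
    simp only [map_add, hx, hx']
    module
  | smul r x _ hx =>
    simp only [map_smul, hx]
    module

end Cfsg.Agent.H905.SixC

namespace Cfsg.Agent.H163.E6.SixC

open Cfsg Cfsg.Lie Module Equiv
open Cfsg.Agent.ChevalleyStructure.E6Min.Tables Cfsg.Agent.ChevalleyStructure.E6Min.Basic
  Cfsg.Agent.ChevalleyStructure.E6Min.Adjoint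
open Cfsg.Agent.H952.F4 (ev es matRep sh cr tf MaxAlt)
open Cfsg.Agent.H958.SixC
open Cfsg.Agent.H905.SixC (rel_cr)

universe u

variable {F : Type u} [Field F] [Finite F] [CharP F 2] {H : Subgroup ↥(chevE6.group F)}
  {φ : ↥(alternatingGroup (Fin 6)) →* ↥(chevE6.group F)}

omit [Finite F] in
/-- the scalar of `β` -/
theorem exists_sc {ω : Fˣ} (h1 : ω ≠ 1) (h3 : ω ^ 3 = 1) {ζ z g₁ g₂ β t a : ↥(φ.range.comap (ad F))}
    (hF : Full ζ z g₁ g₂ β t a) (hζ : ((ζ : ↥(Zgrp F)) : GL I27 F) = scal ω)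
    {ρ : Representation F ↥(Zgrp F) (I27 → F)} (hρ : ρ = V F ∨ ρ = V' F) : ∃ b : F, Sc (rP φ ρ) β b := by
  obtain ⟨c, hc⟩ := ch_pr h1 h3 hζ hρ
  have h2 : (2 : F) = 0 := CharTwo.two_eq_zero
  have hc2 : c * c + c + 1 = 0 := by
    have h4 := hc.cube
    have h5 : (c - 1) * (c * c + c + 1) = 0 := by linear_combination h4
    exact (mul_eq_zero.1 h5).resolve_left (sub_ne_zero.2 hc.ne)
  have hc3 : c * c * c = 1 := by rw [← hc.cube]; ring
  rcases hF.beta with rfl | rfl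
  · exact ⟨c, hc.act, hc2, h2⟩
  · refine ⟨c * c, fun v => ?_, by linear_combination c * hc3 + hc2, h2⟩
    have h6 : rP φ ρ ζ⁻¹ (rP φ ρ ζ ((c * c) • v)) = (c * c) • v := inv_ap _ _ _
    simp only [hc.act, smul_smul, show c * (c * c) = 1 by rw [← hc3]; ring, one_smul] at h6
    exact h6

/-- **Q1**: the products of a subspace of type 1 form a subspace of type 2. -/
theorem cr_ty (hS : Sit H 6 φ) {ω : Fˣ} (hω : Cover φ ω) {ζ z g₁ g₂ β t a : ↥(φ.range.comap (ad F))}
    (hF : Full ζ z g₁ g₂ β t a) (hζ : ((ζ : ↥(Zgrp F)) : GL I27 F) = scal ω)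
    {ρ ρ' : Representation F ↥(Zgrp F) (I27 → F)} (hp : Pr ρ ρ') {W : Submodule F (I27 → F)}
    (h : Ty φ ρ z g₁ W) : Ty φ ρ' z g₂ (crs W W) := by
  have h2 : (2 : F) = 0 := CharTwo.two_eq_zero
  obtain ⟨b, hs⟩ := exists_sc hω.1 hω.2.1 hF hζ hp.left
  have hs' := sc_pr hω.2.1 hζ hF.beta hp hs
  have hdr := hd hS.inj hω hp.left
  have hdr' := hd hS.inj hω hp.right
  obtain ⟨w, hw, h0, k⟩ := h.k
  have hst : St (rP φ ρ) W := st_iff.2 h.st
  have hr := rr_zero hdr hF.h1 hs hst h.d hw k h0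
  have hS3 : S3 (rP φ ρ) z g₁ w = W := by
    apply Submodule.eq_of_le_of_finrank_eq (S3_le hst hw)
    rw [S3_three hdr hF.h1 hs k hr h0, h.d]
  obtain ⟨w0, e0⟩ : ∃ w0, w0 = rP φ ρ g₁ w := ⟨_, rfl⟩
  obtain ⟨w1, e1⟩ : ∃ w1, w1 = rP φ ρ z w0 := ⟨_, rfl⟩
  obtain ⟨w2, e2⟩ : ∃ w2, w2 = rP φ ρ z w1 := ⟨_, rfl⟩
  have e3 : rP φ ρ z w2 = w0 + b • w1 + b • w2 := by
    have hx := Hx.of_KF hF.h1 hs k
    have hob_ := hx.rels hs.b2 hs.two hr
    obtain ⟨q, -, -⟩ := hob_
    simp only [← e0, ← e1, ← e2] at q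
    exact q
  simp only [S3, ← e0, ← e1, ← e2] at hS3
  -- the stable subspace of the products
  obtain ⟨hcs, hcd⟩ := H401.SixU3.crS_aux h2 hS (div3 hS.inj hω) hp.left hp.right (fun g x y => hp.cr g x y) h.st h.d
  have hcs' : Stab ρ' φ.range (crs W W) := hcs
  have hcd' : finrank F ↥(crs W W) = 3 := hcd
  have hle : crs W W ≤ Submodule.span F ({cr w0 w1, cr w0 w2, cr w1 w2} : Set (I27 → F)) := by
    refine H401.SixU3.crSpan_le h2 (S := W) fun u hu => ?_
    rw [← hS3, Submodule.mem_span_triple] at hu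
    obtain ⟨p, q, r, rfl⟩ := hu
    exact ⟨p, q, r, rfl⟩
  have hcr : ∀ g : ↥(φ.range.comap (ad F)), ∀ x y, rP φ ρ' g (cr x y) = cr (rP φ ρ g x) (rP φ ρ g y) :=
    fun g x y => hp.cr _ x y
  have hrel : ∀ y ∈ crs W W, rP φ ρ' z (rP φ ρ' z (rP φ ρ' z y)) =
      y + b • rP φ ρ' z y + b • rP φ ρ' z (rP φ ρ' z y) := by
    intro y hy
    refine rel_cr (T := rP φ ρ' z) h2 (w0 := w0) (w1 := w1) (w2 := w2) ?_ ?_ ?_ (hle hy)
    · rw [hcr, ← e1, ← e2]
    · rw [hcr, ← e1, e3]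
    · rw [hcr, ← e2, e3]
  rcases ty_cases hω.1 hω.2.1 hF hζ hp.right hcs' hcd' with ⟨⟨-, -, x, hx, hx0, kx⟩, -⟩ | ⟨ht, -⟩
  · exfalso
    have hst' : St (rP φ ρ') (crs W W) := st_iff.2 hcs'
    have hr' := rr_zero hdr' hF.h1 hs' hst' hcd' hx kx hx0
    have hS3' := S3_three hdr' hF.h1 hs' kx hr' hx0
    have hx0' : rP φ ρ' g₁ x ∈ crs W W := hst' g₁ x hx
    have q1 := hrel _ hx0'
    have hh := Hx.of_KF hF.h1 hs' kx
    obtain ⟨q2, -, -⟩ := hh.rels hs'.b2 hs'.two hr'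
    rw [S3] at hS3'
    generalize rP φ ρ' g₁ x = x0 at *
    generalize rP φ ρ' z x0 = x1 at *
    generalize rP φ ρ' z x1 = x2 at *
    rw [q1] at q2
    -- `(b + b²) (x1 + x2) = 0`
    have q3 : (0 : F) • x0 + (b - b * b) • x1 + (b - b * b) • x2 = 0 := by
      have q4 : (0 : F) • x0 + (b - b * b) • x1 + (b - b * b) • x2 =
          (x0 + b • x1 + b • x2) - (x0 + (b * b) • x1 + (b * b) • x2) := by module
      rw [q4, q2, sub_self]
    have q5 := (indep3 hS3' q3).2.1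
    have q6 := hs.b2
    have q7 : (1 : F) = 0 := by linear_combination q6 - q5 - (b * b) * h2
    exact one_ne_zero q7
  · exact ht

end Cfsg.Agent.H163.E6.SixC
end

-- part: H288/E6/Gen
section
/-!
# S5927: generating triples of `A₉`, `A₁₀`, `A₁₁` (helper288; triples for 9, 11 found by helper905)
-/

set_option autoImplicit false

namespace Cfsg.Agent.H288.E6

open Equiv Equiv.Perm
open Cfsg.Agent.H952.F4.Gen (mem_of_star ev_mem)

theorem gen_of {n : ℕ} (x y : Perm (Fin (n + 2))) (hx : sign x = 1) (hy : sign y = 1)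
    (W : Fin (n + 2) → List (Fin 4)) (hW : ∀ k, k ≠ 0 → Cfsg.Agent.H952.F4.Gen.ev x y (W k) = swap 0 1 * swap 0 k) :
    Subgroup.closure {(⟨x, mem_alternatingGroup.2 hx⟩ : ↥(alternatingGroup (Fin (n + 2)))),
      ⟨y, mem_alternatingGroup.2 hy⟩} = ⊤ := by
  rw [eq_top_iff]
  intro σ _
  have h1 : (σ : Perm (Fin (n + 2))) ∈ Subgroup.closure {x, y} := by
    refine mem_of_star _ ?_ ?_ σ.2
    · rw [Subgroup.closure_le]
      rintro z (rfl | rfl)
      · exact mem_alternatingGroup.2 hx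
      · exact mem_alternatingGroup.2 hy
    · intro k hk
      rw [← hW k hk]
      exact ev_mem (Subgroup.subset_closure (by simp)) (Subgroup.subset_closure (by simp)) _
  have h2 : (Subgroup.closure {(⟨x, mem_alternatingGroup.2 hx⟩ : ↥(alternatingGroup (Fin (n + 2)))),
      ⟨y, mem_alternatingGroup.2 hy⟩}).map (alternatingGroup (Fin (n + 2))).subtype = Subgroup.closure {x, y} := by
    rw [MonoidHom.map_closure, Set.image_pair]
    rfl
  rw [← h2] at h1
  obtain ⟨τ, hτ, h3⟩ := h1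
  rwa [← Subtype.ext h3]

end Cfsg.Agent.H288.E6
end

-- part: H288/E6/C6G
section
/-!
# S5927, S5928: `sixc_two`, BOX G: the relations of the three-fold cover of `A₆` (helper288)
-/

set_option autoImplicit false
set_option linter.unusedSectionVars false

namespace Cfsg.Agent.H288.E6.C6G

open Equiv Equiv.Perm
open Cfsg.Agent.H958.SixC
open Cfsg.Agent.H163.E6.SixC (z0 g10 g20 t0 a0 b0)
open Cfsg.Agent.H401.E6Three (iota)
open Cfsg.Agent.H288.E6 (gen_of)

abbrev A6 := ↥(alternatingGroup (Fin 6))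

/-- `(0 1 2 3 4)` in `A₅` -/
def k5 : ↥(alternatingGroup (Fin 5)) := ⟨c[(0 : Fin 5), 1, 2, 3, 4], Perm.mem_alternatingGroup.2 (by decide +kernel)⟩
/-- `(0 1)(3 4)` in `A₅` -/
def x5 : ↥(alternatingGroup (Fin 5)) := ⟨c[(0 : Fin 5), 1] * c[(3 : Fin 5), 4], Perm.mem_alternatingGroup.2 (by decide +kernel)⟩
/-- `(1 4 5)` -/
def e0 : A6 := ⟨c[(1 : Fin 6), 4, 5], Perm.mem_alternatingGroup.2 (by decide +kernel)⟩
/-- the element conjugating `g10` into `g20` -/
def v0 : A6 := g10 * z0 * g10 * z0⁻¹ * g10 * z0⁻¹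

theorem f_k5 : iota k5 = z0 := by decide +kernel
theorem f_x5 : iota x5 = xx z0 g10 := by decide +kernel
theorem f_k5' : k5 ^ 5 = 1 := by decide +kernel
theorem f_x5' : x5 * x5 = 1 := by decide +kernel
theorem f_g1 : g10 * g10 = 1 := by decide +kernel
theorem f_v : v0 * g10 * v0⁻¹ = g20 := by decide +kernel
theorem f_t : t0 * t0 = 1 := by decide +kernel
theorem f_tz : t0 * z0 * t0⁻¹ = z0⁻¹ := by decide +kernel
theorem f_r2 : g10 * z0⁻¹ * z0⁻¹ * g10 * z0 * g10 = z0 * xx z0 g10 * z0⁻¹ * xx z0 g10 * z0⁻¹ := by decide +kernel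
theorem f_r2' : g20 * z0⁻¹ * z0⁻¹ * g20 * z0 * g20 = z0 * xx z0 g20 * z0⁻¹ * xx z0 g20 * z0⁻¹ := by decide +kernel
theorem f_r4 : g10 * z0 * g10 * z0⁻¹ * g10 = xx z0 g10 * z0 * xx z0 g10 * z0⁻¹ * xx z0 g10 := by decide +kernel
theorem f_r4' : g20 * z0 * g20 * z0⁻¹ * g20 = xx z0 g20 * z0 * xx z0 g20 * z0⁻¹ * xx z0 g20 := by decide +kernel
theorem f_c : (xx z0 g10 * z0) ^ 3 = 1 := by decide +kernel
theorem f_c' : (xx z0 g20 * z0) ^ 3 = 1 := by decide +kernel
theorem f_e : e0 ^ 3 = 1 := by decide +kernel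
theorem f_e' : (e0⁻¹ * z0) ^ 3 = 1 := by decide +kernel
theorem f_i1 : ∃ c : A6, c * (xx z0 g10 * z0) * c⁻¹ = (xx z0 g10 * z0)⁻¹ := by (set_option synthInstance.maxSize 9000 in open scoped Cfsg.Agent.Lib.FastPerm in decide +kernel)
theorem f_i2 : ∃ c : A6, c * (xx z0 g20 * z0) * c⁻¹ = (xx z0 g20 * z0)⁻¹ := by decide +kernel
theorem f_i3 : ∃ c : A6, c * e0 * c⁻¹ = e0⁻¹ := by decide +kernel
theorem f_i4 : ∃ c : A6, c * (e0⁻¹ * z0) * c⁻¹ = (e0⁻¹ * z0)⁻¹ := by decide +kernel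
theorem f_j1 : ∃ c : A6, c * a0 * c⁻¹ = xx z0 g10 * z0 := by (set_option synthInstance.maxSize 9000 in open scoped Cfsg.Agent.Lib.FastPerm in decide +kernel)
theorem f_j2 : ∃ c : A6, c * (a0 * b0) * c⁻¹ = xx z0 g20 * z0 := by (set_option synthInstance.maxSize 9000 in open scoped Cfsg.Agent.Lib.FastPerm in decide +kernel)
theorem f_j3 : ∃ c : A6, c * a0 * c⁻¹ = e0 := by (set_option synthInstance.maxSize 9000 in open scoped Cfsg.Agent.Lib.FastPerm in decide +kernel)
theorem f_j4 : ∃ c : A6, c * (a0 * b0) * c⁻¹ = e0⁻¹ * z0 := by (set_option synthInstance.maxSize 9000 in open scoped Cfsg.Agent.Lib.FastPerm in decide +kernel)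
theorem f_k (i : Fin 5) : (((z0 ^ (i : ℕ) * g10)⁻¹ : A6) : Perm (Fin 6)) 5 ≠ 5 := by
  revert i; decide +kernel
theorem iota5 : ∀ a : ↥(alternatingGroup (Fin 5)), ((iota a : A6) : Perm (Fin 6)) 5 = 5 := by
  intro a
  rw [Cfsg.Agent.H401.E6Three.iota_coe, Cfsg.Agent.H401.E6Three.ext5_apply]
  exact dif_neg (by decide)

theorem iota_one {a : ↥(alternatingGroup (Fin 5))} (h : iota a = 1) : a = 1 := by
  apply Subtype.ext
  ext i
  have h1 : Cfsg.Agent.H401.E6Three.ext5 (a : Perm (Fin 5)) = 1 := by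
    rw [← Cfsg.Agent.H401.E6Three.iota_coe, h]; rfl
  have h2 := congrArg (fun s : Perm (Fin 6) => s (Fin.castSucc i)) h1
  simp only [Cfsg.Agent.H401.E6Three.ext5_apply] at h2
  rw [dif_pos (by exact i.2)] at h2
  have h3 := Fin.castSucc_injective _ h2
  exact congrArg Fin.val h3

theorem gen1 : Subgroup.closure {z0, g10} = (⊤ : Subgroup A6) :=
  gen_of (n := 4) _ _ (by decide +kernel) (by decide +kernel)
    ![[], [], [1, 1, 2, 0, 2, 1, 2, 1], [0, 2, 1, 1, 2, 0, 2, 0], [0, 0, 2, 0, 2, 1, 2], [0, 2, 0, 2, 1, 2, 0, 0, 2]]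
    (by decide +kernel)

theorem gen2 : Subgroup.closure {z0, g20} = (⊤ : Subgroup A6) :=
  gen_of (n := 4) _ _ (by decide +kernel) (by decide +kernel)
    ![[], [], [0, 0, 2, 1, 2, 0, 2], [2, 0, 0, 2, 1, 2, 0], [0, 2, 1, 2, 0, 2, 0], [2, 0, 2, 1, 1, 2, 1, 2, 1]]
    (by decide +kernel)

theorem gen3 : Subgroup.closure {e0, e0⁻¹ * z0} = (⊤ : Subgroup A6) :=
  gen_of (n := 4) _ _ (by decide +kernel) (by decide +kernel)
    ![[], [], [1, 2, 1, 3, 0], [0, 3, 0, 2, 1], [3, 0, 2, 1, 3, 1, 2], [2, 1, 3, 0, 2, 0, 3]]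
    (by decide +kernel)

theorem gen4 : Subgroup.closure {z0, xx z0 g10 * xx z0 g20} = (⊤ : Subgroup A6) :=
  gen_of (n := 4) _ _ (by decide +kernel) (by decide +kernel)
    ![[], [], [0, 0, 2, 0, 3, 3], [2, 0, 0, 2, 2, 0], [0, 2, 0, 3, 1, 2], [2, 0, 3, 1, 2, 0, 2]]
    (by decide +kernel)

theorem gen5 : Subgroup.closure {z0, xx z0 g10, xx z0 g20} = (⊤ : Subgroup A6) := by
  rw [eq_top_iff, ← gen4, Subgroup.closure_le]
  rintro x (rfl | rfl)
  · exact Subgroup.subset_closure (by simp)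
  · exact Subgroup.mul_mem _ (Subgroup.subset_closure (by simp)) (Subgroup.subset_closure (by simp))

/-! ### the extension -/

/-- the three-fold cover -/
structure Ex {P : Type*} [Group P] (π : P →* A6) (ζ : P) : Prop where
  surj : Function.Surjective π
  cen : ∀ z, π z = 1 → ∀ b, b * z = z * b
  ker : ∀ z, π z = 1 → z = 1 ∨ z = ζ ∨ z = ζ⁻¹
  pz : π ζ = 1
  ne : ζ ≠ 1
  cube : ζ ^ 3 = 1
  perf : commutator P = ⊤
  nc : ∀ x y : P, π x = a0 → π y = b0 → x * y * x⁻¹ * y⁻¹ = ζ ∨ x * y * x⁻¹ * y⁻¹ = ζ⁻¹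

section ext

variable {P : Type*} [Group P] {π : P →* A6} {ζ : P}

theorem Ex.cube' (h : Ex π ζ) {w : P} (hw : π w = 1) : w ^ 3 = 1 := by
  rcases h.ker w hw with rfl | rfl | rfl
  · exact one_pow 3
  · exact h.cube
  · rw [inv_pow, h.cube, inv_one]

theorem Ex.exists_sq (h : Ex π ζ) {a : A6} (ha : a * a = 1) : ∃ b, π b = a ∧ b * b = 1 := by
  obtain ⟨b, rfl⟩ := h.surj a
  have hz : π (b * b) = 1 := by rw [map_mul, ha]
  have h3 := h.cube' hz
  refine ⟨b * (b * b), by rw [map_mul, map_mul, ha, mul_one], ?_⟩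
  have h4 : b * (b * b) * (b * (b * b)) = (b * b) ^ 3 := by
    rw [pow_succ, pow_succ, pow_one]
    simp only [mul_assoc]
  rw [h4, h3]

theorem Ex.sq_unique (h : Ex π ζ) {b b' : P} (hb : π b = π b') (h1 : b * b = 1) (h2 : b' * b' = 1) : b = b' := by
  obtain ⟨z, rfl⟩ : ∃ z, b' = b * z := ⟨b⁻¹ * b', by group⟩
  have hz : π z = 1 := by
    rw [map_mul] at hb
    exact (mul_eq_left.1 hb.symm)
  have h3 := h.cen z hz b
  have h4 : z * z = 1 := by
    have h5 : b * z * (b * z) = b * b * (z * z) := by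
      calc b * z * (b * z) = b * (z * b) * z := by simp only [mul_assoc]
        _ = b * (b * z) * z := by rw [h3]
        _ = b * b * (z * z) := by simp only [mul_assoc]
    rw [h5, h1, one_mul] at h2
    exact h2
  have h5 := h.cube' hz
  rw [pow_succ, pow_two, h4, one_mul] at h5
  rw [h5, mul_one]

theorem Ex.five_unique (h : Ex π ζ) {b b' : P} (hb : π b = π b') (h1 : b ^ 5 = 1) (h2 : b' ^ 5 = 1) : b = b' := by
  obtain ⟨z, rfl⟩ : ∃ z, b' = b * z := ⟨b⁻¹ * b', by group⟩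
  have hz : π z = 1 := by
    rw [map_mul] at hb
    exact (mul_eq_left.1 hb.symm)
  have h3 : Commute b z := h.cen z hz b
  rw [h3.mul_pow, h1, one_mul] at h2
  have h5 := h.cube' hz
  have h6 : z = 1 := by
    have e : z = z ^ 3 * z ^ 3 * (z ^ 5)⁻¹ := by group
    rw [e, h5, h2]; simp
  rw [h6, mul_one]

theorem Ex.cube_real (h : Ex π ζ) {x : P} (hx3 : π x ^ 3 = 1) (hc : ∃ c, c * π x * c⁻¹ = (π x)⁻¹) : x ^ 3 = 1 := by
  obtain ⟨c, hc⟩ := hc
  obtain ⟨g, rfl⟩ := h.surj c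
  have hz : π (x * (g * x * g⁻¹)) = 1 := by rw [map_mul, map_mul, map_mul, map_inv, hc, mul_inv_cancel]
  set z := x * (g * x * g⁻¹) with hzd
  have h1 : g * x * g⁻¹ = x⁻¹ * z := by rw [hzd, inv_mul_cancel_left]
  have hw : π (x ^ 3) = 1 := by rw [map_pow, hx3]
  have h2 : (g * x * g⁻¹) ^ 3 = x ^ 3 := by
    rw [conj_pow, h.cen _ hw, mul_inv_cancel_right]
  have h3 : (x⁻¹ * z) ^ 3 = (x ^ 3)⁻¹ := by
    have h4 : Commute x⁻¹ z := h.cen _ hz _
    rw [h4.mul_pow, h.cube' hz, mul_one, inv_pow]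
  have h5 : (x ^ 3) ^ 2 = 1 := by
    rw [pow_two]
    nth_rw 1 [← h2]
    rw [h1, h3, inv_mul_cancel]
  have h6 : (x ^ 3) ^ 3 = 1 := h.cube' hw
  have h7 : (x ^ 3) ^ 3 = (x ^ 3) ^ 2 * x ^ 3 := pow_succ _ _
  rw [h6, h5, one_mul] at h7
  exact h7.symm

theorem Ex.cz (h : Ex π ζ) (g : P) : g * ζ = ζ * g := h.cen ζ h.pz g

/-- closing the sign -/
theorem Ex.tw_aux (h : Ex π ζ) {q p : P} (hq : q * p * q⁻¹ = ζ * p ∨ q * p * q⁻¹ = ζ⁻¹ * p) :
    ∃ b, b * p * b⁻¹ = ζ * p := by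
  rcases hq with hq | hq
  · exact ⟨q, hq⟩
  · refine ⟨q⁻¹, ?_⟩
    have h1 : q * p = ζ⁻¹ * p * q := by rw [← hq]; group
    have h2 : q⁻¹ * p * q⁻¹⁻¹ = q⁻¹ * (ζ * (ζ⁻¹ * p * q)) := by group
    rw [h2, ← h1, ← mul_assoc, h.cz, ]
    group

theorem Ex.tw_a (h : Ex π ζ) {x : P} (hx : π x = a0) : ∃ b, b * x * b⁻¹ = ζ * x := by
  obtain ⟨y, hy⟩ := h.surj b0
  refine h.tw_aux (q := y) ?_
  rcases h.nc x y hx hy with h1 | h1
  · right
    have h2 : y * x * y⁻¹ = (x * y * x⁻¹ * y⁻¹)⁻¹ * x * (y * y⁻¹) * (y * y⁻¹) := by group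
    rw [h2, h1]; group
  · left
    have h2 : y * x * y⁻¹ = (x * y * x⁻¹ * y⁻¹)⁻¹ * x * (y * y⁻¹) * (y * y⁻¹) := by group
    rw [h2, h1]; group

theorem Ex.tw_ab (h : Ex π ζ) {p : P} (hp : π p = a0 * b0) : ∃ b, b * p * b⁻¹ = ζ * p := by
  obtain ⟨x, hx⟩ := h.surj a0
  have hy : π (x⁻¹ * p) = b0 := by rw [map_mul, map_inv, hx, hp, inv_mul_cancel_left]
  refine h.tw_aux (q := x) ?_
  have key : ∀ w : P, π w = 1 → x * (x⁻¹ * p) * x⁻¹ * (x⁻¹ * p)⁻¹ = w → x * p * x⁻¹ = w * p := by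
    intro w hw h1
    have h2 : x * p * x⁻¹ = x * ((x * (x⁻¹ * p) * x⁻¹ * (x⁻¹ * p)⁻¹) * (x⁻¹ * p)) := by group
    rw [h2, h1, ← mul_assoc x w, h.cen w hw x]
    group
  rcases h.nc x (x⁻¹ * p) hx hy with h1 | h1
  · left; exact key _ h.pz h1
  · right; exact key _ (by rw [map_inv, h.pz, inv_one]) h1

theorem Ex.tw_conj (h : Ex π ζ) {a : A6} (H : ∀ x : P, π x = a → ∃ b, b * x * b⁻¹ = ζ * x) {p : P}
    (hp : ∃ c : A6, c * a * c⁻¹ = π p) : ∃ b, b * p * b⁻¹ = ζ * p := by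
  obtain ⟨c, hc⟩ := hp
  obtain ⟨q, rfl⟩ := h.surj c
  obtain ⟨b, hb⟩ := H (q⁻¹ * p * q) (by rw [map_mul, map_mul, map_inv, ← hc]; group)
  refine ⟨q * b * q⁻¹, ?_⟩
  have h1 : q * b * q⁻¹ * p * (q * b * q⁻¹)⁻¹ = q * (b * (q⁻¹ * p * q) * b⁻¹) * q⁻¹ := by group
  rw [h1, hb, ← mul_assoc, h.cz]
  group

open scoped commutatorElement in
theorem Ex.gen_up (h : Ex π ζ) {S : Set P} (hS : Subgroup.closure (π '' S) = ⊤) : Subgroup.closure S = ⊤ := by
  have h1 : (Subgroup.closure S).map π = ⊤ := by rw [MonoidHom.map_closure, hS]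
  have h2 : ∀ p : P, ∃ q ∈ Subgroup.closure S, ∃ w, π w = 1 ∧ p = q * w := by
    intro p
    have h3 : π p ∈ (Subgroup.closure S).map π := by rw [h1]; trivial
    obtain ⟨q, hq, hqp⟩ := h3
    exact ⟨q, hq, q⁻¹ * p, by rw [map_mul, map_inv, hqp, inv_mul_cancel], by group⟩
  rw [eq_top_iff, ← h.perf, commutator_def, Subgroup.commutator_le]
  intro g _ g' _
  obtain ⟨b, hb, c, hc, rfl⟩ := h2 g
  obtain ⟨b', hb', c', hc', rfl⟩ := h2 g'
  have q1 := h.cen c hc
  have q2 := h.cen c' hc'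
  have h3 : ⁅b * c, b' * c'⁆ = ⁅b, b'⁆ := by
    rw [commutatorElement_def, commutatorElement_def, mul_inv_rev, mul_inv_rev]
    calc b * c * (b' * c') * (c⁻¹ * b⁻¹) * (c'⁻¹ * b'⁻¹)
        = b * (c * (b' * c' * (c⁻¹ * b⁻¹))) * (c'⁻¹ * b'⁻¹) := by group
      _ = b * (b' * c' * (c⁻¹ * b⁻¹) * c) * (c'⁻¹ * b'⁻¹) := by rw [q1]
      _ = b * b' * (c' * (c⁻¹ * b⁻¹ * c * c'⁻¹)) * b'⁻¹ := by group
      _ = b * b' * (c⁻¹ * b⁻¹ * c * c'⁻¹ * c') * b'⁻¹ := by rw [q2]
      _ = b * b' * (c⁻¹ * (b⁻¹ * c)) * b'⁻¹ := by group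
      _ = b * b' * (c⁻¹ * (c * b⁻¹)) * b'⁻¹ := by rw [q1]
      _ = b * b' * b⁻¹ * b'⁻¹ := by group
  rw [h3, commutatorElement_def]
  exact Subgroup.mul_mem _ (Subgroup.mul_mem _ (Subgroup.mul_mem _ hb hb') (Subgroup.inv_mem _ hb)) (Subgroup.inv_mem _ hb')

end ext

/-! ### the monomial action on the six points -/

/-- state: a point and an exponent modulo 3 -/
abbrev Sta := Fin 6 × Fin 3

/-- `0 = z`, `1 = z⁻¹`, `2 = g` -/
def stp : Fin 3 → Sta → Sta
  | 0, (i, k) => ((![1, 2, 3, 4, 0, 5] : Fin 6 → Fin 6) i, k)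
  | 1, (i, k) => ((![4, 0, 1, 2, 3, 5] : Fin 6 → Fin 6) i, k)
  | 2, (i, k) => ((![5, 2, 1, 3, 4, 0] : Fin 6 → Fin 6) i, k + (![0, 1, 2, 0, 0, 0] : Fin 6 → Fin 3) i)

def run (l : List (Fin 3)) (s : Sta) : Sta := l.foldr stp s

section act

variable {P : Type*} [Group P] {Ω : Type*} [MulAction P Ω]

def wd (z g : P) (l : List (Fin 3)) : P := (l.map (fun i => (![z, z⁻¹, g] : Fin 3 → P) i)).prod

/-- the action of words -/
theorem wd_act {z g β : P} (e : Fin 6 → Ω) (hβ : ∀ p : P, p * β = β * p) (hβ3 : β ^ 3 = 1)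
    (hz : ∀ i, z • e i = e ((![1, 2, 3, 4, 0, 5] : Fin 6 → Fin 6) i))
    (hg : ∀ i, g • e i = β ^ (((![0, 1, 2, 0, 0, 0] : Fin 6 → Fin 3) i : Fin 3) : ℕ) • e ((![5, 2, 1, 3, 4, 0] : Fin 6 → Fin 6) i))
    (l : List (Fin 3)) (s : Sta) :
    wd z g l • (β ^ (s.2 : ℕ) • e s.1) = β ^ ((run l s).2 : ℕ) • e (run l s).1 := by
  have hc : ∀ (p : P) (k : ℕ) (x : Ω), p • (β ^ k • x) = β ^ k • (p • x) := by
    intro p k x
    rw [smul_smul, smul_smul]
    congr 1
    exact ((show Commute p β from hβ p).pow_right k).eq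
  have hmod : ∀ k l : Fin 3, β ^ (k : ℕ) * β ^ (l : ℕ) = β ^ ((k + l : Fin 3) : ℕ) := by
    intro k l
    rw [← pow_add, Fin.val_add]
    conv_lhs => rw [← Nat.div_add_mod ((k : ℕ) + l) 3, pow_add, pow_mul, hβ3, one_pow, one_mul]
  have hzi : ∀ i, z⁻¹ • e i = e ((![4, 0, 1, 2, 3, 5] : Fin 6 → Fin 6) i) := by
    intro i
    rw [inv_smul_eq_iff, hz]
    congr 1
    revert i; decide
  induction l with
  | nil =>
    show (1 : P) • _ = _
    rw [one_smul]; rfl
  | cons a l ih =>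
    have h1 : wd z g (a :: l) = (![z, z⁻¹, g] : Fin 3 → P) a * wd z g l := by
      simp [wd]
    rw [h1, mul_smul, ih, hc]
    have h2 : run (a :: l) s = stp a (run l s) := rfl
    rw [h2]
    generalize run l s = r
    rcases r with ⟨i, k⟩
    fin_cases a
    · show β ^ (k : ℕ) • (z • e i) = _
      rw [hz]; rfl
    · show β ^ (k : ℕ) • (z⁻¹ • e i) = _
      rw [hzi]; rfl
    · show β ^ (k : ℕ) • (g • e i) = _
      rw [hg, smul_smul, hmod]; rfl

theorem wd_append (z g : P) (l l' : List (Fin 3)) : wd z g (l ++ l') = wd z g l * wd z g l' := by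
  simp [wd]

end act

/-! ### the theorem -/

section main

variable {P : Type*} [Group P] {π : P →* A6} {ζ : P}

theorem xx_sq {z g : P} (hg : g * g = 1) : xx z g * xx z g = 1 := by
  have h1 : xx z g * xx z g = g * z * z * g * z⁻¹ * z⁻¹ * (g * g) * z * z * g * z⁻¹ * z⁻¹ * g := by
    unfold xx; group
  rw [h1, hg]
  have h2 : g * z * z * g * z⁻¹ * z⁻¹ * 1 * z * z * g * z⁻¹ * z⁻¹ * g = g * z * z * (g * g) * z⁻¹ * z⁻¹ * g := by group
  rw [h2, hg]
  have h3 : g * z * z * 1 * z⁻¹ * z⁻¹ * g = g * g := by group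
  rw [h3, hg]

theorem xx_map (z g : P) : π (xx z g) = xx (π z) (π g) := by
  unfold xx
  simp only [map_mul, map_inv]

theorem conj_sq {b x : P} (hx : x * x = 1) : b * x * b⁻¹ * (b * x * b⁻¹) = 1 := by
  have h1 : b * x * b⁻¹ * (b * x * b⁻¹) = b * (x * x) * b⁻¹ := by group
  rw [h1, hx]; group

theorem inv_eq_self {g : P} (hg : g * g = 1) : g⁻¹ = g := inv_eq_of_mul_eq_one_left hg

theorem mk_half (h : Ex π ζ) {z g β : P} {γ : A6} (hz : π z = z0) (hg : π g = γ) (z5 : z ^ 5 = 1) (gg : g * g = 1)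
    (r2 : g * z⁻¹ * z⁻¹ * g * z * g = z * xx z g * z⁻¹ * xx z g * z⁻¹ * β)
    (f4 : γ * z0 * γ * z0⁻¹ * γ = xx z0 γ * z0 * xx z0 γ * z0⁻¹ * xx z0 γ)
    (fc : (xx z0 γ * z0) ^ 3 = 1) (fi : ∃ c : A6, c * (xx z0 γ * z0) * c⁻¹ = (xx z0 γ * z0)⁻¹)
    (fg : Subgroup.closure {z0, γ} = (⊤ : Subgroup A6))
    (tw : ∃ b, b * (xx z g * z) * b⁻¹ = ζ * (xx z g * z)) : Half ζ z g β where
  z5 := z5
  gg := gg
  r2 := r2
  r4 := by
    have hx := xx_sq (z := z) gg
    have gi := inv_eq_self gg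
    have xi := inv_eq_self hx
    refine h.sq_unique ?_ ?_ ?_
    · simp only [map_mul, map_inv, xx_map, hz, hg]; exact f4
    · have h1 := conj_sq (b := g * z) gg
      have h2 : g * z * g * z⁻¹ * g = g * z * g * (g * z)⁻¹ := by rw [mul_inv_rev, gi]; group
      rw [h2]; exact h1
    · have h1 := conj_sq (b := xx z g * z) hx
      have h2 : xx z g * z * xx z g * z⁻¹ * xx z g = xx z g * z * xx z g * (xx z g * z)⁻¹ := by
        rw [mul_inv_rev, xi]; group
      rw [h2]; exact h1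
  gen := by
    apply h.gen_up
    rw [Set.image_pair, hz, hg]
    exact fg
  c3 := by
    refine h.cube_real ?_ ?_
    · rw [map_mul, xx_map, hz, hg]; exact fc
    · rw [map_mul, xx_map, hz, hg]; exact fi
  t3 := tw

/-- word for `g₂` -/
def lg : List (Fin 3) := [2, 0, 2, 1, 2, 1, 2, 0, 2, 0, 2, 1, 2]
/-- word for `xx z g₂` -/
def lx : List (Fin 3) := lg ++ ([0, 0] ++ (lg ++ ([1, 1] ++ lg)))
/-- left side of `r2` -/
def ll : List (Fin 3) := lg ++ ([1, 1] ++ (lg ++ ([0] ++ lg)))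
/-- right side of `r2` -/
def lr : List (Fin 3) := [0] ++ (lx ++ ([1] ++ (lx ++ [1])))

theorem run_ll : run ll (5, 0) = (2, 1) := by decide +kernel
theorem run_lr : run lr (5, 0) = (2, 2) := by decide +kernel

theorem main (h : Ex π ζ) (κ : ↥(alternatingGroup (Fin 5)) →* P) (hκ : ∀ a, π (κ a) = iota a) :
    ∃ z g₁ g₂ β t a : P, Full ζ z g₁ g₂ β t a ∧ π z = z0 ∧ π g₁ = g10 ∧ π g₂ = g20 := by
  obtain ⟨z, hzd⟩ : ∃ z, z = κ k5 := ⟨_, rfl⟩
  have z5 : z ^ 5 = 1 := by rw [hzd, ← map_pow, f_k5', map_one]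
  have hz : π z = z0 := by rw [hzd, hκ, f_k5]
  obtain ⟨g, hg, gg⟩ := h.exists_sq f_g1
  have gi := inv_eq_self gg
  obtain ⟨t, ht, tt⟩ := h.exists_sq f_t
  have hX : xx z g = κ x5 := by
    refine h.sq_unique ?_ (xx_sq gg) ?_
    · rw [xx_map, hz, hg, hκ, f_x5]
    · rw [← map_mul, f_x5', map_one]
  -- the space of cosets
  let K := κ.range
  let e5 : P ⧸ K := ((1 : P) : P ⧸ K)
  have st : ∀ p : P, p • e5 = e5 ↔ p ∈ K := by
    intro p
    have h1 : p • e5 = ((p * 1 : P) : P ⧸ K) := rfl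
    rw [h1, mul_one]
    constructor
    · intro h2
      have h3 := QuotientGroup.eq.1 h2.symm
      rwa [inv_one, one_mul] at h3
    · intro h2
      exact (QuotientGroup.eq.2 (by rwa [inv_one, one_mul])).symm
  have stz : z • e5 = e5 := (st z).2 ⟨k5, hzd.symm⟩
  have stx : xx z g • e5 = e5 := (st _).2 ⟨x5, hX.symm⟩
  have stzi : z⁻¹ • e5 = e5 := by rw [inv_smul_eq_iff, stz]
  have kpi : ∀ p : P, p • e5 = e5 → (π p : Perm (Fin 6)) 5 = 5 := by
    intro p hp
    obtain ⟨a, rfl⟩ := (st p).1 hp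
    rw [hκ]; exact iota5 a
  have kone : ∀ p : P, p • e5 = e5 → π p = 1 → p = 1 := by
    intro p hp h1
    obtain ⟨a, rfl⟩ := (st p).1 hp
    rw [hκ] at h1
    rw [iota_one h1, map_one]
  clear_value e5
  obtain ⟨β, hβd⟩ : ∃ β, β = (z * xx z g * z⁻¹ * xx z g * z⁻¹)⁻¹ * (g * z⁻¹ * z⁻¹ * g * z * g) := ⟨_, rfl⟩
  have r2 : g * z⁻¹ * z⁻¹ * g * z * g = z * xx z g * z⁻¹ * xx z g * z⁻¹ * β := by
    rw [hβd, mul_inv_cancel_left]
  have hβ1 : π β = 1 := by
    rw [hβd]
    simp only [map_mul, map_inv, xx_map, hz, hg]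
    rw [f_r2, inv_mul_cancel]
  have hβc := h.cen β hβ1
  have hβ3 := h.cube' hβ1
  let e : Fin 6 → P ⧸ K := ![g • e5, (z * g) • e5, (z ^ 2 * g) • e5, (z ^ 3 * g) • e5, (z ^ 4 * g) • e5, e5]
  have ez : ∀ i, z • e i = e ((![1, 2, 3, 4, 0, 5] : Fin 6 → Fin 6) i) := by
    intro i
    fin_cases i
    · show z • (g • e5) = (z * g) • e5
      rw [smul_smul]
    · show z • ((z * g) • e5) = (z ^ 2 * g) • e5
      rw [smul_smul, ← mul_assoc, pow_two]
    · show z • ((z ^ 2 * g) • e5) = (z ^ 3 * g) • e5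
      rw [smul_smul, ← mul_assoc, ← pow_succ']
    · show z • ((z ^ 3 * g) • e5) = (z ^ 4 * g) • e5
      rw [smul_smul, ← mul_assoc, ← pow_succ']
    · show z • ((z ^ 4 * g) • e5) = g • e5
      rw [smul_smul, ← mul_assoc, ← pow_succ', z5, one_mul]
    · exact stz
  have zi4 : z⁻¹ = z ^ 4 := by rw [inv_eq_iff_mul_eq_one, ← pow_succ', z5]
  have zi3 : z⁻¹ * z⁻¹ = z ^ 3 := by
    rw [zi4, ← pow_add]
    have : z ^ (4 + 4) = z ^ 5 * z ^ 3 := by rw [← pow_add]
    rw [this, z5, one_mul]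
  have q1 : g • e 1 = β • e 2 := by
    show g • ((z * g) • e5) = β • ((z ^ 2 * g) • e5)
    have h1 : g * (z * g) = z ^ 2 * g * (g * z⁻¹ * z⁻¹ * g * z * g) := by
      have h2 : z ^ 2 * g * (g * z⁻¹ * z⁻¹ * g * z * g) = z ^ 2 * (g * g) * z⁻¹ * z⁻¹ * g * z * g := by group
      rw [h2, gg]; group
    rw [smul_smul, smul_smul, h1, r2]
    have h3 : z ^ 2 * g * (z * xx z g * z⁻¹ * xx z g * z⁻¹ * β) = β * (z ^ 2 * g) * z * xx z g * z⁻¹ * xx z g * z⁻¹ := by
      rw [← hβc (z ^ 2 * g)]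
      have h4 := hβc (z * xx z g * z⁻¹ * xx z g * z⁻¹)
      rw [h4]; group
    rw [h3]
    simp only [mul_smul, stzi, stx, stz]
  have eg : ∀ i, g • e i = β ^ (((![0, 1, 2, 0, 0, 0] : Fin 6 → Fin 3) i : Fin 3) : ℕ) •
      e ((![5, 2, 1, 3, 4, 0] : Fin 6 → Fin 6) i) := by
    intro i
    fin_cases i
    · show g • (g • e5) = β ^ 0 • e5
      rw [smul_smul, gg, pow_zero]
    · show g • e 1 = β ^ 1 • e 2
      rw [pow_one, q1]
    · show g • e 2 = β ^ 2 • e 1
      have h1 : e 1 = g • (β • e 2) := by rw [← q1, smul_smul, gg, one_smul]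
      rw [h1, smul_smul, smul_smul]
      congr 1
      rw [← ((show Commute g β from hβc g).pow_right 2).eq, mul_assoc, ← pow_succ, hβ3, mul_one]
    · show g • ((z ^ 3 * g) • e5) = β ^ 0 • ((z ^ 3 * g) • e5)
      have h1 : g * (z ^ 3 * g) = z ^ 3 * g * xx z g := by
        have h2 : z ^ 3 * g * xx z g = z ^ 3 * (g * g) * z * z * g * (z⁻¹ * z⁻¹) * g := by unfold xx; group
        rw [h2, gg, zi3]
        have h3 : z ^ 3 * 1 * z * z * g * z ^ 3 * g = z ^ 5 * g * z ^ 3 * g := by group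
        rw [h3, z5]; group
      rw [smul_smul, h1, mul_smul, stx, pow_zero, one_smul]
    · show g • ((z ^ 4 * g) • e5) = β ^ 0 • ((z ^ 4 * g) • e5)
      have hr4 : g * z * g * z⁻¹ * g = xx z g * z * xx z g * z⁻¹ * xx z g :=
        (mk_half h hz hg z5 gg r2 f_r4 f_c f_i1 gen1 (h.tw_conj (fun x hx => h.tw_a hx) (by
          obtain ⟨c, hc⟩ := f_j1
          exact ⟨c, by rw [map_mul, xx_map, hz, hg]; exact hc⟩))).r4
      have h1 : g * (z ^ 4 * g) = z ^ 4 * g * (g * z * g * z⁻¹ * g) := by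
        have h2 : z ^ 4 * g * (g * z * g * z⁻¹ * g) = z ^ 4 * (g * g) * z * g * z⁻¹ * g := by group
        rw [h2, gg]
        have h3 : z ^ 4 * 1 * z * g * z⁻¹ * g = z ^ 5 * g * z⁻¹ * g := by group
        rw [h3, z5, zi4]; group
      rw [smul_smul, h1, hr4]
      have h5 : z ^ 4 * g * (xx z g * z * xx z g * z⁻¹ * xx z g) = z ^ 4 * g * xx z g * z * xx z g * z⁻¹ * xx z g := by
        group
      rw [h5]
      simp only [mul_smul, stx, stz, stzi, pow_zero, one_smul]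
    · show g • e5 = β ^ 0 • (g • e5)
      rw [pow_zero, one_smul]
  have hH1 : Half ζ z g β := mk_half h hz hg z5 gg r2 f_r4 f_c f_i1 gen1 (h.tw_conj (fun x hx => h.tw_a hx) (by
    obtain ⟨c, hc⟩ := f_j1
    exact ⟨c, by rw [map_mul, xx_map, hz, hg]; exact hc⟩))
  -- `β ≠ 1`
  have hβne : β ≠ 1 := by
    intro hb
    have key : ∀ p : P, (∀ i, ∃ j, p • e i = e j) ∧ (∀ i, ∃ j, p⁻¹ • e i = e j) := by
      intro p
      have hp : p ∈ Subgroup.closure {z, g} := by rw [hH1.gen]; trivial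
      induction hp using Subgroup.closure_induction with
      | mem x hx =>
        rcases hx with hx | hx
        · rw [show x = z from hx]
          refine ⟨fun i => ⟨_, ez i⟩, fun i => ⟨(![4, 0, 1, 2, 3, 5] : Fin 6 → Fin 6) i, ?_⟩⟩
          rw [inv_smul_eq_iff, ez]
          congr 1
          revert i; decide
        · rw [show x = g from hx]
          have h1 : ∀ i, ∃ j, g • e i = e j := fun i => ⟨_, by rw [eg, hb, one_pow, one_smul]⟩
          refine ⟨h1, ?_⟩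
          rw [gi]; exact h1
      | one => exact ⟨fun i => ⟨i, one_smul _ _⟩, fun i => ⟨i, by rw [inv_one, one_smul]⟩⟩
      | mul x y _ _ hx hy =>
        refine ⟨fun i => ?_, fun i => ?_⟩
        · obtain ⟨j, hj⟩ := hy.1 i
          obtain ⟨k, hk⟩ := hx.1 j
          exact ⟨k, by rw [mul_smul, hj, hk]⟩
        · obtain ⟨j, hj⟩ := hx.2 i
          obtain ⟨k, hk⟩ := hy.2 j
          exact ⟨k, by rw [mul_inv_rev, mul_smul, hj, hk]⟩
      | inv x _ hx => exact ⟨hx.2, by rw [inv_inv]; exact hx.1⟩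
    obtain ⟨j, hj⟩ := (key ζ).1 5
    have hj' : ζ • e5 = e j := hj
    have bad : ∀ i : Fin 5, ζ • e5 ≠ (z ^ (i : ℕ) * g) • e5 := by
      intro i hi
      have h1 : ((z ^ (i : ℕ) * g)⁻¹ * ζ) • e5 = e5 := by rw [mul_smul, hi, inv_smul_smul]
      have h2 := kpi _ h1
      rw [map_mul, h.pz, mul_one, map_inv, map_mul, map_pow, hz, hg] at h2
      exact f_k i h2
    fin_cases j
    · exact bad 0 (by rw [hj']; show g • e5 = _; rw [Fin.val_zero, pow_zero, one_mul])
    · exact bad 1 (by rw [hj']; show (z * g) • e5 = (z ^ 1 * g) • e5; rw [pow_one])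
    · exact bad 2 (by rw [hj']; rfl)
    · exact bad 3 (by rw [hj']; rfl)
    · exact bad 4 (by rw [hj']; rfl)
    · exact h.ne (kone ζ hj' h.pz)
  have hβ : β = ζ ∨ β = ζ⁻¹ := (h.ker β hβ1).resolve_left hβne
  -- the second class
  obtain ⟨v, hvd⟩ : ∃ v, v = g * z * g * z⁻¹ * g * z⁻¹ := ⟨_, rfl⟩
  obtain ⟨g₂, hg2d⟩ : ∃ g₂, g₂ = v * g * v⁻¹ := ⟨_, rfl⟩
  have hv : π v = v0 := by
    rw [hvd]
    simp only [map_mul, map_inv, hz, hg]
    rfl
  have hg2 : π g₂ = g20 := by rw [hg2d, map_mul, map_mul, map_inv, hv, hg, f_v]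
  have gg2 : g₂ * g₂ = 1 := by rw [hg2d]; exact conj_sq gg
  have w1 : g₂ = wd z g lg := by
    rw [hg2d, hvd]
    simp only [mul_inv_rev, inv_inv, gi]
    simp only [wd, lg, mul_assoc, _root_.Nat.succ_eq_add_one, _root_.Nat.reduceAdd, _root_.Fin.isValue, _root_.List.map_cons, _root_.Matrix.cons_val, _root_.Matrix.cons_val_zero, _root_.Matrix.cons_val_one, _root_.List.map_nil, _root_.List.prod_cons, _root_.List.prod_nil, _root_.mul_one]
  have w2 : g₂ * z⁻¹ * z⁻¹ * g₂ * z * g₂ = wd z g ll := by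
    rw [ll, wd_append, wd_append, wd_append, wd_append, ← w1]
    simp only [wd, mul_assoc, _root_.Nat.succ_eq_add_one, _root_.Nat.reduceAdd, _root_.Fin.isValue, _root_.List.map_cons, _root_.Matrix.cons_val_one, _root_.Matrix.cons_val_zero, _root_.List.map_nil, _root_.List.prod_cons, _root_.List.prod_nil, _root_.mul_one]
  have w3 : xx z g₂ = wd z g lx := by
    rw [lx, wd_append, wd_append, wd_append, wd_append, ← w1]
    simp only [wd, xx, mul_assoc, _root_.Nat.succ_eq_add_one, _root_.Nat.reduceAdd, _root_.Fin.isValue, _root_.List.map_cons, _root_.Matrix.cons_val_zero, _root_.List.map_nil, _root_.List.prod_cons, _root_.List.prod_nil, _root_.mul_one, _root_.Matrix.cons_val_one]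
  have w4 : z * xx z g₂ * z⁻¹ * xx z g₂ * z⁻¹ = wd z g lr := by
    rw [lr, wd_append, wd_append, wd_append, wd_append, ← w3]
    simp only [wd, mul_assoc, _root_.Nat.succ_eq_add_one, _root_.Nat.reduceAdd, _root_.Fin.isValue, _root_.List.map_cons, _root_.Matrix.cons_val_zero, _root_.List.map_nil, _root_.List.prod_cons, _root_.List.prod_nil, _root_.mul_one, _root_.Matrix.cons_val_one]
  obtain ⟨γ, hγd⟩ : ∃ γ, γ = (z * xx z g₂ * z⁻¹ * xx z g₂ * z⁻¹)⁻¹ * (g₂ * z⁻¹ * z⁻¹ * g₂ * z * g₂) := ⟨_, rfl⟩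
  have r2' : g₂ * z⁻¹ * z⁻¹ * g₂ * z * g₂ = z * xx z g₂ * z⁻¹ * xx z g₂ * z⁻¹ * γ := by
    rw [hγd, mul_inv_cancel_left]
  have hγ1 : π γ = 1 := by
    rw [hγd]
    simp only [map_mul, map_inv, xx_map, hz, hg2]
    rw [f_r2', inv_mul_cancel]
  have a1 := wd_act (Ω := P ⧸ K) e hβc hβ3 ez eg ll (5, 0)
  have a2 := wd_act (Ω := P ⧸ K) e hβc hβ3 ez eg lr (5, 0)
  rw [run_ll] at a1
  rw [run_lr] at a2
  rw [← w2, r2', h.cen γ hγ1, mul_smul, w4, a2] at a1
  have a3 : γ • (β ^ 2 • e 2) = β ^ 1 • e 2 := a1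
  have a4 : (γ * β) • e5 = e5 := by
    have h1 : (γ * β) • e 2 = e 2 := by
      have h2 : (β ^ 2) • (γ • (β ^ 2 • e 2)) = (β ^ 2) • (β ^ 1 • e 2) := by rw [a3]
      rw [smul_smul, smul_smul, smul_smul, ← pow_add, hβ3, one_smul] at h2
      have h3 : β ^ 2 * γ * β ^ 2 = γ * β := by
        rw [← ((show Commute γ β from hβc γ).pow_right 2).eq, mul_assoc, ← pow_add]
        have h4 : β ^ (2 + 2) = β ^ 3 * β := by rw [← pow_succ]
        rw [h4, hβ3, one_mul]
      rw [h3] at h2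
      exact h2
    have h2 : e 2 = (z ^ 2 * g) • e5 := rfl
    rw [h2, smul_smul] at h1
    have h3 : γ * β * (z ^ 2 * g) = z ^ 2 * g * (γ * β) := by
      rw [h.cen (γ * β) (by rw [map_mul, hγ1, hβ1, one_mul])]
    rw [h3, mul_smul] at h1
    exact smul_left_cancel _ h1
  have a5 : γ = β⁻¹ := by
    have h1 := kone _ a4 (by rw [map_mul, hγ1, hβ1, one_mul])
    exact eq_inv_of_mul_eq_one_left h1
  rw [a5] at r2'
  have hH2 : Half ζ z g₂ β⁻¹ := mk_half h hz hg2 z5 gg2 r2' f_r4' f_c' f_i2 gen2 (h.tw_conj (fun x hx => h.tw_ab hx) (by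
    obtain ⟨c, hc⟩ := f_j2
    exact ⟨c, by rw [map_mul, xx_map, hz, hg2]; exact hc⟩))
  obtain ⟨a, ha⟩ := h.surj e0
  have haz : π (a⁻¹ * z) = e0⁻¹ * z0 := by rw [map_mul, map_inv, ha, hz]
  refine ⟨z, g, g₂, β, t, a, ?_, hz, hg, hg2⟩
  exact
    { cen := h.cz
      cube := h.cube
      beta := hβ
      h1 := hH1
      h2 := hH2
      tt := tt
      tz := by
        refine h.five_unique ?_ ?_ ?_
        · rw [map_mul, map_mul, map_inv, map_inv, ht, hz, f_tz]
        · rw [conj_pow, z5]; group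
        · rw [inv_pow, z5, inv_one]
      gen12 := by
        apply h.gen_up
        rw [Set.image_insert_eq, Set.image_pair, xx_map, xx_map, hz, hg, hg2]
        exact gen5
      a3 := h.cube_real (by rw [ha, f_e]) (by rw [ha]; exact f_i3)
      a3' := h.cube_real (by rw [haz, f_e']) (by rw [haz]; exact f_i4)
      ta := h.tw_conj (fun x hx => h.tw_a hx) (by rw [ha]; exact f_j3)
      ta' := h.tw_conj (fun x hx => h.tw_ab hx) (by rw [haz]; exact f_j4)
      gena := by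
        apply h.gen_up
        rw [Set.image_pair, haz, ha]
        exact gen3 }

end main

end Cfsg.Agent.H288.E6.C6G
end

-- part: H288/E6/C6Full
section
/-!
# S5927, S5928: `sixc_two`, BOX G, concrete form `exists_full` (helper288)
-/

set_option autoImplicit false
set_option linter.unusedSectionVars false
set_option linter.unusedVariables false

namespace Cfsg.Agent.H288.E6.C6Full

open Cfsg Cfsg.Lie Module Equiv Equiv.Perm
open Cfsg.Agent.ChevalleyStructure.E6Min.Tables Cfsg.Agent.ChevalleyStructure.E6Min.Basic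
  Cfsg.Agent.ChevalleyStructure.E6Min.Adjoint
open Cfsg.Agent.H958.SixC
open Cfsg.Agent.H163.E6 Cfsg.Agent.H163.E6.SixC
open Cfsg.Agent.H401.E6Three (iota)

universe u

variable {F : Type u} [Field F] [Finite F] {φ : ↥(alternatingGroup (Fin 6)) →* ↥(chevE6.group F)}

theorem a0_type : (a0 : Perm (Fin 6)).cycleType = {3} := by
  have h1 : Perm.IsThreeCycle (swap (1 : Fin 6) 0 * swap (1 : Fin 6) 2) :=
    Perm.isThreeCycle_swap_mul_swap_same (by decide) (by decide) (by decide)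
  have h2 : (a0 : Perm (Fin 6)) = swap (1 : Fin 6) 0 * swap (1 : Fin 6) 2 ∨ (a0 : Perm (Fin 6)) = (swap (1 : Fin 6) 0 * swap (1 : Fin 6) 2)⁻¹ := by
    decide +kernel
  rcases h2 with h2 | h2
  · rw [h2]; exact h1
  · rw [h2, Perm.cycleType_inv]; exact h1

theorem b0_type : (b0 : Perm (Fin 6)).cycleType = {3} := by
  have h1 : Perm.IsThreeCycle (swap (4 : Fin 6) 3 * swap (4 : Fin 6) 5) :=
    Perm.isThreeCycle_swap_mul_swap_same (by decide) (by decide) (by decide)
  have h2 : (b0 : Perm (Fin 6)) = swap (4 : Fin 6) 3 * swap (4 : Fin 6) 5 ∨ (b0 : Perm (Fin 6)) = (swap (4 : Fin 6) 3 * swap (4 : Fin 6) 5)⁻¹ := by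
    decide +kernel
  rcases h2 with h2 | h2
  · rw [h2]; exact h1
  · rw [h2, Perm.cycleType_inv]; exact h1

theorem ab_disjoint : (a0 : Perm (Fin 6)).Disjoint b0 := by
  intro i
  revert i
  decide +kernel

theorem iota_injective : Function.Injective iota := by
  rw [injective_iff_map_eq_one]
  intro a ha
  exact Cfsg.Agent.H288.E6.C6G.iota_one ha

/-- the preimage is a three-fold cover -/
theorem ex_of_cover (hφ : Function.Injective φ) {ω : Fˣ} (hω : Cover φ ω) :
    ∃ ζ : ↥(φ.range.comap (ad F)), ((ζ : ↥(Zgrp F)) : GL I27 F) = scal ω ∧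
      Cfsg.Agent.H288.E6.C6G.Ex (Cov.pr hφ) ζ := by
  have hob_ := id hω
  obtain ⟨h1, h3, z, hz, hzm⟩ := hob_
  have hz1 : ad F z = 1 := Cov.ad_scal h3 hz
  have hzP : z ∈ φ.range.comap (ad F) := by
    rw [Subgroup.mem_comap, hz1]; exact one_mem _
  refine ⟨⟨z, hzP⟩, hz, ?_⟩
  exact
    { surj := Cov.pr_surjective hφ
      cen := fun w hw b => Subtype.ext (Cov.ker_comm ((Cov.pr_eq_one hφ w).mp hw) b)
      ker := by
        intro w hw
        have hob_ := Cov.ker_cases h1 h3 hz ((Cov.pr_eq_one hφ w).mp hw)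
        rcases hob_ with h | h | h
        · exact Or.inl (Subtype.ext h)
        · exact Or.inr (Or.inl (Subtype.ext h))
        · exact Or.inr (Or.inr (Subtype.ext h))
      pz := (Cov.pr_eq_one hφ _).mpr hz1
      ne := by
        intro h
        have h4 : z = 1 := congrArg Subtype.val h
        rw [h4] at hz
        exact h1 (Cov.scal_injective (F := F) (by rw [Cov.scal_one, ← hz]; rfl))
      cube := Subtype.ext (Cov.ker_pow hz1)
      perf := by
        have h4 := Cov.perfect (F := F) (n := 6) (by norm_num) hφ hω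
        have h5 : (commutator ↥(φ.range.comap (ad F))).map (φ.range.comap (ad F)).subtype =
            (⊤ : Subgroup ↥(φ.range.comap (ad F))).map (φ.range.comap (ad F)).subtype := by
          rw [commutator_def, Subgroup.map_commutator, ← MonoidHom.range_eq_map, Subgroup.range_subtype, h4]
        exact Subgroup.map_injective (Subgroup.subtype_injective _) h5
      nc := by
        intro x y hx hy
        have hx' : ad F (x : ↥(Zgrp F)) = φ a0 := by rw [← Cov.phi_pr hφ, hx]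
        have hy' : ad F (y : ↥(Zgrp F)) = φ b0 := by rw [← Cov.phi_pr hφ, hy]
        have hob_ := Cov.not_comm (Or.inl rfl) hφ hω a0_type b0_type ab_disjoint hx' hy'
        rcases hob_ with h | h
        · left
          apply Subtype.ext
          apply Subtype.ext
          exact h.2.trans hz.symm
        · right
          apply Subtype.ext
          apply Subtype.ext
          refine h.2.trans ?_
          rw [Cov.scal_inv, ← hz]; rfl }

theorem _root_.Cfsg.Agent.H163.E6.SixC.exists_full [CharP F 2] (hφ : Function.Injective φ) {ω : Fˣ} (hω : Cover φ ω) :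
    ∃ ζ z g₁ g₂ β t a : ↥(φ.range.comap (ad F)), Full ζ z g₁ g₂ β t a ∧ ((ζ : ↥(Zgrp F)) : GL I27 F) = scal ω ∧
      ad F z = φ z0 ∧ ad F g₁ = φ g10 ∧ ad F g₂ = φ g20 := by
  have hob_ := ex_of_cover hφ hω
  obtain ⟨ζ, hζ, hE⟩ := hob_
  -- the point stabilizer
  have hφ5 : Function.Injective (φ.comp iota) := hφ.comp iota_injective
  have hob_ : ∃ ψ : ↥(alternatingGroup (Fin 5)) →* ↥(Zgrp F), Lift (φ.comp iota) ψ := by
    rcases Cov.exists_lift (n := 5) (by norm_num) hφ5 with h | h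
    · exact h
    · rcases h.1 with h | h <;> norm_num at h
  obtain ⟨ψ, hψ⟩ := hob_
  let κ : ↥(alternatingGroup (Fin 5)) →* ↥(φ.range.comap (ad F)) := ψ.codRestrict _ (fun a => by
    rw [Subgroup.mem_comap, hψ a]
    exact ⟨iota a, rfl⟩)
  have hκ : ∀ a, Cov.pr hφ (κ a) = iota a := by
    intro a
    apply hφ
    rw [Cov.phi_pr hφ]
    exact hψ a
  have hob_ := Cfsg.Agent.H288.E6.C6G.main hE κ hκ
  obtain ⟨z, g₁, g₂, β, t, a, hF, hz, hg1, hg2⟩ := hob_
  refine ⟨ζ, z, g₁, g₂, β, t, a, hF, hζ, ?_, ?_, ?_⟩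
  · rw [← Cov.phi_pr hφ, hz]
  · rw [← Cov.phi_pr hφ, hg1]
  · rw [← Cov.phi_pr hφ, hg2]

end Cfsg.Agent.H288.E6.C6Full
end

-- part: H906/E6/SixR
section
/-!
# S5927, S5928: `sixc_two`, BOX R (helper906)

The three-dimensional modules of `3·A₆` in characteristic 2 (`irr_three`, `hex3`, `exists_kf`), and the irreducibility of the
tensor product of two of them of different types: `H958.SixC.boxR`.
-/

set_option autoImplicit false
set_option linter.unusedSectionVars false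

namespace Cfsg.Agent.H906.E6.SixR

open Module
open scoped TensorProduct
open Cfsg.Agent.H952.F4 (ev)
open Cfsg.Agent.H958.SixC (xx Half Full St KF Ch)

/-! ### generalities -/

section
variable {F : Type*} [Field F] {P : Type*} [Group P] {X : Type*} [AddCommGroup X] [Module F X] {ρ : Representation F P X}

theorem rmul (a b : P) (v : X) : ρ (a * b) v = ρ a (ρ b v) := by rw [map_mul]; rfl

theorem rone (v : X) : ρ 1 v = v := by rw [map_one]; rfl

theorem rinv (a : P) (v : X) : ρ a⁻¹ (ρ a v) = v := by rw [← rmul, inv_mul_cancel, rone]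

theorem rinv' (a : P) (v : X) : ρ a (ρ a⁻¹ v) = v := by rw [← rmul, mul_inv_cancel, rone]

theorem rinj (a : P) {v w : X} (h : ρ a v = ρ a w) : v = w := by rw [← rinv (ρ := ρ) a v, h, rinv]

theorem rinv_eq (a : P) {v w : X} (h : ρ a v = w) : ρ a⁻¹ w = v := by rw [← h, rinv]

/-- stability under generators -/
theorem st_of_gen [FiniteDimensional F X] {s : Set P} (hs : Subgroup.closure s = ⊤) {W : Submodule F X}
    (h : ∀ g ∈ s, ∀ w ∈ W, ρ g w ∈ W) : St ρ W := by
  intro g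
  have hg : g ∈ Subgroup.closure s := by rw [hs]; trivial
  induction hg using Subgroup.closure_induction with
  | mem x hx => exact h x hx
  | one => intro w hw; rw [rone]; exact hw
  | mul x y _ _ hx hy => intro w hw; rw [rmul]; exact hx _ (hy _ hw)
  | inv x _ hx =>
    intro w hw
    have h1 : W.map (ρ x) = W := by
      refine Submodule.eq_of_le_of_finrank_eq ?_ ?_
      · rintro _ ⟨v, hv, rfl⟩
        exact hx v hv
      · exact (Submodule.equivMapOfInjective (ρ x) (fun v w h => rinj x h) W).finrank_eq.symm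
    have h2 : w ∈ W.map (ρ x) := by rw [h1]; exact hw
    obtain ⟨v, hv, rfl⟩ := h2
    rw [rinv]
    exact hv

theorem fix_of_gen {s : Set P} (hs : Subgroup.closure s = ⊤) {w : X} (h : ∀ g ∈ s, ρ g w = w) (g : P) : ρ g w = w := by
  have hg : g ∈ Subgroup.closure s := by rw [hs]; trivial
  induction hg using Subgroup.closure_induction with
  | mem x hx => exact h x hx
  | one => exact rone w
  | mul x y _ _ hx hy => rw [rmul, hy, hx]
  | inv x _ hx => exact rinv_eq x hx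

end

variable {F : Type*} [Field F] [CharP F 2] {P : Type*} [Group P]

theorem smul_of_ker_le {X : Type*} [AddCommGroup X] [Module F X] {l m : X →ₗ[F] F} (hl : l ≠ 0)
    (h : ∀ x, l x = 0 → m x = 0) : ∃ c : F, ∀ x, m x = c * l x := by
  obtain ⟨x0, hx0⟩ : ∃ x, l x ≠ 0 := by
    by_contra hcon
    push Not at hcon
    exact hl (LinearMap.ext hcon)
  refine ⟨m x0 / l x0, fun x => ?_⟩
  have h1 := h (x - (l x / l x0) • x0) (by rw [map_sub, map_smul, smul_eq_mul, div_mul_cancel₀ _ hx0, sub_self])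
  rw [map_sub, map_smul, smul_eq_mul, sub_eq_zero] at h1
  rw [h1]
  field_simp

theorem sq_one {m : F} (h : m * m = 1) : m = 1 := by
  have h1 : (m - 1) * (m - 1) = 0 := by
    have h2 : (2 : F) = 0 := CharTwo.two_eq_zero
    linear_combination h + (1 - m) * h2
  exact sub_eq_zero.1 (mul_self_eq_zero.1 h1)

section
variable {X : Type*} [AddCommGroup X] [Module F X] {ρ : Representation F P X}

theorem add_self (F : Type*) [Field F] [CharP F 2] {X : Type*} [AddCommGroup X] [Module F X] (v : X) : v + v = 0 := by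
  rw [← two_smul F v, CharTwo.two_eq_zero, zero_smul]

theorem quad {ζ : P} {c : F} (hc : Ch ρ ζ c) : c ^ 2 + c + 1 = 0 := by
  have h : (c - 1) * (c ^ 2 + c + 1) = 0 := by linear_combination hc.cube
  rcases mul_eq_zero.1 h with h | h
  · exact absurd (sub_eq_zero.1 h) hc.ne
  · exact h

/-- eigenvectors of an element `y` of order three conjugate to `ζ y` -/
theorem exists_eig {ζ y : P} {c : F} (hc : Ch ρ ζ c) (hy : y ^ 3 = 1) {W : Submodule F X} (hW : ∀ w ∈ W, ρ y w ∈ W)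
    (hW0 : W ≠ ⊥) : ∃ w ∈ W, w ≠ 0 ∧ ∃ i : ℕ, ρ y w = c ^ i • w := by
  obtain ⟨w, hw, hw0⟩ := Submodule.exists_mem_ne_zero_of_ne_bot hW0
  have hq := quad hc
  have h3 : ρ y (ρ y (ρ y w)) = w := by
    rw [← rmul, ← rmul, ← pow_three', hy, rone]
  have hc3 := hc.cube
  by_contra hcon
  push Not at hcon
  have key : ∀ i : ℕ, w + c ^ (2 * i) • ρ y w + c ^ i • ρ y (ρ y w) = 0 := by
    intro i
    by_contra h0
    refine hcon _ (W.add_mem (W.add_mem hw (W.smul_mem _ (hW _ hw))) (W.smul_mem _ (hW _ (hW _ hw)))) h0 i ?_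
    have e3 : c ^ (3 * i) = 1 := by rw [pow_mul, hc3, one_pow]
    rw [map_add, map_add, map_smul, map_smul, h3, smul_add, smul_add, smul_smul, smul_smul, ← pow_add, ← pow_add,
      show i + 2 * i = 3 * i by ring, e3, one_smul, show i + i = 2 * i by ring]
    abel
  have k0 := key 0
  have k1 := key 1
  have k2 := key 2
  rw [mul_zero, pow_zero, one_smul, one_smul] at k0
  have c4 : c ^ (2 * 2) = c := by linear_combination c * hc3
  rw [c4] at k2
  rw [mul_one, pow_one] at k1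
  apply hw0
  have hs : (1 + c ^ 2 + c) • ρ y w = 0 := by rw [show 1 + c ^ 2 + c = 0 by linear_combination hq, zero_smul]
  have hs' : (1 + c ^ 2 + c) • ρ y (ρ y w) = 0 := by rw [show 1 + c ^ 2 + c = 0 by linear_combination hq, zero_smul]
  have e : (w + ρ y w + ρ y (ρ y w)) + (w + c ^ 2 • ρ y w + c • ρ y (ρ y w)) + (w + c • ρ y w + c ^ 2 • ρ y (ρ y w))
      = (w + w) + w + (1 + c ^ 2 + c) • ρ y w + (1 + c ^ 2 + c) • ρ y (ρ y w) := by
    simp only [add_smul, one_smul]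
    abel
  rw [k0, k1, k2, hs, hs', add_self F w] at e
  simpa using e.symm

theorem eig_shift {ζ y b : P} {c : F} (hc : Ch ρ ζ c) (hb : b * y * b⁻¹ = ζ * y) {w : X} {m : F} (hw : ρ y w = m • w) :
    ρ y (ρ b w) = (c ^ 2 * m) • ρ b w := by
  have h1 : b * y = ζ * y * b := by rw [← hb]; group
  have h2 : ρ b (ρ y w) = c • ρ y (ρ b w) := by rw [← rmul, h1, rmul, rmul, hc.act]
  rw [hw, map_smul] at h2
  rw [mul_smul, h2, smul_smul, ← pow_succ, hc.cube, one_smul]

/-- fixed vectors of an element `y` of order three conjugate to `ζ y` -/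
theorem exists_fix {ζ y : P} {c : F} (hc : Ch ρ ζ c) (hy : y ^ 3 = 1) (ht : ∃ b, b * y * b⁻¹ = ζ * y) [Nontrivial X] :
    ∃ w : X, w ≠ 0 ∧ ρ y w = w := by
  obtain ⟨b, hb⟩ := ht
  obtain ⟨w, -, hw0, i, hi⟩ := exists_eig (ρ := ρ) hc hy (W := ⊤) (fun _ _ => trivial) top_ne_bot
  have h0 : ∀ {v : X}, v ≠ 0 → ρ b v ≠ 0 := fun hv h => hv (rinj b (h.trans (map_zero _).symm))
  have h1 := eig_shift hc hb hi
  have h2 := eig_shift hc hb h1
  have hc3 := hc.cube
  have hr : i % 3 = 0 ∨ i % 3 = 1 ∨ i % 3 = 2 := by omega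
  have hi3 : c ^ i = c ^ (i % 3) := by
    conv_lhs => rw [← Nat.div_add_mod i 3]
    rw [pow_add, pow_mul, hc3, one_pow, one_mul]
  rcases hr with h | h | h
  · refine ⟨w, hw0, ?_⟩
    rw [hi, hi3, h, pow_zero, one_smul]
  · refine ⟨ρ b w, h0 hw0, ?_⟩
    rw [h1, hi3, h, pow_one, ← pow_succ, hc3, one_smul]
  · refine ⟨ρ b (ρ b w), h0 (h0 hw0), ?_⟩
    rw [h2, hi3, h, show c ^ 2 * (c ^ 2 * c ^ 2) = (c ^ 3) ^ 2 by ring, hc3, one_pow, one_smul]

/-- the 3-dimensional modules are irreducible -/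
theorem irr_three [FiniteDimensional F X] {ζ y : P} {c : F} (hc : Ch ρ ζ c) (hy : y ^ 3 = 1)
    (ht : ∃ b, b * y * b⁻¹ = ζ * y) (d : finrank F X = 3) {W : Submodule F X} (hW : St ρ W) : W = ⊥ ∨ W = ⊤ := by
  by_cases hW0 : W = ⊥
  · exact Or.inl hW0
  right
  obtain ⟨b, hb⟩ := ht
  obtain ⟨w, hw, hw0, i, hi⟩ := exists_eig hc hy (W := W) (fun w hw => hW y w hw) hW0
  have h0 : ∀ {v : X}, v ≠ 0 → ρ b v ≠ 0 := fun hv h => hv (rinj b (h.trans (map_zero _).symm))
  have h1 := eig_shift hc hb hi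
  have h2 := eig_shift hc hb h1
  have hc3 := hc.cube
  have hq := quad hc
  have hc0 : c ≠ 0 := by
    rintro rfl
    norm_num at hc3
  have hm : c ^ i ≠ 0 := pow_ne_zero _ hc0
  have hc2 : c ^ 2 ≠ 1 := by
    intro h
    exact hc.ne (sq_one (by rw [← pow_two, h]))
  have hc4 : c ^ 2 * c ^ 2 ≠ 1 := by
    intro h
    exact hc.ne (by linear_combination h - c * hc3)
  have hli := Module.End.eigenvectors_linearIndependent' (ρ y) ![c ^ i, c ^ 2 * c ^ i, c ^ 2 * (c ^ 2 * c ^ i)]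
    (by
      intro p q hpq
      have e1 : c ^ 2 * c ^ i ≠ c ^ i := fun h => hc2 (mul_right_cancel₀ hm (h.trans (one_mul _).symm))
      have e2 : c ^ 2 * (c ^ 2 * c ^ i) ≠ c ^ i := fun h => hc4 (mul_right_cancel₀ hm
        ((mul_assoc _ _ _).trans (h.trans (one_mul _).symm)))
      have e3 : c ^ 2 * (c ^ 2 * c ^ i) ≠ c ^ 2 * c ^ i := fun h => e1 (mul_left_cancel₀ (pow_ne_zero 2 hc0) h)
      fin_cases p <;> fin_cases q <;> simp only [_root_.Nat.succ_eq_add_one, _root_.Nat.reduceAdd, _root_.Fin.zero_eta, _root_.Fin.isValue, _root_.Matrix.cons_val_zero, _root_.Fin.mk_one, _root_.Matrix.cons_val_one, _root_.zero_ne_one, _root_.Fin.reduceFinMk, _root_.Matrix.cons_val, _root_.Fin.reduceEq, _root_.one_ne_zero, _root_.mul_eq_mul_left_iff, _root_.ne_eq, _root_.OfNat.ofNat_ne_zero, _root_.not_false_eq_true, _root_.pow_eq_zero_iff] at hpq ⊢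
      · exact e1 hpq.symm
      · exact e2 hpq.symm
      · exact e1 hpq
      · exact hpq.elim (fun h => e1 h.symm) hc0
      · exact e2 hpq
      · exact hpq.elim (fun h => e1 h) hc0)
    ![w, ρ b w, ρ b (ρ b w)]
    (by
      intro p
      fin_cases p
      · exact ⟨Module.End.mem_eigenspace_iff.2 hi, hw0⟩
      · exact ⟨Module.End.mem_eigenspace_iff.2 h1, h0 hw0⟩
      · exact ⟨Module.End.mem_eigenspace_iff.2 h2, h0 (h0 hw0)⟩)
  have hfr := finrank_span_eq_card hli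
  rw [Fintype.card_fin] at hfr
  have hle : Submodule.span F (Set.range ![w, ρ b w, ρ b (ρ b w)]) ≤ W := by
    rw [Submodule.span_le]
    rintro _ ⟨p, rfl⟩
    fin_cases p
    · exact hw
    · exact hW b _ hw
    · exact hW b _ (hW b _ hw)
  have h3 := Submodule.finrank_mono hle
  rw [hfr] at h3
  refine Submodule.eq_top_of_finrank_eq ?_
  have h4 := Submodule.finrank_le W
  rw [d] at h4 ⊢
  omega

end

section
variable {X : Type*} [AddCommGroup X] [Module F X] {ρ : Representation F P X}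

/-- coordinates -/
theorem coord [FiniteDimensional F X] (d : finrank F X = 3) {w0 w1 w2 : X}
    (li : ∀ α β γ : F, α • w0 + β • w1 + γ • w2 = 0 → α = 0 ∧ β = 0 ∧ γ = 0) (v : X) :
    ∃ α β γ : F, v = α • w0 + β • w1 + γ • w2 := by
  have hli : LinearIndependent F ![w0, w1, w2] := by
    rw [Fintype.linearIndependent_iff]
    intro g hg
    rw [Fin.sum_univ_three] at hg
    obtain ⟨h0, h1, h2⟩ := li _ _ _ hg
    intro i
    fin_cases i
    · exact h0
    · exact h1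
    · exact h2
  have hsp := hli.span_eq_top_of_card_eq_finrank' (by rw [Fintype.card_fin, d])
  have hv : v ∈ Submodule.span F (Set.range ![w0, w1, w2]) := by rw [hsp]; trivial
  obtain ⟨g, hg⟩ := (Submodule.mem_span_range_iff_exists_fun F).1 hv
  rw [Fin.sum_univ_three] at hg
  exact ⟨g 0, g 1, g 2, hg.symm⟩

theorem finrank_span_pair_le (v w : X) : finrank F ↥(Submodule.span F {v, w}) ≤ 2 := by
  classical
  have h := finrank_span_finset_le_card (R := F) ({v, w} : Finset X)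
  rw [Finset.coe_insert, Finset.coe_singleton] at h
  exact h.trans Finset.card_le_two

/-- the 3-dimensional module with a fixed vector of `⟨z, xx z g⟩` -/
theorem hex3 [FiniteDimensional F X] {ζ z g β : P} {b : F} (hh : Half ζ z g β) (hb : ∀ v, ρ β v = b • v)
    (hb2 : b ^ 2 + b + 1 = 0) (d : finrank F X = 3) (irr : ∀ W : Submodule F X, St ρ W → W = ⊥ ∨ W = ⊤)
    {u : X} (k : KF ρ z g u) (n : u ≠ 0) :
    (∀ v, ρ z (ρ z (ρ z v)) = v + b • ρ z v + b • ρ z (ρ z v)) ∧ ∀ v, ρ z v = v → ∃ s : F, v = s • u := by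
  obtain ⟨kz, kx⟩ := k
  have h2 : (2 : F) = 0 := CharTwo.two_eq_zero
  have hb3 : b ^ 3 = 1 := by linear_combination (b - 1) * hb2
  have hb0 : b ≠ 0 := by
    rintro rfl
    norm_num at hb2
  obtain ⟨w0, hw0⟩ : ∃ w, w = ρ g u := ⟨_, rfl⟩
  obtain ⟨w1, hw1⟩ : ∃ w, w = ρ z w0 := ⟨_, rfl⟩
  obtain ⟨w2, hw2⟩ : ∃ w, w = ρ z w1 := ⟨_, rfl⟩
  obtain ⟨w3, hw3⟩ : ∃ w, w = ρ z w2 := ⟨_, rfl⟩
  obtain ⟨w4, hw4⟩ : ∃ w, w = ρ z w3 := ⟨_, rfl⟩
  have hw5 : ρ z w4 = w0 := by
    rw [hw4, hw3, hw2, hw1, ← rmul, ← rmul, ← rmul, ← rmul, show z * z * z * z * z = z ^ 5 by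
      simp only [pow_succ, pow_zero, one_mul], hh.z5, rone]
  have gg : ∀ v, ρ g (ρ g v) = v := fun v => by rw [← rmul, hh.gg, rone]
  have g0 : ρ g w0 = u := by rw [hw0, gg]
  have w00 : w0 ≠ 0 := by
    intro h
    rw [h, map_zero] at g0
    exact n g0.symm
  have kz' : ρ z⁻¹ u = u := rinv_eq z kz
  have i0 : ρ z⁻¹ w0 = w4 := rinv_eq z hw5
  have i4 : ρ z⁻¹ w4 = w3 := rinv_eq z hw4.symm
  have g4 : ρ g w4 = w4 := by
    have h := congrArg (fun t => ρ t u) hh.r4
    simp only [rmul] at h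
    rw [kx, kz', kx, kz, kx, ← hw0, i0] at h
    have h' : ρ z (ρ g w4) = w0 := by rw [← gg (ρ z (ρ g w4)), h, hw0]
    exact rinj z (h'.trans hw5.symm)
  have g1 : ρ g w1 = b • w2 := by
    have h := congrArg (fun t => ρ t u) hh.r2
    simp only [rmul] at h
    simp only [hb, map_smul, map_smul, map_smul, map_smul, map_smul, kz', kx, kz', kx, kz, ← hw0, ← hw1] at h
    have h' : ρ z⁻¹ (ρ z⁻¹ (ρ g w1)) = b • w0 := by rw [← gg (ρ z⁻¹ (ρ z⁻¹ (ρ g w1))), h, map_smul, hw0]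
    rw [← rinv' (ρ := ρ) z (ρ g w1), ← rinv' (ρ := ρ) z (ρ z⁻¹ (ρ g w1)), h', map_smul, map_smul, ← hw1, ← hw2]
  have g2 : ρ g w2 = b ^ 2 • w1 := by
    have h := congrArg (ρ g) g1
    rw [gg, map_smul] at h
    rw [h, smul_smul, ← pow_succ, hb3, one_smul]
  have g3 : ρ g w3 = w3 := by
    have h := kx
    rw [xx] at h
    simp only [rmul] at h
    rw [← hw0, i0, i4] at h
    have h' : ρ z (ρ z (ρ g w3)) = w0 := by rw [← gg (ρ z (ρ z (ρ g w3))), h, hw0]
    exact rinj z (rinj z (h'.trans (by rw [← hw4, hw5])))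
  -- `w0`, `w1`, `w2` are independent
  have hC : u ∉ Submodule.span F {w0, w1} ∨ w2 ∉ Submodule.span F {w0, w1} := by
    by_contra hcon
    push Not at hcon
    obtain ⟨hu, hw2m⟩ := hcon
    have m0 : w0 ∈ Submodule.span F {w0, w1} := Submodule.subset_span (by simp)
    have m1 : w1 ∈ Submodule.span F {w0, w1} := Submodule.subset_span (by simp)
    have hst : St ρ (Submodule.span F {w0, w1}) := by
      refine st_of_gen hh.gen ?_
      intro a ha w hw
      obtain ⟨p, q, rfl⟩ := Submodule.mem_span_pair.1 hw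
      rw [map_add, map_smul, map_smul]
      rcases ha with rfl | ha
      · rw [← hw1, ← hw2]
        exact Submodule.add_mem _ (Submodule.smul_mem _ _ m1) (Submodule.smul_mem _ _ hw2m)
      · rw [Set.mem_singleton_iff.1 ha, g0, g1]
        exact Submodule.add_mem _ (Submodule.smul_mem _ _ hu) (Submodule.smul_mem _ _ (Submodule.smul_mem _ _ hw2m))
    rcases irr _ hst with h | h
    · rw [h, Submodule.mem_bot] at m0
      exact w00 m0
    · have h3 := finrank_span_pair_le (F := F) w0 w1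
      rw [h, finrank_top, d] at h3
      omega
  have hw2n : w2 ∉ Submodule.span F {w0, w1} := by
    intro hw2m
    rcases hC with hC | hC
    · apply hC
      obtain ⟨p, q, hpq⟩ := Submodule.mem_span_pair.1 hw2m
      have h := congrArg (ρ g) hpq
      rw [map_add, map_smul, map_smul, g0, g1, g2] at h
      by_cases hp : p = 0
      · rw [hp, zero_smul, zero_add] at h hpq
        -- `w2 = q w1`, `w1 = q w0`
        have e1 : w1 = q • w0 := by
          apply rinj (ρ := ρ) z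
          rw [map_smul, ← hw1, ← hw2, hpq]
        have e2 := congrArg (ρ g) e1
        rw [map_smul, g0, g1] at e2
        have hq : q ≠ 0 := by
          rintro rfl
          rw [zero_smul] at e1
          rw [e1] at hw1
          exact w00 (rinj z (hw1.symm.trans (map_zero _).symm))
        have e3 : u = (q⁻¹ * b) • w2 := by
          rw [mul_smul, e2, smul_smul, inv_mul_cancel₀ hq, one_smul]
        rw [e3]
        exact Submodule.smul_mem _ _ hw2m
      · have e3 : u = p⁻¹ • (b ^ 2 • w1 - q • b • w2) := by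
          rw [← h, add_sub_cancel_right, smul_smul, inv_mul_cancel₀ hp, one_smul]
        rw [e3]
        exact Submodule.smul_mem _ _ (Submodule.sub_mem _ (Submodule.smul_mem _ _ (Submodule.subset_span (by simp)))
          (Submodule.smul_mem _ _ (Submodule.smul_mem _ _ hw2m)))
    · exact hC hw2m
  have hli : ∀ α β γ : F, α • w0 + β • w1 + γ • w2 = 0 → α = 0 ∧ β = 0 ∧ γ = 0 := by
    intro α β γ h
    have hγ : γ = 0 := by
      by_contra hγ
      apply hw2n
      have e : w2 = -(γ⁻¹ • (α • w0 + β • w1)) := by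
        rw [eq_neg_iff_add_eq_zero, ← smul_right_injective _ hγ |>.eq_iff]
        simp only [smul_add, smul_smul, mul_inv_cancel₀ hγ, ← mul_assoc, one_mul, smul_zero]
        rw [← h]
        abel
      rw [e]
      exact Submodule.neg_mem _ (Submodule.smul_mem _ _ (Submodule.add_mem _
        (Submodule.smul_mem _ _ (Submodule.subset_span (by simp))) (Submodule.smul_mem _ _ (Submodule.subset_span (by simp)))))
    subst hγ
    rw [zero_smul, add_zero] at h
    have hβ : β = 0 := by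
      by_contra hβ
      apply hw2n
      -- `w1 = m w0`
      have e : w1 = (-(β⁻¹ * α)) • w0 := by
        have h' := congrArg (fun t => β⁻¹ • t) h
        simp only [smul_add, smul_smul, inv_mul_cancel₀ hβ, one_smul, smul_zero] at h'
        rw [neg_smul, eq_neg_iff_add_eq_zero, add_comm]
        exact h'
      have e2 : w2 = (-(β⁻¹ * α)) • w1 := by rw [hw2, e, map_smul, ← hw1, e]
      rw [e2]
      exact Submodule.smul_mem _ _ (Submodule.subset_span (by simp))
    subst hβ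
    rw [zero_smul, add_zero] at h
    exact ⟨(smul_eq_zero.1 h).resolve_right w00, rfl, rfl⟩
  have heq : ∀ {α β γ α' β' γ' : F}, α • w0 + β • w1 + γ • w2 = α' • w0 + β' • w1 + γ' • w2 → α = α' ∧ β = β' ∧ γ = γ' := by
    intro α β γ α' β' γ' h
    have h' : (α - α') • w0 + (β - β') • w1 + (γ - γ') • w2 = 0 := by
      rw [sub_smul, sub_smul, sub_smul, ← sub_eq_zero.2 h]
      abel
    obtain ⟨e1, e2, e3⟩ := hli _ _ _ h'
    exact ⟨sub_eq_zero.1 e1, sub_eq_zero.1 e2, sub_eq_zero.1 e3⟩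
  obtain ⟨A, B, C, h3⟩ := coord d hli w3
  obtain ⟨x0, x1, x2, hu⟩ := coord d hli u
  -- the equations
  have E1 : x2 * A = x0 ∧ x0 + x2 * B = x1 ∧ x1 + x2 * C = x2 := by
    have h := kz
    rw [hu, map_add, map_add, map_smul, map_smul, map_smul, ← hw1, ← hw2, ← hw3, h3] at h
    refine heq (Eq.trans ?_ h)
    simp only [smul_add, smul_smul, add_smul]
    abel
  have E2 : A * x0 = A ∧ A * x1 + C * b ^ 2 = B ∧ A * x2 + B * b = C := by
    have h := g3
    rw [h3, map_add, map_add, map_smul, map_smul, map_smul, g0, g1, g2, hu] at h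
    refine heq (Eq.trans ?_ h)
    simp only [smul_add, smul_smul, add_smul]
    abel
  have E3 : x0 * x0 = 1 ∧ x0 * x1 + x2 * b ^ 2 = 0 ∧ x0 * x2 + x1 * b = 0 := by
    have h : ρ g u = w0 := hw0.symm
    rw [hu, map_add, map_add, map_smul, map_smul, map_smul, g0, g1, g2, hu] at h
    refine heq (Eq.trans ?_ (h.trans (show w0 = (1 : F) • w0 + (0 : F) • w1 + (0 : F) • w2 by
      rw [one_smul, zero_smul, zero_smul, add_zero, add_zero])))
    simp only [smul_add, smul_smul, add_smul]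
    abel
  obtain ⟨a1, a2, a3⟩ := E1
  obtain ⟨b1, b2, b3⟩ := E2
  obtain ⟨c1, c2, c3⟩ := E3
  have x01 : x0 = 1 := sq_one c1
  subst x01
  have x21 : x2 = b * x1 := by linear_combination c3 - x1 * b * h2
  subst x21
  have x10 : x1 ≠ 0 := by
    rintro rfl
    rw [mul_zero, zero_mul] at a1
    exact zero_ne_one a1
  have hCb : C = b := by
    have h : x1 * (b * (C - b)) = 0 := by linear_combination a3 - x1 * hb2 + b * x1 * h2 - 0 * h2
    rcases mul_eq_zero.1 h with h | h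
    · exact absurd h x10
    · rcases mul_eq_zero.1 h with h | h
      · exact absurd h hb0
      · exact sub_eq_zero.1 h
  subst hCb
  have hBC : B = C := by
    have h : C * (B - C) = 0 := by linear_combination b3 - a1 - hb2 + C * h2
    rcases mul_eq_zero.1 h with h | h
    · exact absurd h hb0
    · exact sub_eq_zero.1 h
  subst hBC
  have hbx : B * x1 = 1 := by linear_combination -a2 + x1 * hb2 - x1 * h2
  have hA1 : A = 1 := by linear_combination a1 - A * hbx
  subst hA1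
  rw [one_smul] at h3
  constructor
  · have q0 : ρ z (ρ z (ρ z w0)) = w0 + B • ρ z w0 + B • ρ z (ρ z w0) := by rw [← hw1, ← hw2, ← hw3, h3]
    have q1 : ρ z (ρ z (ρ z w1)) = w1 + B • ρ z w1 + B • ρ z (ρ z w1) := by
      have h := congrArg (ρ z) q0
      rw [map_add, map_add, map_smul, map_smul, ← hw1] at h
      exact h
    have q2 : ρ z (ρ z (ρ z w2)) = w2 + B • ρ z w2 + B • ρ z (ρ z w2) := by
      have h := congrArg (ρ z) q1
      rw [map_add, map_add, map_smul, map_smul, ← hw2] at h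
      exact h
    intro v
    obtain ⟨α, β, γ, rfl⟩ := coord d hli v
    simp only [map_add, map_smul]
    rw [q0, q1, q2]
    module
  · intro v hv
    obtain ⟨α, β, γ, rfl⟩ := coord d hli v
    rw [map_add, map_add, map_smul, map_smul, map_smul, ← hw1, ← hw2, ← hw3, h3] at hv
    have h : γ = α ∧ α + B * γ = β ∧ β + B * γ = γ := by
      refine heq (Eq.trans ?_ hv)
      module
    obtain ⟨e1, e2, e3⟩ := h
    subst e1
    refine ⟨γ, ?_⟩
    have hx1 : x1 = B ^ 2 := by linear_combination B ^ 2 * hbx - x1 * hb3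
    have e4 : β = γ * x1 := by rw [hx1]; linear_combination -e2 - γ * hb2 + γ * (1 + B) * h2
    rw [hu, hbx, e4]
    module

end

/-! ### vectors and functionals fixed by `A₅` -/

theorem xx_sq {z g : P} (h : g * g = 1) : xx z g * xx z g = 1 := by
  have h1 : xx z g = (g * z * z) * g * (g * z * z)⁻¹ := by
    rw [xx, mul_inv_rev, mul_inv_rev, inv_eq_of_mul_eq_one_left h]
    simp only [mul_assoc]
  rw [h1]
  calc (g * z * z) * g * (g * z * z)⁻¹ * ((g * z * z) * g * (g * z * z)⁻¹)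
      = (g * z * z) * (g * g) * (g * z * z)⁻¹ := by group
    _ = 1 := by rw [h, mul_one, mul_inv_cancel]

section
variable {X : Type*} [AddCommGroup X] [Module F X] {ρ : Representation F P X}

theorem two_ev [FiniteDimensional F X] {T : X →ₗ[F] X} (hT : ∀ v, T (T v) = v) : finrank F X ≤ 2 * ev T 1 := by
  have h := LinearMap.finrank_range_add_finrank_ker (T - 1)
  have h1 : LinearMap.range (T - 1) ≤ Module.End.eigenspace T 1 := by
    rintro _ ⟨v, rfl⟩
    rw [Module.End.mem_eigenspace_iff, one_smul, LinearMap.sub_apply, Module.End.one_apply, map_sub, hT]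
    rw [sub_eq_sub_iff_add_eq_add, add_self F, add_self F]
  have h2 : LinearMap.ker (T - 1) ≤ Module.End.eigenspace T 1 := by
    intro v hv
    rw [LinearMap.mem_ker, LinearMap.sub_apply, Module.End.one_apply, sub_eq_zero] at hv
    rw [Module.End.mem_eigenspace_iff, one_smul, hv]
  have h3 := Submodule.finrank_mono h1
  have h4 := Submodule.finrank_mono h2
  rw [ev]
  omega

theorem exists_kf [FiniteDimensional F X] {ζ z g β : P} {c : F} (hh : Half ζ z g β) (hc : Ch ρ ζ c)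
    (d : finrank F X = 3) {u : X} (hu : ρ z u = u) (n : u ≠ 0) :
    (∃ w, w ≠ 0 ∧ KF ρ z g w) ∨ ∃ f : X →ₗ[F] F, f ≠ 0 ∧ (∀ v, f (ρ z v) = f v) ∧ ∀ v, f (ρ (xx z g) v) = f v := by
  have hx2 := xx_sq (z := z) hh.gg
  let θ : FreeGroup Bool →* P := FreeGroup.lift (fun i => if i then xx z g else xx z g * z)
  have t1 : θ (FreeGroup.of true) = xx z g := by rw [FreeGroup.lift_apply_of]; rfl
  have t2 : θ (FreeGroup.of false) = xx z g * z := by rw [FreeGroup.lift_apply_of]; rfl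
  have t3 : θ (FreeGroup.of true * FreeGroup.of false) = z := by
    rw [map_mul, t1, t2, ← mul_assoc, hx2, one_mul]
  have hgen : Subgroup.closure {FreeGroup.of true, FreeGroup.of false} = (⊤ : Subgroup (FreeGroup Bool)) := by
    rw [← FreeGroup.closure_range_of]
    congr 1
    ext v
    constructor
    · rintro (rfl | h)
      · exact ⟨true, rfl⟩
      · exact ⟨false, (Set.mem_singleton_iff.1 h).symm⟩
    · rintro ⟨i, rfl⟩
      cases i
      · exact Or.inr rfl
      · exact Or.inl rfl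
  have hsc := H952.F4.Scott.scott (MonoidHom.comp ρ θ : Representation F _ X) hgen
  have e1 : ev ((MonoidHom.comp ρ θ) (FreeGroup.of true)) 1 = ev (ρ (xx z g)) 1 := by rw [MonoidHom.comp_apply, t1]
  have e2 : ev ((MonoidHom.comp ρ θ) (FreeGroup.of false)) 1 = ev (ρ (xx z g * z)) 1 := by rw [MonoidHom.comp_apply, t2]
  have e3 : ev ((MonoidHom.comp ρ θ) (FreeGroup.of true * FreeGroup.of false)) 1 = ev (ρ z) 1 := by
    rw [MonoidHom.comp_apply, t3]
  have f1 := two_ev (F := F) (T := ρ (xx z g)) (fun v => by rw [← rmul, hx2, rone])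
  have f2 : 0 < ev (ρ (xx z g * z)) 1 := by
    have : Nontrivial X := ⟨u, 0, n⟩
    obtain ⟨w, hw0, hw⟩ := exists_fix (ρ := ρ) hc hh.c3 hh.t3
    rw [ev, Module.finrank_pos_iff_exists_ne_zero]
    exact ⟨⟨w, Module.End.mem_eigenspace_iff.2 (by rw [hw, one_smul])⟩, fun h => hw0 (congrArg Subtype.val h)⟩
  have f3 : 0 < ev (ρ z) 1 := by
    rw [ev, Module.finrank_pos_iff_exists_ne_zero]
    exact ⟨⟨u, Module.End.mem_eigenspace_iff.2 (by rw [hu, one_smul])⟩, fun h => n (congrArg Subtype.val h)⟩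
  have hz : z = xx z g * (xx z g * z) := by rw [← mul_assoc, hx2, one_mul]
  by_cases h1 : Representation.invariants (MonoidHom.comp ρ θ) = ⊥
  · right
    have h2 : (Representation.dual (MonoidHom.comp ρ θ : Representation F _ X)).invariants ≠ ⊥ := by
      intro h2
      rw [h1, h2, finrank_bot, finrank_bot, add_zero, add_zero] at hsc
      have hsc' : ev ((MonoidHom.comp ρ θ) (FreeGroup.of true)) 1 + ev ((MonoidHom.comp ρ θ) (FreeGroup.of false)) 1 +
        ev ((MonoidHom.comp ρ θ) (FreeGroup.of true * FreeGroup.of false)) 1 ≤ finrank F X := hsc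
      rw [e1, e2, e3] at hsc'
      omega
    obtain ⟨f, hf, hf0⟩ := Submodule.exists_mem_ne_zero_of_ne_bot h2
    rw [Representation.mem_invariants] at hf
    have hf1 : ∀ p v, f (ρ (θ p) v) = f v := by
      intro p v
      have h := LinearMap.congr_fun (hf p⁻¹) v
      have h' : f (ρ (θ (p⁻¹)⁻¹) v) = f v := h
      rw [inv_inv] at h'
      exact h'
    refine ⟨f, hf0, fun v => ?_, fun v => ?_⟩
    · have h := hf1 (FreeGroup.of true * FreeGroup.of false) v
      rwa [t3] at h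
    · have h := hf1 (FreeGroup.of true) v
      rwa [t1] at h
  · left
    obtain ⟨v, hv, hv0⟩ := Submodule.exists_mem_ne_zero_of_ne_bot h1
    rw [Representation.mem_invariants] at hv
    refine ⟨v, hv0, ?_, ?_⟩
    · have h : ρ (θ (FreeGroup.of true * FreeGroup.of false)) v = v := hv _
      rwa [t3] at h
    · have h : ρ (θ (FreeGroup.of true)) v = v := hv _
      rwa [t1] at h

/-- the sum of the powers of `z` -/
def pz (ρ : Representation F P X) (z : P) (v : X) : X :=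
  v + ρ z v + ρ z (ρ z v) + ρ z (ρ z (ρ z v)) + ρ z (ρ z (ρ z (ρ z v)))

theorem pz_fix {z : P} (z5 : z ^ 5 = 1) (v : X) : ρ z (pz ρ z v) = pz ρ z v := by
  have h : ρ z (ρ z (ρ z (ρ z (ρ z v)))) = v := by
    rw [← rmul, ← rmul, ← rmul, ← rmul, show z * z * z * z * z = z ^ 5 by
      simp only [pow_succ, pow_zero, one_mul], z5, rone]
  simp only [pz, map_add]
  rw [h]
  abel

theorem pz_fn {z : P} {Y : Type*} [AddCommGroup Y] [Module F Y] {f : X →ₗ[F] Y} (hf : ∀ v, f (ρ z v) = f v) (v : X) :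
    f (pz ρ z v) = f v := by
  simp only [pz, map_add, hf]
  rw [add_self F, zero_add, add_self F, zero_add]

theorem eig_one {z x : P} (z5 : z ^ 5 = 1) (hx : x * x = 1) (hx3 : (x * z) ^ 3 = 1) {q : X} (hq : q ≠ 0) {l m : F}
    (h1 : ρ z q = l • q) (h2 : ρ x q = m • q) : l = 1 ∧ m = 1 := by
  have hm : m = 1 := by
    apply sq_one
    have h := h2
    have h' : ρ x (ρ x q) = q := by rw [← rmul, hx, rone]
    rw [h2, map_smul, h2, smul_smul] at h'
    exact smul_left_injective F hq (h'.trans (one_smul F q).symm)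
  subst hm
  rw [one_smul] at h2
  have e1 : ρ (x * z) q = l • q := by rw [rmul, h1, map_smul, h2]
  have e3 : l ^ 3 = 1 := by
    have h : ρ (x * z) (ρ (x * z) (ρ (x * z) q)) = q := by
      rw [← rmul, ← rmul, ← pow_three', hx3, rone]
    rw [e1, map_smul, e1, map_smul, map_smul, e1, smul_smul, smul_smul] at h
    exact smul_left_injective F hq ((by rw [pow_three, mul_assoc] at *; exact h : l ^ 3 • q = q).trans (one_smul F q).symm)
  have e5 : l ^ 5 = 1 := by
    have h : ρ z (ρ z (ρ z (ρ z (ρ z q)))) = q := by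
      rw [← rmul, ← rmul, ← rmul, ← rmul, show z * z * z * z * z = z ^ 5 by
        simp only [pow_succ, pow_zero, one_mul], z5, rone]
    simp only [h1, map_smul, smul_smul] at h
    exact smul_left_injective F hq ((by rw [show l ^ 5 = l * (l * (l * (l * l))) by ring]; simpa only [mul_assoc] using h :
      l ^ 5 • q = q).trans (one_smul F q).symm)
  exact ⟨by linear_combination (l ^ 3 + 1) * e3 - l * e5, rfl⟩

/-- the same for functionals -/
theorem eig_one' {z x : P} (z5 : z ^ 5 = 1) (hx : x * x = 1) (hx3 : (x * z) ^ 3 = 1) {f : X →ₗ[F] F} (hf : f ≠ 0) {l m : F}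
    (h1 : ∀ v, f (ρ z v) = l * f v) (h2 : ∀ v, f (ρ x v) = m * f v) : l = 1 ∧ m = 1 := by
  obtain ⟨q, hq⟩ : ∃ q, f q ≠ 0 := by
    by_contra hcon
    push Not at hcon
    exact hf (LinearMap.ext hcon)
  have hm : m = 1 := by
    apply sq_one
    have h' : f (ρ x (ρ x q)) = f q := by rw [← rmul, hx, rone]
    rw [h2, h2, ← mul_assoc] at h'
    exact mul_right_cancel₀ hq (h'.trans (one_mul _).symm)
  subst hm
  have e1 : ∀ v, f (ρ (x * z) v) = l * f v := fun v => by rw [rmul, h2, h1, one_mul]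
  have e3 : l ^ 3 = 1 := by
    have h : f (ρ (x * z) (ρ (x * z) (ρ (x * z) q))) = f q := by
      rw [← rmul, ← rmul, ← pow_three', hx3, rone]
    rw [e1, e1, e1] at h
    exact mul_right_cancel₀ hq (by linear_combination h)
  have e5 : l ^ 5 = 1 := by
    have h : f (ρ z (ρ z (ρ z (ρ z (ρ z q))))) = f q := by
      rw [← rmul, ← rmul, ← rmul, ← rmul, show z * z * z * z * z = z ^ 5 by
        simp only [pow_succ, pow_zero, one_mul], z5, rone]
    simp only [h1] at h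
    exact mul_right_cancel₀ hq (by linear_combination h)
  exact ⟨by linear_combination (l ^ 3 + 1) * e3 - l * e5, rfl⟩

/-- `X` of dimension 3, with a vector `u` fixed by `⟨z, x⟩` and a functional `f` fixed by `⟨z, y⟩` -/
structure Ty (ρ : Representation F P X) (z x y : P) (u : X) (f : X →ₗ[F] F) (b : F) : Prop where
  z5 : z ^ 5 = 1
  xx : x * x = 1
  yy : y * y = 1
  x3 : (x * z) ^ 3 = 1
  y3 : (y * z) ^ 3 = 1
  gen : Subgroup.closure {z, x, y} = ⊤
  irr : ∀ W : Submodule F X, St ρ W → W = ⊥ ∨ W = ⊤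
  nofix : ∀ v : X, (∀ g, ρ g v = v) → v = 0
  d : finrank F X = 3
  uz : ρ z u = u
  ux : ρ x u = u
  fz : ∀ v, f (ρ z v) = f v
  fy : ∀ v, f (ρ y v) = f v
  fu : f u = 1
  hu : ∀ v, ρ z v = v → ∃ s : F, v = s • u
  cub : ∀ v, ρ z (ρ z (ρ z v)) = v + b • ρ z v + b • ρ z (ρ z v)

variable {z x y : P} {u : X} {f : X →ₗ[F] F} {b : F}

theorem Ty.f_ne (T : Ty ρ z x y u f b) : f ≠ 0 := by
  intro h
  have h1 := T.fu
  rw [h, LinearMap.zero_apply] at h1
  exact zero_ne_one h1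

theorem Ty.u_ne (T : Ty ρ z x y u f b) : u ≠ 0 := by
  intro h
  have h1 := T.fu
  rw [h, map_zero] at h1
  exact zero_ne_one h1

theorem Ty.pz_eq (T : Ty ρ z x y u f b) (v : X) : pz ρ z v = f v • u := by
  obtain ⟨s, hs⟩ := T.hu _ (pz_fix T.z5 v)
  have h := congrArg f hs
  rw [pz_fn T.fz, map_smul, T.fu, smul_eq_mul, mul_one] at h
  rw [hs, h]

/-- subspaces stable under `⟨z, x⟩` in the kernel of `f` -/
theorem Ty.low [FiniteDimensional F X] (T : Ty ρ z x y u f b) {Q : Submodule F X} (h1 : ∀ q ∈ Q, ρ z q ∈ Q) (h2 : ∀ q ∈ Q, ρ x q ∈ Q)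
    (h3 : ∀ q ∈ Q, f q = 0) : Q = ⊥ := by
  have hle : Q ≤ LinearMap.ker f := fun q hq => h3 q hq
  have hk := Module.Dual.finrank_ker_add_one_of_ne_zero (f := f) T.f_ne
  rw [T.d] at hk
  have hd := Submodule.finrank_mono hle
  by_contra hQ
  have hQ1 : finrank F Q ≠ 0 := fun h => hQ (Submodule.finrank_eq_zero.1 h)
  rcases (by omega : finrank F Q = 1 ∨ finrank F Q = 2) with h | h
  · obtain ⟨⟨q, hq⟩, hq0, hq1⟩ := finrank_eq_one_iff'.1 h
    have hq0' : q ≠ 0 := fun h => hq0 (Subtype.ext h)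
    obtain ⟨l, hl⟩ := hq1 ⟨_, h1 q hq⟩
    obtain ⟨m, hm⟩ := hq1 ⟨_, h2 q hq⟩
    have hl' : ρ z q = l • q := (congrArg Subtype.val hl).symm
    have hm' : ρ x q = m • q := (congrArg Subtype.val hm).symm
    obtain ⟨rfl, rfl⟩ := eig_one T.z5 T.xx T.x3 hq0' hl' hm'
    rw [one_smul] at hl'
    obtain ⟨s, hs⟩ := T.hu q hl'
    have h4 := h3 q hq
    rw [hs, map_smul, T.fu, smul_eq_mul, mul_one] at h4
    rw [h4, zero_smul] at hs
    exact hq0' hs
  · have hQk : Q = LinearMap.ker f := Submodule.eq_of_le_of_finrank_eq hle (by omega)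
    have hst : St ρ Q := by
      refine st_of_gen T.gen ?_
      rintro a (rfl | rfl | ha) w hw
      · exact h1 w hw
      · exact h2 w hw
      · rw [Set.mem_singleton_iff.1 ha]
        rw [hQk, LinearMap.mem_ker] at hw ⊢
        rw [T.fy, hw]
    rcases T.irr _ hst with h5 | h5
    · exact hQ h5
    · rw [h5, finrank_top, T.d] at h
      omega

/-- subspaces stable under `⟨z, y⟩` containing `u` -/
theorem Ty.high [FiniteDimensional F X] (T : Ty ρ z x y u f b) {Q : Submodule F X} (h1 : ∀ q ∈ Q, ρ z q ∈ Q) (h2 : ∀ q ∈ Q, ρ y q ∈ Q)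
    (h3 : u ∈ Q) : Q = ⊤ := by
  by_contra hQ
  have hd := Submodule.finrank_lt hQ
  rw [T.d] at hd
  have hQ1 : finrank F Q ≠ 0 := fun h => T.u_ne ((Submodule.mem_bot F).1 ((Submodule.finrank_eq_zero.1 h) ▸ h3))
  rcases (by omega : finrank F Q = 1 ∨ finrank F Q = 2) with h | h
  · obtain ⟨m, hm⟩ := (finrank_eq_one_iff_of_nonzero' (⟨u, h3⟩ : Q) (fun h => T.u_ne (congrArg Subtype.val h))).1 h
      ⟨_, h2 u h3⟩
    have hm' : ρ y u = m • u := (congrArg Subtype.val hm).symm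
    obtain ⟨-, rfl⟩ := eig_one T.z5 T.yy T.y3 T.u_ne (l := 1) (by rw [one_smul, T.uz]) hm'
    rw [one_smul] at hm'
    refine T.u_ne (T.nofix u fun g => fix_of_gen T.gen ?_ g)
    rintro a (rfl | rfl | ha)
    · exact T.uz
    · exact T.ux
    · rw [Set.mem_singleton_iff.1 ha, hm']
  · obtain ⟨l, hl0, hl⟩ := Submodule.exists_le_ker_of_lt_top Q (lt_top_iff_ne_top.2 hQ)
    have hk := Module.Dual.finrank_ker_add_one_of_ne_zero (f := l) hl0
    rw [T.d] at hk
    have hQk : Q = LinearMap.ker l := Submodule.eq_of_le_of_finrank_eq hl (by omega)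
    have hz : ∃ c : F, ∀ v, (l ∘ₗ ρ z) v = c * l v := smul_of_ker_le hl0 fun v hv => by
      have h4 : v ∈ Q := by rw [hQk]; exact hv
      have h5 := h1 v h4
      rw [hQk] at h5
      exact h5
    have hy : ∃ c : F, ∀ v, (l ∘ₗ ρ y) v = c * l v := smul_of_ker_le hl0 fun v hv => by
      have h4 : v ∈ Q := by rw [hQk]; exact hv
      have h5 := h2 v h4
      rw [hQk] at h5
      exact h5
    obtain ⟨c1, hc1⟩ := hz
    obtain ⟨c2, hc2⟩ := hy
    obtain ⟨rfl, rfl⟩ := eig_one' T.z5 T.yy T.y3 hl0 hc1 hc2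
    apply hl0
    apply LinearMap.ext
    intro v
    have h6 := pz_fn (ρ := ρ) (z := z) (f := l) (fun v => (hc1 v).trans (one_mul _)) v
    rw [T.pz_eq, map_smul, LinearMap.mem_ker.1 (hQk ▸ h3 : u ∈ LinearMap.ker l), smul_zero] at h6
    exact h6.symm

end

/-! ### the tensor product -/

section
variable {X₁ X₂ : Type*} [AddCommGroup X₁] [Module F X₁] [AddCommGroup X₂] [Module F X₂]
  {ρ₁ : Representation F P X₁} {ρ₂ : Representation F P X₂}

/-- contraction with a functional -/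
noncomputable def Fn (f : X₁ →ₗ[F] F) : X₁ ⊗[F] X₂ →ₗ[F] X₂ := (TensorProduct.lid F X₂).toLinearMap ∘ₗ LinearMap.rTensor X₂ f

theorem Fn_tmul (f : X₁ →ₗ[F] F) (x : X₁) (y : X₂) : Fn f (x ⊗ₜ[F] y) = f x • y := by
  rw [Fn, LinearMap.comp_apply, LinearMap.rTensor_tmul]
  exact TensorProduct.lid_tmul _ _

theorem Fn_act (f : X₁ →ₗ[F] F) (k : P) (t : X₁ ⊗[F] X₂) : Fn f ((ρ₁.tprod ρ₂) k t) = ρ₂ k (Fn (f ∘ₗ ρ₁ k) t) := by
  induction t using TensorProduct.induction_on with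
  | zero => simp only [map_zero]
  | tmul x y =>
    rw [Representation.tprod_apply, TensorProduct.map_tmul, Fn_tmul, Fn_tmul, map_smul]
    rfl
  | add t t' h h' => rw [map_add, map_add, h, h', map_add, map_add]

theorem Fn_zero (t : X₁ ⊗[F] X₂) : Fn (0 : X₁ →ₗ[F] F) t = 0 := by
  induction t using TensorProduct.induction_on with
  | zero => simp only [map_zero]
  | tmul x y => rw [Fn_tmul, LinearMap.zero_apply, zero_smul]
  | add t t' h h' => rw [map_add, h, h', add_zero]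

theorem Fn_add (f g : X₁ →ₗ[F] F) (t : X₁ ⊗[F] X₂) : Fn (f + g) t = Fn f t + Fn g t := by
  induction t using TensorProduct.induction_on with
  | zero => simp only [map_zero, add_zero]
  | tmul x y => rw [Fn_tmul, Fn_tmul, Fn_tmul, LinearMap.add_apply, add_smul]
  | add t t' h h' => rw [map_add, h, h', map_add, map_add]; abel

theorem Fn_smul (f : X₁ →ₗ[F] F) (r : F) (t : X₁ ⊗[F] X₂) : Fn (r • f) t = r • Fn f t := by
  induction t using TensorProduct.induction_on with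
  | zero => simp only [map_zero, smul_zero]
  | tmul x y => rw [Fn_tmul, Fn_tmul, LinearMap.smul_apply, smul_smul, smul_eq_mul]
  | add t t' h h' => rw [map_add, h, h', map_add, smul_add]

theorem Fn_inj [FiniteDimensional F X₁] {t : X₁ ⊗[F] X₂} (h : ∀ f : X₁ →ₗ[F] F, Fn f t = 0) : t = 0 := by
  have key : ∀ t : X₁ ⊗[F] X₂, t = ∑ i, (Module.finBasis F X₁) i ⊗ₜ[F] Fn ((Module.finBasis F X₁).coord i) t := by
    intro t
    induction t using TensorProduct.induction_on with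
    | zero => simp only [map_zero, TensorProduct.tmul_zero, Finset.sum_const_zero]
    | tmul x y =>
      simp only [Fn_tmul, TensorProduct.tmul_smul]
      simp only [TensorProduct.smul_tmul']
      rw [← TensorProduct.sum_tmul]
      congr 1
      exact ((Module.finBasis F X₁).sum_repr x).symm
    | add t t' h h' =>
      simp only [map_add, TensorProduct.tmul_add]
      rw [Finset.sum_add_distrib, ← h, ← h']
  rw [key t]
  exact Finset.sum_eq_zero fun i _ => by rw [h, TensorProduct.tmul_zero]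

variable [FiniteDimensional F X₁] [FiniteDimensional F X₂] {z x y : P} {u₁ : X₁} {u₂ : X₂} {f₁ : X₁ →ₗ[F] F} {f₂ : X₂ →ₗ[F] F} {b b' : F}

/-- vectors of the tensor product fixed by `z` -/
theorem fix_t (T₁ : Ty ρ₁ z x y u₁ f₁ b) (T₂ : Ty ρ₂ z y x u₂ f₂ b') (hb : b + b' = 1) {t : X₁ ⊗[F] X₂}
    (ht : (ρ₁.tprod ρ₂) z t = t) : ∃ s : F, t = s • (u₁ ⊗ₜ[F] u₂) := by
  obtain ⟨A, hA⟩ : ∃ A : X₁ ⊗[F] X₂ →ₗ[F] X₁ ⊗[F] X₂, A = LinearMap.rTensor X₂ (ρ₁ z) := ⟨_, rfl⟩
  obtain ⟨C, hC⟩ : ∃ C : X₁ ⊗[F] X₂ →ₗ[F] X₁ ⊗[F] X₂, C = LinearMap.lTensor X₁ (ρ₂ z) := ⟨_, rfl⟩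
  have At : ∀ v w, A (v ⊗ₜ[F] w) = ρ₁ z v ⊗ₜ[F] w := fun v w => by rw [hA, LinearMap.rTensor_tmul]
  have Ct : ∀ v w, C (v ⊗ₜ[F] w) = v ⊗ₜ[F] ρ₂ z w := fun v w => by rw [hC, LinearMap.lTensor_tmul]
  have hAC : ∀ t, C (A t) = (ρ₁.tprod ρ₂) z t := by
    intro t
    induction t using TensorProduct.induction_on with
    | zero => simp only [map_zero]
    | tmul v w => rw [Representation.tprod_apply, TensorProduct.map_tmul, At, Ct]
    | add t t' h h' => rw [map_add, map_add, h, h', map_add]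
  have hCA : ∀ t, C (A t) = A (C t) := by
    intro t
    induction t using TensorProduct.induction_on with
    | zero => simp only [map_zero]
    | tmul v w => rw [At, Ct, Ct, At]
    | add t t' h h' => rw [map_add, map_add, h, h', map_add, map_add]
  have A3 : ∀ t, A (A (A t)) = t + b • A t + b • A (A t) := by
    intro t
    induction t using TensorProduct.induction_on with
    | zero => simp only [map_zero, smul_zero, add_zero]
    | tmul v w =>
      rw [At, At, At, T₁.cub, TensorProduct.add_tmul, TensorProduct.add_tmul, TensorProduct.smul_tmul', TensorProduct.smul_tmul']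
    | add t t' h h' => simp only [map_add, h, h', smul_add]; abel
  have C3 : ∀ t, C (C (C t)) = t + b' • C t + b' • C (C t) := by
    intro t
    induction t using TensorProduct.induction_on with
    | zero => simp only [map_zero, smul_zero, add_zero]
    | tmul v w =>
      rw [Ct, Ct, Ct, T₂.cub, TensorProduct.tmul_add, TensorProduct.tmul_add, TensorProduct.tmul_smul, TensorProduct.tmul_smul]
    | add t t' h h' => simp only [map_add, h, h', smul_add]; abel
  have Ainj : ∀ {t t'}, A t = A t' → t = t' := by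
    intro t t' h
    have h1 : ∀ t, t = A (A (A t)) + b • A t + b • A (A t) := by
      intro t
      rw [A3]
      have e1 := add_self F (b • A t)
      have e2 := add_self F (b • A (A t))
      calc t = t + (b • A t + b • A t) + (b • A (A t) + b • A (A t)) := by rw [e1, e2, add_zero, add_zero]
        _ = _ := by abel
    rw [h1 t, h1 t', h]
  -- `C` is inverse to `A` on `t`
  have c1 : C (A t) = t := by rw [hAC, ht]
  have c2 : C (A (A t)) = A t := by rw [hCA, c1]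
  have c3 : C (A (A (A t))) = A (A t) := by rw [hCA, c2]
  have hE := C3 (A (A (A t)))
  rw [c3, c2, c1, A3] at hE
  have hA1 : A t = t := by
    have e1 := add_self F (b • A t)
    have hs : (b + b') • (A t + A (A t)) = 0 := by
      have h2 : (b + b') • (A t + A (A t)) = (t + b • A t + b • A (A t) + b' • A (A t) + b' • A t) - t := by module
      rw [h2, ← hE, sub_self]
    rw [hb, one_smul] at hs
    have h3 : A (A t) = A t := by
      have h4 := add_self F (A t)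
      rw [← h4] at hs
      exact (add_left_cancel hs)
    exact Ainj h3
  have hC1 : C t = t := by
    have h := c1
    rw [hA1] at h
    exact h
  have key : ∀ t, t + A t + A (A t) + A (A (A t)) + A (A (A (A t))) = u₁ ⊗ₜ[F] Fn f₁ t := by
    intro t
    induction t using TensorProduct.induction_on with
    | zero => simp only [map_zero, TensorProduct.tmul_zero, add_zero]
    | tmul v w =>
      rw [At, At, At, At, ← TensorProduct.add_tmul, ← TensorProduct.add_tmul, ← TensorProduct.add_tmul, ← TensorProduct.add_tmul,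
        Fn_tmul, TensorProduct.tmul_smul, TensorProduct.smul_tmul', ← T₁.pz_eq]
      rfl
    | add t t' h h' =>
      rw [map_add (Fn f₁), TensorProduct.tmul_add, ← h, ← h']
      simp only [map_add]
      abel
  have h5 := key t
  rw [hA1, hA1, hA1, hA1, add_self F, zero_add, add_self F, zero_add] at h5
  have hFC : ∀ t, Fn f₁ (C t) = ρ₂ z (Fn f₁ t) := by
    intro t
    induction t using TensorProduct.induction_on with
    | zero => simp only [map_zero]
    | tmul v w => rw [Ct, Fn_tmul, Fn_tmul, map_smul]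
    | add t t' h h' => rw [map_add, map_add, h, h', map_add, map_add]
  obtain ⟨s, hs⟩ := T₂.hu (Fn f₁ t) (by rw [← hFC, hC1])
  refine ⟨s, ?_⟩
  rw [← TensorProduct.tmul_smul, ← hs]
  exact h5

/-- stable subspaces without vectors fixed by `z` -/
theorem bot_t (T₁ : Ty ρ₁ z x y u₁ f₁ b) (T₂ : Ty ρ₂ z y x u₂ f₂ b') {N : Submodule F (X₁ ⊗[F] X₂)} (hN : St (ρ₁.tprod ρ₂) N)
    (h0 : ∀ t ∈ N, (ρ₁.tprod ρ₂) z t = t → t = 0) : N = ⊥ := by
  have hf : ∀ {k : P}, (∀ v, f₁ (ρ₁ k v) = f₁ v) → ∀ t, Fn f₁ ((ρ₁.tprod ρ₂) k t) = ρ₂ k (Fn f₁ t) := by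
    intro k hk t
    have e : f₁ ∘ₗ ρ₁ k = f₁ := LinearMap.ext hk
    rw [Fn_act, e]
  have hQ : N.map (Fn f₁) = ⊥ := by
    refine T₂.low ?_ ?_ ?_
    · rintro _ ⟨t, ht, rfl⟩
      exact ⟨_, hN z t ht, hf T₁.fz t⟩
    · rintro _ ⟨t, ht, rfl⟩
      exact ⟨_, hN y t ht, hf T₁.fy t⟩
    · rintro _ ⟨t, ht, rfl⟩
      have hp : pz (ρ₁.tprod ρ₂) z t ∈ N :=
        N.add_mem (N.add_mem (N.add_mem (N.add_mem ht (hN z _ ht)) (hN z _ (hN z _ ht))) (hN z _ (hN z _ (hN z _ ht))))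
          (hN z _ (hN z _ (hN z _ (hN z _ ht))))
      have hp0 := h0 _ hp (pz_fix T₁.z5 t)
      have h1 := pz_fn (ρ := ρ₁.tprod ρ₂) (z := z) (f := f₂ ∘ₗ Fn f₁) (fun v => by
        rw [LinearMap.comp_apply, LinearMap.comp_apply, hf T₁.fz, T₂.fz]) t
      rw [hp0, map_zero, LinearMap.comp_apply] at h1
      exact h1.symm
  have hg : ∀ g, ∀ t ∈ N, Fn (f₁ ∘ₗ ρ₁ g) t = 0 := by
    intro g t ht
    have h1 : Fn f₁ ((ρ₁.tprod ρ₂) g t) ∈ N.map (Fn f₁) := ⟨_, hN g t ht, rfl⟩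
    rw [hQ, Submodule.mem_bot, Fn_act] at h1
    exact rinj g (h1.trans (map_zero _).symm)
  -- the functionals killing `N`
  let D : Submodule F (Module.Dual F X₁) :=
    { carrier := {f | ∀ t ∈ N, Fn f t = 0}
      zero_mem' := fun t _ => Fn_zero t
      add_mem' := fun {f g} hf hg t ht => (Fn_add f g t).trans (by rw [hf t ht, hg t ht, add_zero])
      smul_mem' := fun r f hf t ht => (Fn_smul f r t).trans (by rw [hf t ht, smul_zero]) }
  let W : Submodule F X₁ :=
    { carrier := {v | ∀ g, f₁ (ρ₁ g v) = 0}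
      zero_mem' := fun g => by rw [map_zero, map_zero]
      add_mem' := fun {v w} hv hw g => by rw [map_add, map_add, hv g, hw g, add_zero]
      smul_mem' := fun r v hv g => by rw [map_smul, map_smul, hv g, smul_zero] }
  have hW : W = ⊥ := by
    rcases T₁.irr W (fun g v hv h => by rw [← rmul]; exact hv _) with h | h
    · exact h
    · exfalso
      have h1 : u₁ ∈ W := by rw [h]; trivial
      have h2 : f₁ (ρ₁ 1 u₁) = 0 := h1 1
      rw [rone, T₁.fu] at h2
      exact one_ne_zero h2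
  have hDc : D.dualCoannihilator = ⊥ := by
    rw [eq_bot_iff, ← hW]
    intro v hv g
    exact (Submodule.mem_dualCoannihilator v).1 hv (f₁ ∘ₗ ρ₁ g) (hg g)
  have hD : D = ⊤ := by
    rw [← Subspace.dualCoannihilator_dualAnnihilator_eq (W := D), hDc, Submodule.dualAnnihilator_bot]
  rw [eq_bot_iff]
  intro t ht
  refine (Submodule.mem_bot F).2 (Fn_inj fun f => ?_)
  have h1 : f ∈ D := by rw [hD]; trivial
  exact h1 t ht

/-- stable subspaces containing `u₁ ⊗ u₂` -/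
theorem top_t (T₁ : Ty ρ₁ z x y u₁ f₁ b) (T₂ : Ty ρ₂ z y x u₂ f₂ b') {N : Submodule F (X₁ ⊗[F] X₂)} (hN : St (ρ₁.tprod ρ₂) N)
    (h0 : u₁ ⊗ₜ[F] u₂ ∈ N) : N = ⊤ := by
  have hact : ∀ g v w, v ⊗ₜ[F] w ∈ N → ρ₁ g v ⊗ₜ[F] ρ₂ g w ∈ N := by
    intro g v w h
    have h1 := hN g _ h
    rwa [Representation.tprod_apply, TensorProduct.map_tmul] at h1
  have h1 : ∀ w, u₁ ⊗ₜ[F] w ∈ N := by
    have hU : N.comap (TensorProduct.mk F X₁ X₂ u₁) = ⊤ := by
      refine T₂.high ?_ ?_ h0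
      · intro w hw
        have h := hact z _ _ hw
        rwa [T₁.uz] at h
      · intro w hw
        have h := hact x _ _ hw
        rwa [T₁.ux] at h
    intro w
    have h : w ∈ N.comap (TensorProduct.mk F X₁ X₂ u₁) := by rw [hU]; trivial
    exact h
  let W : Submodule F X₁ :=
    { carrier := {v | ∀ w, v ⊗ₜ[F] w ∈ N}
      zero_mem' := fun w => by rw [TensorProduct.zero_tmul]; exact N.zero_mem
      add_mem' := fun {v v'} hv hv' w => by rw [TensorProduct.add_tmul]; exact N.add_mem (hv w) (hv' w)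
      smul_mem' := fun r v hv w => by rw [← TensorProduct.smul_tmul']; exact N.smul_mem _ (hv w) }
  have hW : W = ⊤ := by
    rcases T₁.irr W (fun g v hv w => by
      have h := hact g v (ρ₂ g⁻¹ w) (hv _)
      rwa [rinv'] at h) with h | h
    · exfalso
      have h2 : u₁ ∈ W := h1
      rw [h, Submodule.mem_bot] at h2
      exact T₁.u_ne h2
    · exact h
  rw [eq_top_iff]
  intro t _
  induction t using TensorProduct.induction_on with
  | zero => exact N.zero_mem
  | tmul v w =>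
    have h : v ∈ W := by rw [hW]; trivial
    exact h w
  | add t t' h h' => exact N.add_mem (h trivial) (h' trivial)

/-- **the tensor product is irreducible** -/
theorem irr_t (T₁ : Ty ρ₁ z x y u₁ f₁ b) (T₂ : Ty ρ₂ z y x u₂ f₂ b') (hb : b + b' = 1) {N : Submodule F (X₁ ⊗[F] X₂)}
    (hN : St (ρ₁.tprod ρ₂) N) : N = ⊥ ∨ N = ⊤ := by
  by_cases h0 : u₁ ⊗ₜ[F] u₂ ∈ N
  · exact Or.inr (top_t T₁ T₂ hN h0)
  · refine Or.inl (bot_t T₁ T₂ hN fun t ht hz => ?_)
    obtain ⟨s, rfl⟩ := fix_t T₁ T₂ hb hz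
    by_cases hs : s = 0
    · rw [hs, zero_smul]
    · exfalso
      apply h0
      have h := N.smul_mem s⁻¹ ht
      rwa [smul_smul, inv_mul_cancel₀ hs, one_smul] at h

end

end Cfsg.Agent.H906.E6.SixR

namespace Cfsg.Agent.H958.SixC

open Module
open scoped TensorProduct
open Cfsg.Agent.H952.F4 (ev)
open Cfsg.Agent.H906.E6.SixR

section
variable {F : Type*} [Field F] [CharP F 2] {P : Type*} [Group P] {X : Type*} [AddCommGroup X] [Module F X]
  {ρ : Representation F P X}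

theorem act_inv {ζ : P} {c : F} (hc : Ch ρ ζ c) (v : X) : ρ ζ⁻¹ v = c ^ 2 • v := by
  apply rinj (ρ := ρ) ζ
  rw [rinv', map_smul, hc.act, smul_smul, ← pow_succ, hc.cube, one_smul]

/-- the facts on a three-dimensional module with a vector fixed by `⟨z, xx z g⟩` -/
theorem exists_ty [FiniteDimensional F X] {ζ z g g' β β' : P} {c b : F} (hc : Ch ρ ζ c) (hh : Half ζ z g β) (hh' : Half ζ z g' β')
    (hb : ∀ v, ρ β v = b • v) (hb2 : b ^ 2 + b + 1 = 0) (gen : Subgroup.closure {z, xx z g, xx z g'} = ⊤)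
    (d : finrank F X = 3) {u : X} (k : KF ρ z g u) (n : u ≠ 0) : ∃ f : X →ₗ[F] F, Ty ρ z (xx z g) (xx z g') u f b := by
  have irr : ∀ W : Submodule F X, St ρ W → W = ⊥ ∨ W = ⊤ := fun W hW => irr_three hc hh.c3 hh.t3 d hW
  obtain ⟨cub, hu⟩ := hex3 hh hb hb2 d irr k n
  have nofix : ∀ v : X, (∀ g, ρ g v = v) → v = 0 := by
    intro v hv
    by_contra hv0
    have h := hv ζ
    rw [hc.act] at h
    exact hc.ne (smul_left_injective F hv0 (h.trans (one_smul F v).symm))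
  rcases exists_kf hh' hc d k.1 n with ⟨w, hw0, hw⟩ | ⟨f, hf0, hfz, hfx⟩
  · exfalso
    obtain ⟨s, hs⟩ := hu w hw.1
    have hs0 : s ≠ 0 := by
      rintro rfl
      rw [zero_smul] at hs
      exact hw0 hs
    have hux : ρ (xx z g') u = u := by
      have h := hw.2
      rw [hs, map_smul] at h
      exact smul_right_injective X hs0 h
    refine n (nofix u fun a => fix_of_gen gen ?_ a)
    rintro a (rfl | rfl | ha)
    · exact k.1
    · exact k.2
    · rw [Set.mem_singleton_iff.1 ha, hux]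
  · have hfu : f u ≠ 0 := by
      intro h
      apply hf0
      apply LinearMap.ext
      intro v
      obtain ⟨s, hs⟩ := hu _ (pz_fix hh.z5 v)
      have h1 := pz_fn (ρ := ρ) (z := z) (f := f) hfz v
      rw [hs, map_smul, h, smul_zero] at h1
      exact h1.symm
    refine ⟨(f u)⁻¹ • f, ?_⟩
    exact
      { z5 := hh.z5
        xx := xx_sq hh.gg
        yy := xx_sq hh'.gg
        x3 := hh.c3
        y3 := hh'.c3
        gen := gen
        irr := irr
        nofix := nofix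
        d := d
        uz := k.1
        ux := k.2
        fz := fun v => by rw [LinearMap.smul_apply, LinearMap.smul_apply, hfz]
        fy := fun v => by rw [LinearMap.smul_apply, LinearMap.smul_apply, hfx]
        fu := by rw [LinearMap.smul_apply, smul_eq_mul, inv_mul_cancel₀ hfu]
        hu := hu
        cub := cub }

end

section
variable {F : Type*} [Field F] [CharP F 2] {P : Type*} [Group P]

/-- **BOX R** -/
theorem boxR {ζ z g₁ g₂ β t a : P} (hF : Full ζ z g₁ g₂ β t a) {c : F} {X₁ X₂ Y : Type*} [AddCommGroup X₁] [Module F X₁]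
    [FiniteDimensional F X₁] [AddCommGroup X₂] [Module F X₂] [FiniteDimensional F X₂] [AddCommGroup Y] [Module F Y]
    (ρ₁ : Representation F P X₁) (ρ₂ : Representation F P X₂) (σ : Representation F P Y) (hc₁ : Ch ρ₁ ζ c) (hc₂ : Ch ρ₂ ζ c)
    (d₁ : finrank F X₁ = 3) (d₂ : finrank F X₂ = 3) {u₁ : X₁} {u₂ : X₂} (k₁ : KF ρ₁ z g₁ u₁) (n₁ : u₁ ≠ 0)
    (k₂ : KF ρ₂ z g₂ u₂) (n₂ : u₂ ≠ 0) (B : X₁ →ₗ[F] X₂ →ₗ[F] Y) (hB : ∀ g x y, σ g (B x y) = B (ρ₁ g x) (ρ₂ g y))
    (hne : B ≠ 0) (R : Submodule F Y) (hR : R = Submodule.span F {y | ∃ x₁ x₂, y = B x₁ x₂}) :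
    finrank F ↥R = 9 ∧ B u₁ u₂ ≠ 0 ∧ (∀ y ∈ R, σ z y = y → ∃ s : F, y = s • B u₁ u₂) ∧
      ∀ X : Submodule F Y, X ≤ R → St σ X → X = ⊥ ∨ X = R := by
  have hc3 := hc₁.cube
  have hq := quad hc₁
  have h2 : (2 : F) = 0 := CharTwo.two_eq_zero
  have q2 : (c ^ 2) ^ 2 + c ^ 2 + 1 = 0 := by linear_combination c * hc3 + hq
  have s12 : c + c ^ 2 = 1 := by linear_combination hq - h2
  have gen' : Subgroup.closure {z, xx z g₂, xx z g₁} = ⊤ := by
    rw [← hF.gen12]
    congr 1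
    rw [Set.pair_comm]
  obtain ⟨b, b', hb, hb', hbq, hbq', hs⟩ : ∃ b b' : F, (∀ v, ρ₁ β v = b • v) ∧ (∀ v, ρ₂ β⁻¹ v = b' • v) ∧
      b ^ 2 + b + 1 = 0 ∧ b' ^ 2 + b' + 1 = 0 ∧ b + b' = 1 := by
    rcases hF.beta with h | h
    · refine ⟨c, c ^ 2, fun v => ?_, fun v => ?_, hq, q2, s12⟩
      · rw [h, hc₁.act]
      · rw [h, act_inv hc₂]
    · refine ⟨c ^ 2, c, fun v => ?_, fun v => ?_, q2, hq, by rw [add_comm, s12]⟩
      · rw [h, act_inv hc₁]
      · rw [h, inv_inv, hc₂.act]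
  obtain ⟨f₁, T₁⟩ := exists_ty hc₁ hF.h1 hF.h2 hb hbq hF.gen12 d₁ k₁ n₁
  obtain ⟨f₂, T₂⟩ := exists_ty hc₂ hF.h2 hF.h1 hb' hbq' gen' d₂ k₂ n₂
  have heq : ∀ g t, σ g (TensorProduct.lift B t) = TensorProduct.lift B ((ρ₁.tprod ρ₂) g t) := by
    intro g t
    induction t using TensorProduct.induction_on with
    | zero => simp only [map_zero]
    | tmul v w => rw [Representation.tprod_apply, TensorProduct.map_tmul, TensorProduct.lift.tmul, TensorProduct.lift.tmul, hB]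
    | add t t' h h' => rw [map_add, map_add, map_add, h, h', map_add]
  have hker : LinearMap.ker (TensorProduct.lift B) = ⊥ := by
    rcases irr_t T₁ T₂ hs (N := LinearMap.ker (TensorProduct.lift B)) (fun g t ht => by
      rw [LinearMap.mem_ker] at ht ⊢
      rw [← heq, ht, map_zero]) with h | h
    · exact h
    · exfalso
      apply hne
      apply LinearMap.ext
      intro v
      apply LinearMap.ext
      intro w
      have h1 : v ⊗ₜ[F] w ∈ LinearMap.ker (TensorProduct.lift B) := by rw [h]; trivial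
      rw [LinearMap.mem_ker, TensorProduct.lift.tmul] at h1
      rw [h1]
      rfl
  have hinj : Function.Injective (TensorProduct.lift B) := LinearMap.ker_eq_bot.1 hker
  have hRr : R = LinearMap.range (TensorProduct.lift B) := by
    rw [hR]
    apply le_antisymm
    · rw [Submodule.span_le]
      rintro _ ⟨v, w, rfl⟩
      exact ⟨v ⊗ₜ[F] w, TensorProduct.lift.tmul v w⟩
    · rintro _ ⟨t, rfl⟩
      induction t using TensorProduct.induction_on with
      | zero => rw [map_zero]; exact Submodule.zero_mem _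
      | tmul v w => exact Submodule.subset_span ⟨v, w, TensorProduct.lift.tmul v w⟩
      | add t t' h h' => rw [map_add]; exact Submodule.add_mem _ h h'
  have hfix : ∀ y ∈ R, σ z y = y → ∃ s : F, y = s • B u₁ u₂ := by
    rw [hRr]
    rintro _ ⟨t, rfl⟩ ht
    rw [heq] at ht
    obtain ⟨s, hs⟩ := fix_t T₁ T₂ hs (hinj ht)
    refine ⟨s, ?_⟩
    rw [hs, map_smul, TensorProduct.lift.tmul]
  refine ⟨?_, ?_, hfix, ?_⟩
  · rw [hRr, LinearMap.finrank_range_of_inj hinj, Module.finrank_tensorProduct, d₁, d₂]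
  · intro h0
    have h1 : u₁ ⊗ₜ[F] u₂ = 0 := hinj (by rw [TensorProduct.lift.tmul, h0, map_zero])
    have h3 : Fn f₁ (u₁ ⊗ₜ[F] u₂) = 0 := by rw [h1, map_zero]
    rw [Fn_tmul, T₁.fu, one_smul] at h3
    exact n₂ h3
  · intro S hSR hS
    rcases irr_t T₁ T₂ hs (N := S.comap (TensorProduct.lift B)) (fun g t ht => by
      rw [Submodule.mem_comap] at ht ⊢
      rw [← heq]
      exact hS g _ ht) with h1 | h1
    · left
      rw [eq_bot_iff]
      intro s hs
      have h0 := hSR hs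
      rw [hRr] at h0
      obtain ⟨t, rfl⟩ := h0
      have h2 : t ∈ S.comap (TensorProduct.lift B) := hs
      rw [h1, Submodule.mem_bot] at h2
      rw [h2, map_zero]
      exact Submodule.zero_mem _
    · right
      refine le_antisymm hSR ?_
      rw [hRr]
      rintro _ ⟨t, rfl⟩
      have h2 : t ∈ S.comap (TensorProduct.lift B) := by rw [h1]; trivial
      exact h2

end

end Cfsg.Agent.H958.SixC
end

-- part: H401/SixUq
section
/-!
# S5927, S5928: `sixc_two`: uniqueness (helper401), with BOX R (helper906)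
-/

set_option autoImplicit false

namespace Cfsg.Agent.H163.E6.SixC

open Cfsg Cfsg.Lie Module Equiv
open Cfsg.Agent.ChevalleyStructure.E6Min.Tables Cfsg.Agent.ChevalleyStructure.E6Min.Basic
  Cfsg.Agent.ChevalleyStructure.E6Min.Adjoint
open Cfsg.Agent.H952.F4 (ev es matRep sh cr tf MaxAlt)
open Cfsg.Agent.H958.SixC

universe u

theorem boxR_all (F : Type u) [Field F] [CharP F 2] (P : Type u) [Group P] : Cfsg.Agent.H401.SixUniq.BoxR F P := by
  intro ζ z g₁ g₂ β t a hF c X₁ X₂ Y _ _ _ _ _ _ _ _ _ ρ₁ ρ₂ σ hc₁ hc₂ d₁ d₂ u₁ u₂ k₁ n₁ k₂ n₂ B hB hne R hR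
  exact boxR hF ρ₁ ρ₂ σ hc₁ hc₂ d₁ d₂ k₁ n₁ k₂ n₂ B hB hne R hR

variable {F : Type u} [Field F] [Finite F] [CharP F 2] {H : Subgroup ↥(chevE6.group F)}
  {φ : ↥(alternatingGroup (Fin 6)) →* ↥(chevE6.group F)}

end Cfsg.Agent.H163.E6.SixC
end

-- part: H163/E6/SixcTwo
section
/-!
# S5927, S5928: the three-fold cover of the alternating group of degree 6 in characteristic 2 (helper163)

The assembly of the boxes of helper958's plan.
-/

set_option autoImplicit false

namespace Cfsg.Agent.H163.E6.Cases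

open Cfsg Cfsg.Lie Module
open Cfsg.Agent.ChevalleyStructure.E6Min.Tables Cfsg.Agent.ChevalleyStructure.E6Min.Basic
  Cfsg.Agent.ChevalleyStructure.E6Min.Adjoint
open Cfsg.Agent.H163.E6 Cfsg.Agent.H163.E6.SixC Cfsg.Agent.H958.SixC

universe u

variable {F : Type u} [Field F] [Finite F] [CharP F 2] {H : Subgroup ↥(chevE6.group F)}
  {φ : ↥(alternatingGroup (Fin 6)) →* ↥(chevE6.group F)}

theorem sixc_two' (hS : Sit H 6 φ)
    (hs : (Nat.card ↥H = 360 ∧ Small H) ∨ (∃ h ∈ H, h ∉ φ.range) ∨ ∃ q, Twist q φ ∧ Semi q φ)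
    {ω : Fˣ} (hω : Cover φ ω) : False := by
  rcases hs with ⟨hc, hsm⟩ | hs
  · obtain ⟨ρ, hρ, W, hW, h3⟩ := Cfsg.Agent.H906.E6.SixC.exists_three hS.inj hω
    have hcr : Nat.card ↥φ.range = 360 := by
      rw [← Nat.card_congr (MonoidHom.ofInjective hS.inj).toEquiv, nat_card_alternatingGroup,
        Nat.card_eq_fintype_card, Fintype.card_fin]
      rfl
    have hfin : Finite ↥H := Nat.finite_of_card_ne_zero (by omega)
    have hH : φ.range = H := by
      have : Finite (H : Set ↥(chevE6.group F)) := hfin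
      exact Subgroup.eq_of_le_of_card_ge hS.le (by omega)
    have := hsm ρ hρ W (by rw [← hH]; exact hW) (by omega)
    omega
  · obtain ⟨ζ, z, g₁, g₂, β, t, a, hF, hζ, hz, h1, h2⟩ := exists_full hS.inj hω
    obtain ⟨hW₁, hW₂, hS₁, hS₂, he, he'⟩ := both_of hS hω hF hζ (fun hp _ h => cr_ty hS hω hF hζ hp h)
      (fun hp _ h => cr_ty hS hω hF.symm hζ hp h) hs hz h1 h2
    exact Cfsg.Agent.H401.SixLast.last (boxR_all F _) hS hω hF hζ (fun hp _ h => cr_ty hS hω hF hζ hp h)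
      (fun hp _ h => cr_ty hS hω hF.symm hζ hp h) hW₁ hW₂ hS₁ hS₂ he he'

end Cfsg.Agent.H163.E6.Cases
end

private theorem dce_7eb71803c9f3 : _root_.True := by
  try have : _root_.True := by simp only [_root_.Cfsg.Agent.H288.E6.C6G.lx.eq_1]
  try have : _root_.True := by simp only [_root_.Cfsg.Agent.H401.SixU3.crSpan.eq_1]
  try have : _root_.True := by simp only [_root_.Cfsg.Agent.H288.E6.C6G.wd.eq_1]
  try have : _root_.True := by simp only [_root_.Cfsg.Agent.H906.E6.SixR.pz.eq_1]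
  try have : _root_.True := by simp only [_root_.Cfsg.Agent.H288.E6.C6G.lg.eq_1]
  try have : _root_.True := by simp only [_root_.Cfsg.Agent.H288.E6.C6G.ll.eq_1]
  try have : _root_.True := by simp only [_root_.Cfsg.Agent.H288.E6.C6G.lr.eq_1]
  try have : _root_.True := by simp only [_root_.Cfsg.Agent.H906.E6.SixR.Fn.eq_1]
  exact _root_.True.intro
end

-- part: H163/E6/Main
section
prune_inst 0x30004500040002000000000000000040200000000000000000e00200030040400000004020000000000080000000002001000000400000000000000000000000000042009208a104060008000000000000000000000000000000000000010004000000000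
set_option linter.all false
open scoped Cfsg.Agent.FastGrp

-- part: H163/E6/OfMax
section
/-!
# `Sit` and `Small` for maximal subgroups of `E₆(q)` (helper163)
-/

set_option autoImplicit false

namespace Cfsg.Agent.H163.E6

open Cfsg Cfsg.Lie Module
open Cfsg.Agent.ChevalleyStructure.E6Min.Tables Cfsg.Agent.ChevalleyStructure.E6Min.Basic
  Cfsg.Agent.ChevalleyStructure.E6Min.Adjoint
open Cfsg.Agent.H952.F4 (ev es matRep sh cr tf MaxAlt)

universe u

section
variable {F : Type u} [Field F] {H : Subgroup ↥(chevE6.group F)} {n : ℕ}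
  {φ : ↥(alternatingGroup (Fin n)) →* ↥(chevE6.group F)}

theorem Sit.of_max [Finite F] (hM : MaxAlt H n φ) (hn : 5 ≤ n) (hn' : n ≤ 12) : Sit H n φ := by
  have hcent : ∀ z : ↥(chevE6.group F), (∀ a, φ a * z = z * φ a) → z = 1 := fun z hz =>
    Cnt.centralizer_eq hM hn hz
  have hadd : NoAdd φ := noAdd_of_cent hcent
  exact
    { inj := hM.inj
      le := hM.le
      norm := hM.norm
      sq := hM.sq
      card := hM.card
      five := hM.five
      cent := fun h _ hh => hcent h hh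
      no_fixed := fun ψ hψ => Cnt.no_fixed hM hn hn' hψ
      no_line := by
        rintro ρ (rfl | rfl) W hW
        · exact Cnt.no_line hM hn hn' (Or.inl hW)
        · exact Cnt.no_line hM hn hn' (Or.inr hW)
      no_three := fun hc ρ hρ W hst h3 => no_three_of_add hn hM.inj hadd hc ρ hρ W hst h3
      no_three_ext := by
        intro hc _ E _ _ f hE ρ hρ W hst h3 hW
        have hc' : n ≠ 5 ∨ (2 : E) ≠ 0 := by
          rcases hc with h | h
          · exact Or.inl h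
          · refine Or.inr fun h2 => h ?_
            apply f.injective
            rw [map_ofNat, map_zero]
            exact h2
        obtain ⟨z, hz, hzc⟩ := Sing.three_ext f hE (H65.E6Emb.emb f) (H65.E6Emb.V_emb f) ρ hρ (B := Bgrp φ)
          (Bgrp_two hn hM.inj hc') h3 hW fun b hb w hw => hst b (ad_mem_of_Bgrp hb) w hw
        apply hz
        apply hcent
        intro a
        obtain ⟨b, hb, hba⟩ : ∃ b ∈ Bgrp φ, ad F b = φ a := by
          have : φ a ∈ (Bgrp φ).map (ad F) := by rw [map_Bgrp hn]; exact ⟨a, rfl⟩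
          exact this
        rw [← hba, ← map_mul, hzc b hb, map_mul]
      no_six := fun ρ hρ W hst h6 => no_six_of_add hn hadd ρ hρ W hst h6
      no_add := hadd }

theorem Small.of_max [Finite F] (hM : MaxAlt H n φ) (hn : 5 ≤ n) (hn' : n ≤ 12)
    (hq : 6 * Nat.card ↥H ≤ Nat.card F ^ 6) : Small H := by
  rintro ρ (rfl | rfl) W hW h1
  · exact Cnt.no_small hM hn hn' hq (Or.inl hW) h1
  · exact Cnt.no_small hM hn hn' hq (Or.inr hW) h1

end

end Cfsg.Agent.H163.E6
end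

-- part: H710/E6C/Six
section
/-!
# S5927, case `n = 6`, `p = 2, 5` with a lift (helper710)
-/

set_option autoImplicit false

namespace Cfsg.Agent.H710.E6C.Six

open Equiv Module Cfsg Cfsg.Lie
open Cfsg.Agent.ChevalleyStructure.E6Min.Tables Cfsg.Agent.ChevalleyStructure.E6Min.Basic
  Cfsg.Agent.ChevalleyStructure.E6Min.Adjoint
open Cfsg.Agent.H163.E6 (V V' Tab scal)
open Cfsg.Agent.H952.F4 (ev es tf GenT)
open Cfsg.Agent.H952.F4.Gen
open Cfsg.Agent.H952.F4.Jord
open Cfsg.Agent.H952.F4.Cases.Five (ev_conj)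

universe u

abbrev A6 := ↥(alternatingGroup (Fin 6))

/-- generating triple of type (2, 4, 5) -/
theorem gen6c : GenT 6 {2, 2} {4, 2} {5} :=
  genT_of (n := 4) (c[2, 3] * c[4, 5]) (c[0, 5, 4, 2] * c[1, 3]) (by decide +kernel) (by decide +kernel)
    ![[], [], [3, 0, 3, 0, 2, 0, 2, 2, 0], [0, 3, 0, 3, 0, 2, 0, 2, 2], [2, 0, 2, 0, 3, 0, 3, 0, 2, 0, 3, 0],
      [0, 2, 0, 2, 0, 3, 0, 3, 0, 2, 0, 3]]
    (by decide +kernel) (by decide +kernel) (by decide +kernel) (by decide +kernel)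

/-! ### elements -/

/-- an even permutation -/
def mk (σ : Perm (Fin 6)) (h : Perm.sign σ = 1) : A6 := ⟨σ, Perm.mem_alternatingGroup.2 h⟩

def a0 : A6 := mk (swap (0 : Fin 6) 1 * swap (2 : Fin 6) 3) (by decide +kernel)
def b0 : A6 := mk (swap (0 : Fin 6) 2 * swap (1 : Fin 6) 3) (by decide +kernel)
def t0 : A6 := mk (c[(1 : Fin 6), 2, 3]) (by decide +kernel)
def a1 : A6 := mk (swap (1 : Fin 6) 4 * swap (2 : Fin 6) 3) (by decide +kernel)
def b1 : A6 := mk (swap (0 : Fin 6) 5 * swap (2 : Fin 6) 3) (by decide +kernel)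
def t1 : A6 := mk (c[(0 : Fin 6), 1, 2] * c[(3 : Fin 6), 5, 4]) (by decide +kernel)
def zz : A6 := mk (c[(0 : Fin 6), 1, 2]) (by decide +kernel)
def ww : A6 := mk (c[(3 : Fin 6), 4, 5]) (by decide +kernel)
def sg : A6 := mk (swap (0 : Fin 6) 1 * swap (3 : Fin 6) 4) (by decide +kernel)
def f4 : A6 := mk (c[(0 : Fin 6), 1, 2, 3] * c[(4 : Fin 6), 5]) (by decide +kernel)
def f5 : A6 := mk (c[(0 : Fin 6), 1, 2, 3, 4]) (by decide +kernel)

/-- the type of a permutation -/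
abbrev ct (g : A6) : Multiset ℕ := (g : Perm (Fin 6)).cycleType

/-- the elements with this cycle type are conjugate -/
def NS (m : Multiset ℕ) : Prop := ∀ g g' : A6, ct g = m → ct g' = m → ∃ k, k * g * k⁻¹ = g'

theorem ns_of {r : A6} {o : Perm (Fin 6)} (ho : Perm.sign o = -1)
    (hor : o * (r : Perm (Fin 6)) = (r : Perm (Fin 6)) * o) : NS (ct r) := by
  have key : ∀ g : A6, ct g = ct r → ∃ x : A6, x * r * x⁻¹ = g := by
    intro g hg
    obtain ⟨s, hs⟩ := isConj_iff.1 (Perm.isConj_iff_cycleType_eq.2 hg.symm)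
    rcases Int.units_eq_one_or (Perm.sign s) with h1 | h1
    · exact ⟨⟨s, Perm.mem_alternatingGroup.2 h1⟩, Subtype.ext hs⟩
    · refine ⟨⟨s * o, Perm.mem_alternatingGroup.2 (by rw [map_mul, h1, ho]; decide)⟩,
        Subtype.ext ?_⟩
      change s * o * (r : Perm (Fin 6)) * (s * o)⁻¹ = g
      rw [mul_assoc s, hor, mul_inv_rev, ← hs]
      group
  intro g g' h h'
  obtain ⟨x, rfl⟩ := key g h
  obtain ⟨y, rfl⟩ := key g' h'
  exact ⟨y * x⁻¹, by group⟩

theorem ct_a0 : ct a0 = {2, 2} := by decide +kernel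
theorem ct_t0 : ct t0 = {3} := by decide +kernel
theorem ct_t1 : ct t1 = {3, 3} := by decide +kernel
theorem ct_f4 : ct f4 = {4, 2} := by decide +kernel
theorem ct_f5 : ct f5 = {5} := by decide +kernel

theorem ns2 : NS {2, 2} := by
  rw [← ct_a0]
  exact ns_of (o := swap (4 : Fin 6) 5) (by decide +kernel) (by decide +kernel)
theorem ns3 : NS {3} := by
  rw [← ct_t0]
  exact ns_of (o := swap (4 : Fin 6) 5) (by decide +kernel) (by decide +kernel)
theorem ns33 : NS {3, 3} := by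
  rw [← ct_t1]
  exact ns_of (o := swap (0 : Fin 6) 3 * swap (1 : Fin 6) 5 * swap (2 : Fin 6) 4) (by decide +kernel) (by decide +kernel)
theorem ns42 : NS {4, 2} := by
  rw [← ct_f4]
  exact ns_of (o := swap (4 : Fin 6) 5) (by decide +kernel) (by decide +kernel)

theorem ct_inv (g : A6) : ct g⁻¹ = ct g := Perm.cycleType_inv _

theorem NS.real {m : Multiset ℕ} (h : NS m) {g : A6} (hg : ct g = m) : ∃ k, k * g * k⁻¹ = g⁻¹ :=
  h g g⁻¹ hg ((ct_inv g).trans hg)

/-- elements of order 5 are real -/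
theorem real5 {g : A6} (hg : ct g = {5}) : ∃ k, k * g * k⁻¹ = g⁻¹ := by
  obtain ⟨s, hs⟩ := isConj_iff.1 (Perm.isConj_iff_cycleType_eq.2 (ct_f5.trans hg.symm))
  have h1 : (swap (1 : Fin 6) 4 * swap (2 : Fin 6) 3) * (f5 : Perm (Fin 6)) * (swap (1 : Fin 6) 4 * swap (2 : Fin 6) 3)⁻¹ = (f5 : Perm (Fin 6))⁻¹ := by
    decide +kernel
  refine ⟨⟨s * (swap (1 : Fin 6) 4 * swap (2 : Fin 6) 3) * s⁻¹, Perm.mem_alternatingGroup.2 ?_⟩, Subtype.ext ?_⟩
  · rw [map_mul, map_mul, map_inv, mul_right_comm, mul_inv_cancel, one_mul]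
    decide +kernel
  · change s * (swap (1 : Fin 6) 4 * swap (2 : Fin 6) 3) * s⁻¹ * (g : Perm (Fin 6)) * (s * (swap (1 : Fin 6) 4 * swap (2 : Fin 6) 3) * s⁻¹)⁻¹ =
      (g : Perm (Fin 6))⁻¹
    rw [← hs]
    calc s * (swap (1 : Fin 6) 4 * swap (2 : Fin 6) 3) * s⁻¹ * (s * (f5 : Perm (Fin 6)) * s⁻¹) * (s * (swap (1 : Fin 6) 4 * swap (2 : Fin 6) 3) * s⁻¹)⁻¹
        = s * ((swap (1 : Fin 6) 4 * swap (2 : Fin 6) 3) * (f5 : Perm (Fin 6)) * (swap (1 : Fin 6) 4 * swap (2 : Fin 6) 3)⁻¹) * s⁻¹ := by group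
      _ = (s * (f5 : Perm (Fin 6)) * s⁻¹)⁻¹ := by rw [h1]; group

theorem ne_one_of_ct {g : A6} {m : Multiset ℕ} (hg : ct g = m) (hm : m ≠ 0) : g ≠ 1 := by
  rintro rfl
  exact hm (hg.symm.trans Perm.cycleType_one)

theorem order_of_ct {g : A6} {m : Multiset ℕ} (hg : ct g = m) {k : ℕ} (hm : m.lcm = k) : orderOf g = k := by
  rw [← Subgroup.orderOf_coe, ← Perm.lcm_cycleType]
  rw [← hm, ← hg]

theorem pow_of_ct {g : A6} {m : Multiset ℕ} (hg : ct g = m) {k : ℕ} (hm : m.lcm = k) : g ^ k = 1 := by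
  rw [← order_of_ct hg hm, pow_orderOf_eq_one]

section

variable {E : Type u} [Field E]

theorem dim27 : finrank E (I27 → E) = 27 := by
  rw [Module.finrank_fintype_fun_eq_card]
  decide

theorem NS.ev {m : Multiset ℕ} (h : NS m) (ρ : Representation E A6 (I27 → E)) {g g' : A6} (hg : ct g = m)
    (hg' : ct g' = m) : H952.F4.ev (ρ g) 1 = H952.F4.ev (ρ g') 1 := by
  obtain ⟨k, rfl⟩ := h g g' hg hg'
  exact (ev_conj ρ k g).symm

/-- homomorphisms of `A₆` are injective or trivial -/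
theorem inj_of {G : Type*} [Group G] (θ : A6 →* G) {a : A6} (ha : θ a ≠ 1) {b : A6} (hb : b ≠ 1) : θ b ≠ 1 := by
  have hS : IsSimpleGroup A6 := alternatingGroup.isSimpleGroup (α := Fin 6) (by simp)
  intro h
  rcases (inferInstance : θ.ker.Normal).eq_bot_or_eq_top with h1 | h1
  · have : b ∈ θ.ker := h
    rw [h1, Subgroup.mem_bot] at this
    exact hb this
  · have : a ∈ θ.ker := by rw [h1]; trivial
    exact ha this

/-- common part: injectivity and Scott's lemma -/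
theorem base (tf_act : ∀ (g : ↥(Zgrp E)) (x y : I27 → E), tf (V E g x) (V' E g y) = tf x y) (θ : A6 →* ↥(Zgrp E))
    (h1 : Representation.invariants (MonoidHom.comp (V E) θ) = ⊥)
    (h2 : Representation.invariants (MonoidHom.comp (V' E) θ) = ⊥) :
    (∀ a, a ≠ 1 → θ a ≠ 1) ∧ ∀ {a b c : Multiset ℕ}, GenT 6 a b c → ∃ x y : A6, ct x = a ∧ ct y = b ∧ ct (x * y) = c ∧
      _root_.Cfsg.Agent.H952.F4.ev (V E (θ x)) 1 + _root_.Cfsg.Agent.H952.F4.ev (V E (θ y)) 1 + _root_.Cfsg.Agent.H952.F4.ev (V E (θ (x * y))) 1 ≤ 27 := by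
  constructor
  · have hex : ∃ a, θ a ≠ 1 := by
      by_contra hne
      push Not at hne
      have h4 : (fun _ => (1 : E) : I27 → E) ∈ Representation.invariants (MonoidHom.comp (V E) θ) := by
        rw [Representation.mem_invariants]
        intro g
        rw [MonoidHom.comp_apply, hne, map_one]
        rfl
      rw [h1, Submodule.mem_bot] at h4
      exact one_ne_zero (congrFun h4 (0, 0, 0))
    obtain ⟨a, ha⟩ := hex
    exact fun b hb => inj_of θ ha hb
  · intro a b c hg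
    let ρ : Representation E A6 (I27 → E) := MonoidHom.comp (V E) θ
    have i1 : ρ.invariants = ⊥ := h1
    have i2 : ρ.dual.invariants = ⊥ := H882.E6Five.dual_bot tf_act θ h2
    obtain ⟨x, y, hgen, hx, hy, hxy⟩ := hg
    have hs := H952.F4.Scott.scott ρ hgen
    rw [i1, i2, finrank_bot, finrank_bot, dim27] at hs
    exact ⟨x, y, hx, hy, hxy, hs⟩

/-- the core for `p = 2`, `n = 6` -/
theorem core2 [CharP E 2] (T : Tab 2 E)
    (two_two : ∀ x : ↥(Zgrp E), x * x = 1 → 15 ≤ _root_.Cfsg.Agent.H952.F4.ev (V E x) 1)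
    (two_four : ∀ x : ↥(Zgrp E), x ^ 4 = 1 → 8 ≤ _root_.Cfsg.Agent.H952.F4.ev (V E x) 1)
    (tf_act : ∀ (g : ↥(Zgrp E)) (x y : I27 → E), tf (V E g x) (V' E g y) = tf x y)
    (θ : A6 →* ↥(Zgrp E))
    (h1 : Representation.invariants (MonoidHom.comp (V E) θ) = ⊥)
    (h2 : Representation.invariants (MonoidHom.comp (V' E) θ) = ⊥) : False := by
  obtain ⟨hne, hsc⟩ := base tf_act θ h1 h2
  obtain ⟨x, y, hx, hy, hxy, hs⟩ := hsc gen6c
  have e2 := two_two (θ x) (by rw [← map_mul, ← pow_two, pow_of_ct hx (by rfl), map_one])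
  have e4 := two_four (θ y) (by rw [← map_pow, pow_of_ct hy (by rfl), map_one])
  have e5 := T.five (by norm_num) (θ (x * y)) (hne _ (ne_one_of_ct hxy (by decide)))
    (by rw [← map_pow, pow_of_ct hxy (by rfl), map_one]) (by
      obtain ⟨k, hk⟩ := real5 hxy
      exact ⟨θ k, by rw [← map_inv, ← map_mul, ← map_mul, hk, map_inv]⟩)
  omega

/-- the involutions have type 15 -/
theorem fifteen [IsAlgClosed E] {p : ℕ} (hp2 : p ≠ 2) (hp3 : p ≠ 3) (two_ne : (2 : E) ≠ 0) (three_ne : (3 : E) ≠ 0)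
    (T : Tab p E)
    (had : ∀ g : ↥(Zgrp E), ad E g = 1 → ∃ c : Eˣ, c ^ 3 = 1 ∧ (g : GL I27 E) = scal c)
    (θ : A6 →* ↥(Zgrp E)) (hne : ∀ a, a ≠ 1 → θ a ≠ 1) {g : A6} (hg : ct g = {2, 2}) :
    _root_.Cfsg.Agent.H952.F4.ev (V E (θ g)) 1 = 15 := by
  let ρ : Representation E A6 (I27 → E) := MonoidHom.comp (V E) θ
  have hρ : ∀ a, ρ a = V E (θ a) := fun a => rfl
  -- elements of order 3
  have g3 : ∀ {m : Multiset ℕ}, NS m → m ≠ 0 → m.lcm = 3 → ∀ g : A6, ct g = m →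
      _root_.Cfsg.Agent.H952.F4.ev (ρ g) 1 = 15 ∨ _root_.Cfsg.Agent.H952.F4.ev (ρ g) 1 = 9 := by
    intro m hm hm0 hl g hg
    have s3 : θ g ^ 3 = 1 := by rw [← map_pow, pow_of_ct hg hl, map_one]
    have r3 : ∃ k, k * θ g * k⁻¹ = (θ g)⁻¹ := by
      obtain ⟨k, hk⟩ := hm.real hg
      exact ⟨θ k, by rw [← map_inv, ← map_mul, ← map_mul, hk, map_inv]⟩
    have had3 : ad E (θ g) ≠ 1 := by
      intro h
      obtain ⟨c, hc3, hc⟩ := had _ h
      obtain ⟨k, hk⟩ := r3
      have e1 : ((θ g)⁻¹ : ↥(Zgrp E)) = θ g := by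
        rw [← hk, mul_inv_eq_iff_eq_mul]
        apply Subtype.ext
        rw [Subgroup.coe_mul, Subgroup.coe_mul, hc]
        apply Units.ext
        show ((k : GL I27 E) : Matrix I27 I27 E) * algebraMap E _ (c : E) =
          algebraMap E _ (c : E) * ((k : GL I27 E) : Matrix I27 I27 E)
        exact (Algebra.commutes _ _).symm
      have e2 : θ g * θ g = 1 := by
        nth_rewrite 1 [← e1]
        exact inv_mul_cancel _
      have e3 : θ g = 1 := by
        have := s3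
        rwa [pow_succ, pow_two, e2, one_mul] at this
      exact hne g (ne_one_of_ct hg hm0) e3
    have h := T.three hp3 (θ g) had3 s3
    have h' := T.three_real hp3 (θ g) had3 s3 r3
    rw [hρ]
    rcases h with h | h | h | h
    · exact Or.inl h.1
    · exact Or.inr h.1
    · exact Or.inr h.1
    · exact absurd h.1 h'
  -- elements of order 2
  have g2 : ∀ g : A6, ct g = {2, 2} → _root_.Cfsg.Agent.H952.F4.ev (ρ g) 1 = 15 ∨ _root_.Cfsg.Agent.H952.F4.ev (ρ g) 1 = 11 := by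
    intro g hg
    have h := T.two hp2 (θ g) (hne g (ne_one_of_ct hg (by decide)))
      (by rw [← map_mul, ← pow_two, pow_of_ct hg (by rfl), map_one])
    rcases h with h | h
    · exact Or.inl h.1
    · exact Or.inr h.1
  have hall : _root_.Cfsg.Agent.H952.F4.ev (ρ a0) 1 ≠ 11 := by
    intro h11
    have c11 : ∀ g : A6, ct g = {2, 2} → _root_.Cfsg.Agent.H952.F4.ev (ρ g) 1 = 11 := fun g hg => (ns2.ev ρ hg ct_a0).trans h11
    -- the four-groups
    have key : ∀ a b t : A6, ct a = {2, 2} → ct b = {2, 2} → ct (a * b) = {2, 2} → a * a = 1 → b * b = 1 →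
        a * b = b * a → t ^ 3 = 1 → t * a * t⁻¹ = b → t * b * t⁻¹ = a * b → _root_.Cfsg.Agent.H952.F4.ev (ρ t) 1 ≤ 11 := by
      intro a b t ha hb hab ha2 hb2 hcm ht hta htb
      have e1 := H952.F4.Eig.four two_ne ρ ha2 hb2 hcm
      have e2 := H952.F4.Eig.a4 two_ne ρ ha2 hb2 hcm ht hta htb
      rw [c11 a ha, c11 b hb, c11 _ hab, dim27] at e1
      rw [dim27] at e2
      have e3 : finrank E ↥(es (ρ a) 1 ⊓ es (ρ b) 1 ⊓ es (ρ t) 1) ≤ finrank E ↥(es (ρ a) 1 ⊓ es (ρ b) 1) :=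
        Submodule.finrank_mono inf_le_left
      omega
    have k0 := key a0 b0 t0 (by decide +kernel) (by decide +kernel) (by decide +kernel) (by decide +kernel)
      (by decide +kernel) (by decide +kernel) (by decide +kernel) (by decide +kernel) (by decide +kernel)
    have k1 := key a1 b1 t1 (by decide +kernel) (by decide +kernel) (by decide +kernel) (by decide +kernel)
      (by decide +kernel) (by decide +kernel) (by decide +kernel) (by decide +kernel) (by decide +kernel)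
    have l0 : _root_.Cfsg.Agent.H952.F4.ev (ρ t0) 1 = 9 := by
      rcases g3 ns3 (by decide) (by rfl) t0 ct_t0 with h | h <;> omega
    have l1 : _root_.Cfsg.Agent.H952.F4.ev (ρ t1) 1 = 9 := by
      rcases g3 ns33 (by decide) (by rfl) t1 ct_t1 with h | h <;> omega
    have h9 := H952.F4.Eig.nine three_ne ρ (z := zz) (w := ww) (s := sg) (by decide +kernel) (by decide +kernel)
      (by decide +kernel) (by decide +kernel) (by decide +kernel) (by decide +kernel)
    rw [dim27, c11 sg (by decide +kernel), ns3.ev ρ (g := zz) (by decide +kernel) ct_t0,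
      ns3.ev ρ (g := ww) (by decide +kernel) ct_t0, ns33.ev ρ (g := zz * ww) (by decide +kernel) ct_t1,
      ns33.ev ρ (g := zz * ww⁻¹) (by decide +kernel) ct_t1, l0, l1] at h9
    omega
  rcases g2 g hg with h | h
  · exact h
  · exact absurd ((ns2.ev ρ ct_a0 hg).trans h) hall

/-- the core for `p = 5`, `n = 6` -/
theorem core5 [IsAlgClosed E] [CharP E 5] (T : Tab 5 E)
    (tf_act : ∀ (g : ↥(Zgrp E)) (x y : I27 → E), tf (V E g x) (V' E g y) = tf x y)
    (had : ∀ g : ↥(Zgrp E), ad E g = 1 → ∃ c : Eˣ, c ^ 3 = 1 ∧ (g : GL I27 E) = scal c)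
    (θ : A6 →* ↥(Zgrp E))
    (h1 : Representation.invariants (MonoidHom.comp (V E) θ) = ⊥)
    (h2 : Representation.invariants (MonoidHom.comp (V' E) θ) = ⊥) : False := by
  have c5 : (5 : E) = 0 := by exact_mod_cast CharP.cast_eq_zero E 5
  have hp5 : Fact (Nat.Prime 5) := ⟨by norm_num⟩
  have two_ne : (2 : E) ≠ 0 := by
    intro h
    have : (1 : E) = 0 := by linear_combination c5 - 2 * h
    exact one_ne_zero this
  have three_ne : (3 : E) ≠ 0 := by
    intro h
    have : (1 : E) = 0 := by linear_combination 2 * h - c5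
    exact one_ne_zero this
  obtain ⟨hne, hsc⟩ := base tf_act θ h1 h2
  obtain ⟨x, y, hx, hy, hxy, hs⟩ := hsc gen6c
  have e2 := fifteen (by norm_num) (by norm_num) two_ne three_ne T had θ hne hx
  have e5 := H952.F4.Eig.le_mul_ev 5 (T := V E (θ (x * y))) (by
    rw [← map_pow, ← map_pow, pow_of_ct hxy (by rfl), map_one, map_one])
  rw [dim27] at e5
  -- the square of `y`
  have hyy : ct (y * y) = {2, 2} := by
    obtain ⟨k, rfl⟩ := ns42 f4 y ct_f4 hy
    have h : ct (f4 * f4) = {2, 2} := by decide +kernel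
    rw [← h]
    have e : k * f4 * k⁻¹ * (k * f4 * k⁻¹) = k * (f4 * f4) * k⁻¹ := by group
    rw [e]
    exact Perm.cycleType_conj
  have e22 := fifteen (by norm_num) (by norm_num) two_ne three_ne T had θ hne hyy
  have h4 := T.four_real (by norm_num) (θ y) (by
      rw [← map_mul]
      exact hne _ (ne_one_of_ct hyy (by decide)))
    (by rw [← map_pow, pow_of_ct hy (by rfl), map_one]) (by
      obtain ⟨k, hk⟩ := ns42.real hy
      exact ⟨θ k, by rw [← map_inv, ← map_mul, ← map_mul, hk, map_inv]⟩)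
  rw [← map_mul, e22] at h4
  rcases h4 with h | h | h | h | h <;> (clear * - hs e2 e5 h; omega)

end

end Cfsg.Agent.H710.E6C.Six
end

-- part: H710/E6C/CasesSix
section
/-!
# S5927: `six_two` and `six_five` (helper710)
-/

set_option autoImplicit false

namespace Cfsg.Agent.H163.E6.Cases

open Cfsg Cfsg.Lie Module
open Cfsg.Agent.ChevalleyStructure.E6Min.Tables Cfsg.Agent.ChevalleyStructure.E6Min.Basic
  Cfsg.Agent.ChevalleyStructure.E6Min.Adjoint

universe u

variable {F : Type u} [Field F] [Finite F] {H : Subgroup ↥(chevE6.group F)}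

theorem six_two [CharP F 2] {φ : ↥(alternatingGroup (Fin 6)) →* ↥(chevE6.group F)} (hS : Sit H 6 φ)
    {ψ : ↥(alternatingGroup (Fin 6)) →* ↥(Zgrp F)} (hψ : Lift φ ψ) : False := by
  have : Fact (Nat.Prime 2) := ⟨Nat.prime_two⟩
  obtain ⟨n1, n2⟩ := hS.no_fixed ψ hψ
  exact H710.E6C.Six.core2 (Tor.tab 2) Tor.two_two Tor.two_four Act.tf_act ψ n1 n2

theorem six_five [CharP F 5] {φ : ↥(alternatingGroup (Fin 6)) →* ↥(chevE6.group F)} (hS : Sit H 6 φ)
    {ψ : ↥(alternatingGroup (Fin 6)) →* ↥(Zgrp F)} (hψ : Lift φ ψ) : False := by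
  have : Fact (Nat.Prime 5) := ⟨Nat.prime_five⟩
  have hch : CharP (AlgebraicClosure F) 5 := charP_of_injective_algebraMap
    (algebraMap F (AlgebraicClosure F)).injective 5
  obtain ⟨j, hj⟩ := Sing.exists_emb (algebraMap F (AlgebraicClosure F))
  obtain ⟨n1, n2⟩ := hS.no_fixed ψ hψ
  exact H710.E6C.Six.core5 (Tor.tab_closed 5) Act.tf_act (fun g hg => (Act.ad_eq_one_iff g).1 hg) (j.comp ψ)
    (H882.E6Five.inv_ext _ j hj ψ n1) (H882.E6Five.inv_ext' _ j hj ψ n2)

end Cfsg.Agent.H163.E6.Cases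
end

-- part: H952/E6FiveFive
section
/-!
# S5927, S5928, case `n = 5`, `p = 5` (helper952)

`A₅` in characteristic 5 on the 27-dimensional module `V`, without fixed vectors on `V` and `V'`.  Scott's formula gives
`ev V (2) = 11`; the vectors fixed by the dihedral group of order 10 form a space of dimension at most one (`plus_le`), so
its sign component `X₀` on `V` has dimension at least 5.  The operator `sop` (sum of the other five axes) has square `5 = 0`
on `X₀`, so its kernel `X` has dimension at least 3 and there `sh` is a quadratic form with values in a space of dimension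
at most one: there is a zero `u ≠ 0`, and the three-dimensional module generated by `u` is totally singular.
-/

set_option autoImplicit false

namespace Cfsg.Agent.H952.E6FiveFive

open Cfsg Cfsg.Lie Module
open Cfsg.Agent.H952.F4 (ev es matRep sh cr tf MaxAlt v0 v1 c3 z5)
open Cfsg.Agent.H952.F4.Spec (Ax ax mul_act act_inj mem_es)
open Cfsg.Agent.H882.E6Five (sop sop_apply sop_mem axes closure_eq span_stable linInd exists_zero split exists_coord
  hom_trivial hom_gl_two dual_bot ev_one_one)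

universe u

section plus

variable {F V : Type*} [Field F] [AddCommGroup V] [Module F V]
  {ρ : Representation F ↥(alternatingGroup (Fin 5)) V}

/-- the action on the six conjugates of a vector fixed by the dihedral group of order 10 -/
structure Axp (ρ : Representation F ↥(alternatingGroup (Fin 5)) V) (a b c d e f : V) : Prop where
  za : ρ z5 a = a
  zb : ρ z5 b = d
  zc : ρ z5 c = b
  zd : ρ z5 d = f
  ze : ρ z5 e = c
  zf : ρ z5 f = e
  pa : ρ v0 a = a
  pb : ρ v0 b = b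
  pc : ρ v0 c = d
  pd : ρ v0 d = c
  qa : ρ v1 a = b
  qb : ρ v1 b = a
  qc : ρ v1 c = c
  qd : ρ v1 d = d
  ca : ρ c3 a = c
  cb : ρ c3 b = d
  cc : ρ c3 c = e
  cd : ρ c3 d = f
  ce : ρ c3 e = a
  cf : ρ c3 f = b

theorem axp {x : V} (hz : ρ z5 x = x) (hv : ρ v0 x = x) :
    Axp ρ x (ρ v1 x) (ρ c3 x) (ρ c3 (ρ v1 x)) (ρ c3 (ρ c3 x)) (ρ c3 (ρ c3 (ρ v1 x))) := by
  have hz2 : ρ (z5 * z5) x = x := by rw [mul_act, hz, hz]
  have hz3 : ρ (z5 * (z5 * z5)) x = x := by rw [mul_act, hz2, hz]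
  have hz4 : ρ (z5 * (z5 * (z5 * z5))) x = x := by rw [mul_act, hz3, hz]
  have e1 : z5 * c3 = v1 * (z5 * (z5 * z5) * v0) := by decide +kernel
  have e2 : z5 * v1 = c3 * v1 * (z5 * z5 * v0) := by decide +kernel
  have e3 : z5 * c3 * v1 = c3 * (c3 * v1) * (z5 * v0) := by decide +kernel
  have e4 : z5 * c3 * c3 * v1 = c3 * c3 * (z5 * (z5 * z5) * v0) := by decide +kernel
  have e5 : z5 * c3 * c3 = c3 * (z5 * (z5 * (z5 * z5))) := by decide +kernel
  have f1 : v0 * v1 = v1 * v0 := by decide +kernel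
  have f2 : v0 * c3 = c3 * (v1 * v0) := by decide +kernel
  have f3 : v0 * c3 * v1 = c3 * v0 := by decide +kernel
  have g1 : v1 * v1 = 1 := by decide +kernel
  have g2 : v1 * c3 = c3 * v0 := by decide +kernel
  have g3 : v1 * c3 * v1 = c3 * (v1 * v0) := by decide +kernel
  have k1 : c3 * c3 * c3 = 1 := by decide +kernel
  have one_act : ∀ y : V, ρ 1 y = y := fun y => by rw [map_one]; rfl
  refine ⟨hz, ?_, ?_, ?_, ?_, ?_, hv, ?_, ?_, ?_, rfl, ?_, ?_, ?_, rfl, rfl, rfl, rfl, ?_, ?_⟩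
  · rw [← mul_act, e2]; simp only [mul_act, hv, hz]
  · rw [← mul_act, e1]; simp only [mul_act, hv, hz]
  · rw [← mul_act, ← mul_act, e3]; simp only [mul_act, hv, hz]
  · rw [← mul_act, ← mul_act, e5]; simp only [mul_act, hz]
  · rw [← mul_act, ← mul_act, ← mul_act, e4]; simp only [mul_act, hv, hz]
  · rw [← mul_act, f1]; simp only [mul_act, hv]
  · rw [← mul_act, f2]; simp only [mul_act, hv]
  · rw [← mul_act, ← mul_act, f3]; simp only [mul_act, hv]
  · rw [← mul_act, g1, one_act]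
  · rw [← mul_act, g2]; simp only [mul_act, hv]
  · rw [← mul_act, ← mul_act, g3]; simp only [mul_act, hv]
  · rw [← mul_act, ← mul_act, k1, one_act]
  · rw [← mul_act, ← mul_act, k1, one_act]

/-- the sum of the six axes is zero -/
theorem Axp.sum {a b c d e f : V} (A : Axp ρ a b c d e f) (hinv : ρ.invariants = ⊥) :
    a + b + c + d + e + f = 0 := by
  have h : a + b + c + d + e + f ∈ ρ.invariants := by
    rw [Representation.mem_invariants]
    intro g
    have hg : g ∈ Subgroup.closure {z5, c3} := by rw [closure_eq]; trivial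
    induction hg using Subgroup.closure_induction with
    | mem x hx =>
      rcases hx with rfl | rfl
      · simp only [map_add, A.za, A.zb, A.zc, A.zd, A.ze, A.zf]; abel
      · simp only [map_add, A.ca, A.cb, A.cc, A.cd, A.ce, A.cf]; abel
    | one => rw [map_one]; rfl
    | mul x y _ _ hx hy => rw [mul_act, hy, hx]
    | inv x _ hx =>
      apply act_inj (ρ := ρ) (g := x)
      rw [← mul_act, mul_inv_cancel, map_one, hx]
      rfl
  rwa [hinv, Submodule.mem_bot] at h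

/-- the sum over `⟨z5⟩` -/
def zeta (ρ : Representation F ↥(alternatingGroup (Fin 5)) V) (y : V) : V :=
  y + ρ z5 y + ρ z5 (ρ z5 y) + ρ z5 (ρ z5 (ρ z5 y)) + ρ z5 (ρ z5 (ρ z5 (ρ z5 y)))

theorem zeta_add (x y : V) : zeta ρ (x + y) = zeta ρ x + zeta ρ y := by
  simp only [zeta, map_add]; abel

theorem zeta_zero (ρ : Representation F ↥(alternatingGroup (Fin 5)) V) : zeta ρ (0 : V) = 0 := by
  simp only [zeta, map_zero, add_zero]

theorem Axp.zeta {a b c d e f : V} (A : Axp ρ a b c d e f) (h5 : (5 : F) = 0) (hinv : ρ.invariants = ⊥) :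
    zeta ρ a = 0 ∧ zeta ρ b = -a ∧ zeta ρ c = -a ∧ zeta ρ d = -a ∧ zeta ρ e = -a ∧ zeta ρ f = -a := by
  have hs := A.sum hinv
  have hs' : b + d + f + e + c = -a := by
    rw [eq_neg_iff_add_eq_zero, ← hs]; abel
  have h5a : a + a + a + a + a = 0 := by
    have : (5 : F) • a = 0 := by rw [h5, zero_smul]
    rw [← this]
    module
  refine ⟨?_, ?_, ?_, ?_, ?_, ?_⟩
  · simp only [E6FiveFive.zeta, A.za]; exact h5a
  all_goals
    simp only [E6FiveFive.zeta, A.zb, A.zc, A.zd, A.ze, A.zf]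
    rw [← hs']
    try abel

/-- the space of vectors fixed by the dihedral group of order 10 has at most half the dimension of the space of vectors
fixed by the four-group -/
theorem plus_le [FiniteDimensional F V] (h2 : (2 : F) ≠ 0) (h5 : (5 : F) = 0) (hinv : ρ.invariants = ⊥) :
    2 * finrank F ↥(es (ρ z5) 1 ⊓ es (ρ v0) 1) ≤ finrank F ↥(es (ρ v0) 1 ⊓ es (ρ v1) 1) := by
  have hmem : ∀ {v : V}, v ∈ es (ρ z5) 1 ⊓ es (ρ v0) 1 ↔ ρ z5 v = v ∧ ρ v0 v = v := by
    intro v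
    rw [Submodule.mem_inf, mem_es, mem_es, one_smul]
  let Φ : (↥(es (ρ z5) 1 ⊓ es (ρ v0) 1) × ↥(es (ρ z5) 1 ⊓ es (ρ v0) 1)) →ₗ[F] V :=
    ((LinearMap.id + ρ v1) ∘ₗ (es (ρ z5) 1 ⊓ es (ρ v0) 1).subtype).coprod
      ((ρ c3 ∘ₗ (LinearMap.id + ρ v1)) ∘ₗ (es (ρ z5) 1 ⊓ es (ρ v0) 1).subtype)
  have hΦ : ∀ w, Φ w = ((w.1 : V) + ρ v1 (w.1 : V)) + ρ c3 ((w.2 : V) + ρ v1 (w.2 : V)) := fun w => rfl
  have hinj : Function.Injective Φ := by
    rw [← LinearMap.ker_eq_bot, eq_bot_iff]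
    rintro ⟨⟨x, hx⟩, ⟨y, hy⟩⟩ hw
    rw [LinearMap.mem_ker, hΦ] at hw
    obtain ⟨x1, x2⟩ := hmem.1 hx
    obtain ⟨y1, y2⟩ := hmem.1 hy
    have A := axp x1 x2
    have B := axp y1 y2
    obtain ⟨a0, a1, a2, a3, a4, a5⟩ := A.zeta h5 hinv
    obtain ⟨b0, b1, b2, b3, b4, b5⟩ := B.zeta h5 hinv
    have hw1 : x + ρ v1 x + (ρ c3 y + ρ c3 (ρ v1 y)) = 0 := by
      rw [← map_add]; exact hw
    have r1 := congrArg (E6FiveFive.zeta ρ) hw1
    rw [zeta_add, zeta_add, zeta_add, a0, a1, b2, b3, zeta_zero] at r1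
    have hw2 := congrArg (ρ c3) hw1
    simp only [map_add, map_zero] at hw2
    have hw3 : ρ c3 x + ρ c3 (ρ v1 x) + (ρ c3 (ρ c3 y) + ρ c3 (ρ c3 (ρ v1 y))) = 0 := hw2
    have r2 := congrArg (E6FiveFive.zeta ρ) hw3
    rw [zeta_add, zeta_add, zeta_add, a2, a3, b4, b5, zeta_zero] at r2
    -- r1 : 0 + -x + (-y + -y) = 0 ; r2 : -x + -x + (-y + -y) = 0
    have hxy : x = 0 := by
      have : x = (0 + -x + (-y + -y)) - (-x + -x + (-y + -y)) := by abel
      rw [this, r1, r2, sub_zero]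
    have hy0 : y = 0 := by
      rw [hxy, neg_zero, add_zero, zero_add] at r1
      have : (2 : F) • y = -(-y + -y) := by rw [two_smul]; abel
      rw [r1, neg_zero] at this
      exact (smul_eq_zero.1 this).resolve_left h2
    rw [Submodule.mem_bot]
    exact Prod.ext (Subtype.ext hxy) (Subtype.ext hy0)
  have hr : LinearMap.range Φ ≤ es (ρ v0) 1 ⊓ es (ρ v1) 1 := by
    rintro _ ⟨⟨⟨x, hx⟩, ⟨y, hy⟩⟩, rfl⟩
    obtain ⟨x1, x2⟩ := hmem.1 hx
    obtain ⟨y1, y2⟩ := hmem.1 hy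
    have A := axp x1 x2
    have B := axp y1 y2
    rw [Submodule.mem_inf, mem_es, mem_es, one_smul, hΦ]
    simp only [map_add, A.pa, A.pb, A.qb, B.pc, B.pd, B.qc, B.qd]
    constructor <;> abel
  have h1 := LinearMap.finrank_range_of_inj hinj
  have h3 := Submodule.finrank_mono hr
  rw [h1, Module.finrank_prod] at h3
  omega

end plus

/-! ### the main lemma -/

section key

open Cfsg.Agent.ChevalleyStructure.E6Min.Tables Cfsg.Agent.ChevalleyStructure.E6Min.Basic
  Cfsg.Agent.ChevalleyStructure.E6Min.Adjoint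
open Cfsg.Agent.H952.F4.Jord
open Cfsg.Agent.H163.E6 (V V' Tab scal TS Lift Stab Sit)
open Cfsg.Agent.H163.E6.Act (ev_dual sh_act tf_act ad_eq_one_iff)
open Cfsg.Agent.H952.F4.Cases.Five (inv5 inv3 v0_sq v0_ne c3_cube c3_ne z5_five z5_ne gen235 powo ne_one_of_order ev_two
  ev_three ev_five)

variable {E : Type u} [Field E]

/-- the values of `sh` and `cr` on the three vectors -/
theorem sq_eq {X : Fin 3 → (I27 → E)} (h2 : (2 : E) ≠ 0) (h5 : (5 : E) = 0)
    (h12p : sh (X 1 + (3 : E) • X 2) = 0) (h12m : sh (X 1 - (3 : E) • X 2) = 0)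
    (h20p : sh (X 2 + (3 : E) • X 0) = 0) (h20m : sh (X 2 - (3 : E) • X 0) = 0)
    (h01p : sh (X 0 + (3 : E) • X 1) = 0) (h01m : sh (X 0 - (3 : E) • X 1) = 0) :
    (cr (X 1) (X 2) = 0 ∧ cr (X 2) (X 0) = 0 ∧ cr (X 0) (X 1) = 0) ∧ sh (X 1) = sh (X 0) ∧ sh (X 2) = sh (X 0) := by
  have h3 : (3 : E) ≠ 0 := by
    intro h
    apply h2
    have : (2 : E) = 5 - 3 := by norm_num
    rw [this, h5, h, sub_zero]
  have key : ∀ {x y : I27 → E}, sh (x + (3 : E) • y) = 0 → sh (x - (3 : E) • y) = 0 → cr x y = 0 ∧ sh x = sh y := by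
    intro x y hp hm
    rw [sh_add, sh_smul, cr_smul_right] at hp
    rw [sub_eq_add_neg, ← neg_smul, sh_add, sh_smul, cr_smul_right] at hm
    have e1 : (2 : E) • ((3 : E) • cr x y) = 0 := by
      linear_combination (norm := module) hp - hm
    have e2 : (2 : E) • (sh x + (9 : E) • sh y) = 0 := by
      linear_combination (norm := module) hp + hm
    refine ⟨(smul_eq_zero.1 ((smul_eq_zero.1 e1).resolve_left h2)).resolve_left h3, ?_⟩
    have e3 := (smul_eq_zero.1 e2).resolve_left h2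
    have e4 : (9 : E) = -1 := by linear_combination (2 : E) * h5
    rw [e4] at e3
    linear_combination (norm := module) e3
  obtain ⟨c12, s1⟩ := key h12p h12m
  obtain ⟨c20, s2⟩ := key h20p h20m
  obtain ⟨c01, s0⟩ := key h01p h01m
  exact ⟨⟨c12, c20, c01⟩, s0.symm, s2⟩

/-- `sh` vanishes on the span of the three vectors -/
theorem ts_span' {X : Fin 3 → (I27 → E)} (h2 : (2 : E) ≠ 0)
    (c12 : cr (X 1) (X 2) = 0) (c20 : cr (X 2) (X 0) = 0) (c01 : cr (X 0) (X 1) = 0)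
    (h0 : sh (X 0) = 0) (z1 : sh (X 1) = 0) (z2 : sh (X 2) = 0) : TS (Submodule.span E (Set.range X)) := by
  have hcr : ∀ i j, cr (X i) (X j) = 0 := by
    have c10 : cr (X 1) (X 0) = 0 := by rw [cr_comm]; exact c01
    have c21 : cr (X 2) (X 1) = 0 := by rw [cr_comm]; exact c12
    have c02 : cr (X 0) (X 2) = 0 := by rw [cr_comm]; exact c20
    have c00 : cr (X 0) (X 0) = 0 := by rw [cr_self, h0, smul_zero]
    have c11 : cr (X 1) (X 1) = 0 := by rw [cr_self, z1, smul_zero]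
    have c22 : cr (X 2) (X 2) = 0 := by rw [cr_self, z2, smul_zero]
    intro i j
    fin_cases i <;> fin_cases j
    · exact c00
    · exact c01
    · exact c02
    · exact c10
    · exact c11
    · exact c12
    · exact c20
    · exact c21
    · exact c22
  have hz : ∀ y : I27 → E, cr (0 : I27 → E) y = 0 := by
    intro y
    have := cr_smul_left (0 : E) 0 y
    rwa [zero_smul, zero_smul] at this
  have hcr1 : ∀ i, ∀ y ∈ Submodule.span E (Set.range X), cr y (X i) = 0 := by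
    intro i y hy
    induction hy using Submodule.span_induction with
    | mem x hx =>
      obtain ⟨j, rfl⟩ := hx
      exact hcr j i
    | zero => exact hz _
    | add x y _ _ hx hy => rw [cr_add_left, hx, hy, add_zero]
    | smul a x _ hx => rw [cr_smul_left, hx, smul_zero]
  have hcr2 : ∀ y ∈ Submodule.span E (Set.range X), ∀ x ∈ Submodule.span E (Set.range X), cr x y = 0 := by
    intro y hy x hx
    induction hx using Submodule.span_induction with
    | mem x hx =>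
      obtain ⟨j, rfl⟩ := hx
      rw [cr_comm]
      exact hcr1 j y hy
    | zero => exact hz _
    | add x y _ _ hx hy => rw [cr_add_left, hx, hy, add_zero]
    | smul a x _ hx => rw [cr_smul_left, hx, smul_zero]
  refine ⟨fun x hx => ?_, fun x hx y hy => hcr2 y hy x hx⟩
  have h : (2 : E) • sh x = 0 := by rw [← cr_self]; exact hcr2 x hx x hx
  exact (smul_eq_zero.1 h).resolve_left h2

/-- `A₅` in characteristic 5 without fixed vectors on `V` and `V'` stabilizes a totally singular 3-space -/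
theorem key [Finite E] [CharP E 5] (T : Tab 5 E) (θ : ↥(alternatingGroup (Fin 5)) →* ↥(Zgrp E))
    (h1 : Representation.invariants (MonoidHom.comp (V E) θ) = ⊥)
    (h2 : Representation.invariants (MonoidHom.comp (V' E) θ) = ⊥) :
    ∃ W : Submodule E (I27 → E), finrank E ↥W = 3 ∧ TS W ∧ ∀ a, ∀ w ∈ W, V E (θ a) w ∈ W := by
  have hp5 : Fact (Nat.Prime 5) := ⟨Nat.prime_five⟩
  have h5 : (5 : E) = 0 := by exact_mod_cast CharP.cast_eq_zero E 5
  have two_ne : (2 : E) ≠ 0 := by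
    intro h
    have h' : ((2 : ℕ) : E) = 0 := by exact_mod_cast h
    rw [CharP.cast_eq_zero_iff E 5] at h'
    omega
  -- nontriviality
  have hne : ∀ a, a ≠ 1 → θ a ≠ 1 := by
    intro a ha h
    have h3 : ∀ b, θ b = 1 := hom_trivial θ ha h
    have h4 : (fun _ => (1 : E) : I27 → E) ∈ Representation.invariants (MonoidHom.comp (V E) θ) := by
      rw [Representation.mem_invariants]
      intro g
      rw [MonoidHom.comp_apply, h3, map_one]
      rfl
    rw [h1, Submodule.mem_bot] at h4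
    have h5 := congrFun h4 (0, 0, 0)
    exact one_ne_zero h5
  let ρ : Representation E ↥(alternatingGroup (Fin 5)) (I27 → E) := MonoidHom.comp (V E) θ
  let ρ' : Representation E ↥(alternatingGroup (Fin 5)) (I27 → E) := MonoidHom.comp (V' E) θ
  have hρ : ∀ a, ρ a = V E (θ a) := fun a => rfl
  have hρ' : ∀ a, ρ' a = V' E (θ a) := fun a => rfl
  have hdim : finrank E (I27 → E) = 27 := by
    rw [Module.finrank_fintype_fun_eq_card]
    decide
  -- dimensions of the eigenspaces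
  have s2 : θ v0 * θ v0 = 1 := by rw [← map_mul, v0_sq, map_one]
  have s3 : θ c3 ^ 3 = 1 := by rw [← map_pow, c3_cube, map_one]
  have r3 : ∃ g, g * θ c3 * g⁻¹ = (θ c3)⁻¹ := by
    obtain ⟨s, -, -, hs⟩ := inv3
    exact ⟨θ s, by rw [← map_inv, ← map_mul, ← map_mul, hs, map_inv]⟩
  have had3 : ad E (θ c3) ≠ 1 := by
    intro h
    obtain ⟨c, hc3, hc⟩ := (ad_eq_one_iff _).1 h
    obtain ⟨g, hg⟩ := r3
    have e1 : ((θ c3)⁻¹ : ↥(Zgrp E)) = θ c3 := by
      rw [← hg, mul_inv_eq_iff_eq_mul]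
      apply Subtype.ext
      rw [Subgroup.coe_mul, Subgroup.coe_mul, hc]
      apply Units.ext
      show ((g : GL I27 E) : Matrix I27 I27 E) * algebraMap E _ (c : E) =
        algebraMap E _ (c : E) * ((g : GL I27 E) : Matrix I27 I27 E)
      exact (Algebra.commutes _ _).symm
    have e2 : θ c3 * θ c3 = 1 := by
      nth_rewrite 1 [← e1]
      exact inv_mul_cancel _
    have e3 : θ c3 = 1 := by
      have := s3
      rwa [pow_succ, pow_two, e2, one_mul] at this
    exact hne c3 c3_ne e3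
  have f3 : 9 ≤ ev (ρ c3) 1 := by
    have h := T.three (by norm_num) (θ c3) had3 s3
    have h' := T.three_real (by norm_num) (θ c3) had3 s3 r3
    rw [hρ]
    omega
  have f5 : 6 ≤ ev (ρ z5) 1 := by
    have h := H952.F4.Eig.le_mul_ev 5 (T := ρ z5) (by rw [← map_pow, z5_five, map_one])
    rw [hdim] at h
    omega
  have f2 := T.two (by norm_num) (θ v0) (hne _ v0_ne) s2
  rw [← hρ] at f2
  obtain ⟨x, y, hgen, hx, hy, hxy⟩ := gen235 H952.F4.Gen.gen5
  have hsc := H952.F4.Scott.scott ρ hgen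
  have hd := dual_bot tf_act θ h2
  have hsc' : ev (ρ x) 1 + ev (ρ y) 1 + ev (ρ (x * y)) 1 ≤ 27 := by
    have e1 : ρ.invariants = ⊥ := h1
    have e2 : ρ.dual.invariants = ⊥ := hd
    rw [e1, e2, finrank_bot, finrank_bot, hdim] at hsc
    exact hsc
  rw [ev_two (ρ := ρ) (g := x) (by rw [← pow_two]; exact powo hx) (ne_one_of_order hx (by norm_num)),
    ev_three (ρ := ρ) (g := y) (powo hy) (ne_one_of_order hy (by norm_num)),
    ev_five (ρ := ρ) (g := x * y) (powo hxy) (ne_one_of_order hxy (by norm_num))] at hsc'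
  have g2 : ev (ρ v0) 1 = 11 := by omega
  -- the four-group and the dihedral group
  have hdual : ∀ g : ↥(Zgrp E), ev (V' E g) 1 = ev (V E g) 1 := fun g => by rw [ev_dual g one_ne_zero, inv_one]
  have g2' : ev (ρ' v0) 1 = 11 := (hdual (θ v0)).trans g2
  have hv1 : v1 * v1 = (1 : ↥(alternatingGroup (Fin 5))) := by decide +kernel
  have hv1' : v1 ≠ (1 : ↥(alternatingGroup (Fin 5))) := by decide +kernel
  have hv01 : v0 * v1 = v1 * v0 := by decide +kernel
  have hv2 : v0 * v1 * (v0 * v1) = (1 : ↥(alternatingGroup (Fin 5))) := by decide +kernel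
  have hv2' : v0 * v1 ≠ (1 : ↥(alternatingGroup (Fin 5))) := by decide +kernel
  have four : ∀ σ : Representation E ↥(alternatingGroup (Fin 5)) (I27 → E), ev (σ v0) 1 = 11 →
      finrank E ↥(es (σ v0) 1 ⊓ es (σ v1) 1) = 3 := by
    intro σ hσ
    have h := H952.F4.Eig.four two_ne σ v0_sq hv1 hv01
    rw [ev_two (ρ := σ) hv1 hv1', ev_two (ρ := σ) hv2 hv2', hσ, hdim] at h
    omega
  have m1 : finrank E ↥(es (ρ z5) 1 ⊓ es (ρ v0) 1) ≤ 1 := by
    have h := plus_le (ρ := ρ) two_ne h5 h1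
    rw [four ρ g2] at h
    omega
  have m1' : finrank E ↥(es (ρ' z5) 1 ⊓ es (ρ' v0) 1) ≤ 1 := by
    have h := plus_le (ρ := ρ') two_ne h5 h2
    rw [four ρ' g2'] at h
    omega
  have hX0 : 5 ≤ finrank E ↥(es (ρ z5) 1 ⊓ es (ρ v0) (-1)) := by
    have h := H546.F4Eig.split_inv ρ two_ne v0_sq (es (ρ z5) 1) (fun v hv => by
      rw [mem_es, one_smul] at hv ⊢
      have e : z5 * v0 = v0 * (z5 * (z5 * (z5 * z5))) := by decide +kernel
      rw [← mul_act, e]
      simp only [mul_act, hv])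
    have h' : finrank E ↥(es (ρ z5) 1) = ev (ρ z5) 1 := rfl
    omega
  -- the kernel of `sop`
  have hmem : ∀ {v : I27 → E}, v ∈ es (ρ z5) 1 ⊓ es (ρ v0) (-1) ↔ ρ z5 v = v ∧ ρ v0 v = -v := by
    intro v
    rw [Submodule.mem_inf, mem_es, mem_es, one_smul, neg_smul, one_smul]
  have hU : 3 ≤ finrank E ↥(es (ρ z5) 1 ⊓ es (ρ v0) (-1) ⊓ es (sop ρ) 0) := by
    have h := split (sop ρ) (es (ρ z5) 1 ⊓ es (ρ v0) (-1)) (fun v hv => by
      rw [hmem] at hv ⊢
      exact ⟨(sop_mem hv.1 hv.2).1, (sop_mem hv.1 hv.2).2.1⟩) 0 (fun v hv => by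
      rw [hmem] at hv
      rw [(sop_mem hv.1 hv.2).2.2, h5, mul_zero])
    rw [neg_zero] at h
    omega
  -- the quadratic form
  obtain ⟨i, hi⟩ := exists_coord m1'
  obtain ⟨⟨u, hu⟩, hu0, huQ⟩ := exists_zero two_ne hU (fun u => sh (u : I27 → E) i)
    (LinearMap.mk₂ E (fun u v => cr (u : I27 → E) (v : I27 → E) i)
      (fun u u' v => by rw [Submodule.coe_add, cr_add_left]; rfl)
      (fun c u v => by rw [Submodule.coe_smul, cr_smul_left]; rfl)
      (fun u v v' => by rw [Submodule.coe_add, cr_add_right]; rfl)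
      (fun c u v => by rw [Submodule.coe_smul, cr_smul_right]; rfl))
    (fun u v => by rw [Submodule.coe_add, sh_add]; rfl)
    (fun c u => by rw [Submodule.coe_smul, sh_smul]; rfl)
  have hu0' : u ≠ 0 := fun h => hu0 (Subtype.ext h)
  obtain ⟨hu1, hu2⟩ := hmem.1 hu.1
  have hu3 : sop ρ u = (2 * (3 : E) - 1) • u := by
    have e : (2 * (3 : E) - 1) = 0 := by rw [← h5]; norm_num
    rw [e]
    exact mem_es.1 hu.2
  have hshu : sh u = 0 := by
    apply hi _ _ huQ
    rw [Submodule.mem_inf, mem_es, mem_es, one_smul, hρ', hρ', ← sh_act, ← sh_act, ← hρ, ← hρ, hu1, hu2]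
    refine ⟨rfl, ?_⟩
    rw [← neg_one_smul E u, sh_smul]
    norm_num
  have hshg : ∀ (g : ↥(alternatingGroup (Fin 5))) (v : I27 → E), sh v = 0 → sh (ρ g v) = 0 := by
    intro g v hv
    rw [hρ, sh_act, hv, map_zero]
  -- the three-dimensional module
  obtain ⟨X, -, hX0', hxX, ⟨a0, a1, a2⟩, ⟨b0, b1, b2⟩, hc, hz0, hz1, hz2⟩ := axes two_ne ρ hu0' hu1 hu2 hu3
  obtain ⟨hc0, hc1, hc2⟩ := hc
  have hli := linInd two_ne hX0' ⟨a0, a1, a2⟩ ⟨b0, b1, b2⟩
  have k1 : sh (X 1 + (3 : E) • X 2) = 0 := by rw [← hxX]; exact hshu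
  have k2 : sh (X 1 - (3 : E) • X 2) = 0 := by
    have := hshg v1 _ k1
    rwa [map_add, map_smul, b1, b2, smul_neg, ← sub_eq_add_neg] at this
  have k3 : sh (X 2 + (3 : E) • X 0) = 0 := by
    have := hshg c3 _ k1
    rwa [map_add, map_smul, hc1, hc2] at this
  have k4 : sh (X 2 - (3 : E) • X 0) = 0 := by
    have := hshg c3 _ k2
    rwa [map_sub, map_smul, hc1, hc2] at this
  have k5 : sh (X 0 + (3 : E) • X 1) = 0 := by
    have := hshg c3 _ k3
    rwa [map_add, map_smul, hc0, hc2] at this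
  have k6 : sh (X 0 - (3 : E) • X 1) = 0 := by
    have := hshg c3 _ k4
    rwa [map_sub, map_smul, hc0, hc2] at this
  obtain ⟨⟨c12, c20, c01⟩, t1, t2⟩ := sq_eq two_ne h5 k1 k2 k3 k4 k5 k6
  have c02 : cr (X 0) (X 2) = 0 := by rw [cr_comm]; exact c20
  -- the common value of `sh` is fixed
  have hY : sh (X 0) = 0 := by
    have hcY : ρ' c3 (sh (X 0)) = sh (X 0) := by rw [hρ', ← sh_act, ← hρ, hc0, t1]
    have hzY : ρ' z5 (sh (X 0)) = sh (X 0) := by
      have e1 : sh ((2 : E) • ρ z5 (X 0)) = (4 : E) • ρ' z5 (sh (X 0)) := by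
        rw [sh_smul, hρ, sh_act, hρ']
        norm_num
      have e2 : ((3 : E) - 1) • X 0 - (3 : E) • X 1 + X 2 = (2 : E) • X 0 + ((-3 : E) • X 1 + X 2) := by
        module
      rw [hz0, e2, sh_add, sh_add, cr_add_right, cr_smul_left, cr_smul_left, cr_smul_left, cr_smul_right, c01, c02, c12,
        sh_smul, sh_smul, t1, t2] at e1
      have e3 : (4 : E) • (ρ' z5 (sh (X 0)) - sh (X 0)) = (10 : E) • sh (X 0) := by
        rw [smul_sub, ← e1]
        module
      have e4 : (10 : E) = 0 := by linear_combination (2 : E) * h5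
      rw [e4, zero_smul] at e3
      have four_ne : (4 : E) ≠ 0 := by
        have : (4 : E) = 2 * 2 := by norm_num
        rw [this]
        exact mul_ne_zero two_ne two_ne
      exact sub_eq_zero.1 ((smul_eq_zero.1 e3).resolve_left four_ne)
    have hm : sh (X 0) ∈ Representation.invariants (MonoidHom.comp (V' E) θ) := by
      rw [Representation.mem_invariants]
      intro g
      have hg : g ∈ Subgroup.closure {z5, c3} := by rw [closure_eq]; trivial
      show ρ' g (sh (X 0)) = sh (X 0)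
      induction hg using Subgroup.closure_induction with
      | mem x hx =>
        rcases hx with rfl | rfl
        · exact hzY
        · exact hcY
      | one => rw [map_one]; rfl
      | mul x y _ _ hx hy => rw [mul_act, hy, hx]
      | inv x _ hx =>
        apply act_inj (ρ := ρ') (g := x)
        rw [← mul_act, mul_inv_cancel, map_one, hx]
        rfl
    rwa [h2, Submodule.mem_bot] at hm
  refine ⟨Submodule.span E (Set.range X), by rw [finrank_span_eq_card hli, Fintype.card_fin],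
    ts_span' two_ne c12 c20 c01 hY (by rw [t1, hY]) (by rw [t2, hY]), ?_⟩
  intro a w hw
  exact span_stable two_ne ⟨hc0, hc1, hc2⟩ hz0 hz1 hz2 a w hw

/-- a subspace stable under a lift of the alternating group is stable under the full preimage -/
theorem stab_of_lift {n : ℕ} {φ : ↥(alternatingGroup (Fin n)) →* ↥(chevE6.group E)}
    {ψ : ↥(alternatingGroup (Fin n)) →* ↥(Zgrp E)} (hψ : Lift φ ψ) {W : Submodule E (I27 → E)}
    (hW : ∀ a, ∀ w ∈ W, V E (ψ a) w ∈ W) : Stab (V E) φ.range W := by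
  rintro g ⟨a, ha⟩ w hw
  have h1 : ad E (g * (ψ a)⁻¹) = 1 := by
    rw [map_mul, map_inv, hψ a, ha, mul_inv_cancel]
  obtain ⟨c, -, hc⟩ := (ad_eq_one_iff _).1 h1
  have h2 : V E g w = V E (g * (ψ a)⁻¹) (V E (ψ a) w) := by
    rw [← Module.End.mul_apply, ← map_mul, inv_mul_cancel_right]
  have h3 : ∀ x : I27 → E, V E (g * (ψ a)⁻¹) x = (c : E) • x := by
    intro x
    rw [H163.E6.V_apply, hc, H163.E6.Act.coe_scal, Matrix.smul_mulVec, Matrix.one_mulVec]
  rw [h2, h3]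
  exact W.smul_mem _ (hW a w hw)

/-- the final statement, with the table and the lift as hypotheses -/
theorem five_five_of [Finite E] [CharP E 5] {H : Subgroup ↥(chevE6.group E)}
    {φ : ↥(alternatingGroup (Fin 5)) →* ↥(chevE6.group E)} (hS : Sit H 5 φ) (T : Tab 5 E)
    {ψ : ↥(alternatingGroup (Fin 5)) →* ↥(Zgrp E)} (hψ : Lift φ ψ) : False := by
  have two_ne : (2 : E) ≠ 0 := by
    intro h
    have h' : ((2 : ℕ) : E) = 0 := by exact_mod_cast h
    rw [CharP.cast_eq_zero_iff E 5] at h'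
    omega
  obtain ⟨h1, h2⟩ := hS.no_fixed ψ hψ
  obtain ⟨W, h3, hW, hst⟩ := key T ψ h1 h2
  exact hS.no_three (Or.inr two_ne) (V E) (Or.inl rfl) W (stab_of_lift hψ hst) h3 hW

end key

end Cfsg.Agent.H952.E6FiveFive

namespace Cfsg.Agent.H163.E6.Cases

open Cfsg Cfsg.Lie Module
open Cfsg.Agent.ChevalleyStructure.E6Min.Tables Cfsg.Agent.ChevalleyStructure.E6Min.Basic
  Cfsg.Agent.ChevalleyStructure.E6Min.Adjoint

universe u

variable {F : Type u} [Field F] [Finite F] {H : Subgroup ↥(chevE6.group F)}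

theorem five_five [CharP F 5] {φ : ↥(alternatingGroup (Fin 5)) →* ↥(chevE6.group F)} (hS : Sit H 5 φ) : False := by
  have : Fact (Nat.Prime 5) := ⟨Nat.prime_five⟩
  obtain ⟨ψ, hψ⟩ : ∃ ψ : ↥(alternatingGroup (Fin 5)) →* ↥(Zgrp F), Lift φ ψ := by
    rcases Cov.exists_lift le_rfl hS.inj with h | ⟨h, -⟩
    · exact h
    · omega
  exact H952.E6FiveFive.five_five_of hS (Tor.tab 5) hψ

end Cfsg.Agent.H163.E6.Cases
end

-- part: H500/E6/BigAbs
section
/-!
# S5927, `Cases.big_odd`: the abstract part (helper500)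

* `Cub` : the lift of the involutions along a central extension with kernel of exponent 3;
* `no_A8` : no such lift of `A₈` acts on a 27-dimensional module in characteristic not 2 such that every involution has
  a fixed space of dimension 11 or 15.
-/

set_option autoImplicit false
set_option maxRecDepth 10000

namespace Cfsg.Agent.H500.E6Big

open Module Equiv
open Cfsg.Agent.H952.F4 (ev es)
open Cfsg.Agent.H546.F4Eig

/-! ### Lifts -/

section lift
variable {Z G A : Type*} [Group Z] [Group G] [Group A] {π : Z →* G}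

theorem cube_eq (hk : ∀ z, π z = 1 → z ^ 3 = 1 ∧ ∀ x, z * x = x * z) {x y : Z} (h : π x = π y) : x ^ 3 = y ^ 3 := by
  obtain ⟨h1, h2⟩ := hk (x * y⁻¹) (by rw [map_mul, map_inv, h, mul_inv_cancel])
  have e : x = (x * y⁻¹) * y := by group
  have hc : Commute (x * y⁻¹) y := h2 y
  rw [e, hc.mul_pow, h1, one_mul]

/-- the cube of a preimage -/
noncomputable def cub (hπ : Function.Surjective π) (φ : A →* G) (a : A) : Z := (Classical.choose (hπ (φ a))) ^ 3

theorem cub_eq (hk : ∀ z, π z = 1 → z ^ 3 = 1 ∧ ∀ x, z * x = x * z) (hπ : Function.Surjective π) (φ : A →* G) {a : A}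
    {x : Z} (h : π x = φ a) : cub hπ φ a = x ^ 3 :=
  cube_eq hk ((Classical.choose_spec (hπ (φ a))).trans h.symm)

theorem cub_sq (hk : ∀ z, π z = 1 → z ^ 3 = 1 ∧ ∀ x, z * x = x * z) (hπ : Function.Surjective π) (φ : A →* G) {a : A}
    (ha : a * a = 1) : cub hπ φ a * cub hπ φ a = 1 := by
  obtain ⟨x, hx⟩ := hπ (φ a)
  rw [cub_eq hk hπ φ hx]
  have h1 := (hk (x * x) (by rw [map_mul, hx, ← map_mul, ha, map_one])).1
  rw [← pow_two, ← pow_mul] at h1
  rw [← pow_add]
  exact h1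

theorem map_cub (hπ : Function.Surjective π) (φ : A →* G) {a : A} (ha : a * a = 1) : π (cub hπ φ a) = φ a := by
  unfold cub
  rw [map_pow, Classical.choose_spec (hπ (φ a)), ← map_pow, pow_succ, pow_two, ha, one_mul]

theorem cub_comm (hk : ∀ z, π z = 1 → z ^ 3 = 1 ∧ ∀ x, z * x = x * z) (hπ : Function.Surjective π) (φ : A →* G)
    {a b : A} (hab : a * b = b * a) : cub hπ φ a * cub hπ φ b = cub hπ φ b * cub hπ φ a := by
  obtain ⟨x, hx⟩ := hπ (φ a)
  obtain ⟨y, hy⟩ := hπ (φ b)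
  rw [cub_eq hk hπ φ hx, cub_eq hk hπ φ hy]
  have h1 : (y * x * y⁻¹) ^ 3 = x ^ 3 := cube_eq hk (by
    rw [map_mul, map_mul, map_inv, hx, hy, ← map_inv, ← map_mul, ← map_mul, ← hab, mul_inv_cancel_right])
  have h2 : y * x ^ 3 = x ^ 3 * y := by
    rw [conj_pow] at h1
    calc y * x ^ 3 = (y * x ^ 3 * y⁻¹) * y := by group
      _ = x ^ 3 * y := by rw [h1]
  have h3 : Commute (x ^ 3) y := h2.symm
  exact h3.pow_right 3

theorem cub_mul (hk : ∀ z, π z = 1 → z ^ 3 = 1 ∧ ∀ x, z * x = x * z) (hπ : Function.Surjective π) (φ : A →* G)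
    {a b : A} (ha : a * a = 1) (hb : b * b = 1) (hab : a * b = b * a) :
    cub hπ φ (a * b) = cub hπ φ a * cub hπ φ b := by
  have h1 : π (cub hπ φ a * cub hπ φ b) = φ (a * b) := by
    rw [map_mul, map_cub hπ φ ha, map_cub hπ φ hb, map_mul]
  rw [cub_eq hk hπ φ h1]
  have hc : Commute (cub hπ φ a) (cub hπ φ b) := cub_comm hk hπ φ hab
  rw [hc.mul_pow, pow_succ, pow_two, cub_sq hk hπ φ ha, one_mul, pow_succ, pow_two, cub_sq hk hπ φ hb, one_mul]

theorem cub_conj (hk : ∀ z, π z = 1 → z ^ 3 = 1 ∧ ∀ x, z * x = x * z) (hπ : Function.Surjective π) (φ : A →* G)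
    (g a : A) : ∃ y : Z, y * cub hπ φ a * y⁻¹ = cub hπ φ (g * a * g⁻¹) := by
  obtain ⟨x, hx⟩ := hπ (φ a)
  obtain ⟨y, hy⟩ := hπ (φ g)
  refine ⟨y, ?_⟩
  have h1 : π (y * x * y⁻¹) = φ (g * a * g⁻¹) := by
    rw [map_mul, map_mul, map_inv, hx, hy, map_mul, map_mul, map_inv]
  rw [cub_eq hk hπ φ hx, cub_eq hk hπ φ h1, conj_pow]

end lift

/-! ### Elements of `A₈` -/

def e1 : ↥(alternatingGroup (Fin 8)) := ⟨swap (0 : Fin 8) 1 * swap (2 : Fin 8) 3, by rw [Perm.mem_alternatingGroup]; decide +kernel⟩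
def e2 : ↥(alternatingGroup (Fin 8)) := ⟨swap (0 : Fin 8) 2 * swap (1 : Fin 8) 3, by rw [Perm.mem_alternatingGroup]; decide +kernel⟩
def e3 : ↥(alternatingGroup (Fin 8)) := ⟨swap (4 : Fin 8) 5 * swap (6 : Fin 8) 7, by rw [Perm.mem_alternatingGroup]; decide +kernel⟩
def e4 : ↥(alternatingGroup (Fin 8)) := ⟨swap (4 : Fin 8) 6 * swap (5 : Fin 8) 7, by rw [Perm.mem_alternatingGroup]; decide +kernel⟩
def r3 : ↥(alternatingGroup (Fin 8)) :=
  ⟨swap (0 : Fin 8) 4 * swap (1 : Fin 8) 5 * swap (2 : Fin 8) 6 * swap (3 : Fin 8) 7, by rw [Perm.mem_alternatingGroup]; decide +kernel⟩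

def g1 : ↥(alternatingGroup (Fin 8)) :=
  ⟨⟨![0, 2, 1, 3, 4, 5, 7, 6], ![0, 2, 1, 3, 4, 5, 7, 6], by decide, by decide⟩, by rw [Perm.mem_alternatingGroup]; decide +kernel⟩
def g2 : ↥(alternatingGroup (Fin 8)) :=
  ⟨⟨![4, 5, 6, 7, 0, 1, 2, 3], ![4, 5, 6, 7, 0, 1, 2, 3], by decide, by decide⟩, by rw [Perm.mem_alternatingGroup]; decide +kernel⟩
def g3 : ↥(alternatingGroup (Fin 8)) :=
  ⟨⟨![4, 6, 5, 7, 0, 1, 3, 2], ![4, 5, 7, 6, 0, 2, 1, 3], by decide, by decide⟩, by rw [Perm.mem_alternatingGroup]; decide +kernel⟩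
def g4 : ↥(alternatingGroup (Fin 8)) :=
  ⟨⟨![0, 3, 1, 2, 4, 5, 6, 7], ![0, 2, 3, 1, 4, 5, 6, 7], by decide, by decide⟩, by rw [Perm.mem_alternatingGroup]; decide +kernel⟩
def g5 : ↥(alternatingGroup (Fin 8)) :=
  ⟨⟨![4, 7, 5, 6, 0, 1, 2, 3], ![4, 5, 6, 7, 0, 2, 3, 1], by decide, by decide⟩, by rw [Perm.mem_alternatingGroup]; decide +kernel⟩
def g6 : ↥(alternatingGroup (Fin 8)) :=
  ⟨⟨![0, 2, 4, 6, 1, 3, 5, 7], ![0, 4, 1, 5, 2, 6, 3, 7], by decide, by decide⟩, by rw [Perm.mem_alternatingGroup]; decide +kernel⟩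
def g7 : ↥(alternatingGroup (Fin 8)) :=
  ⟨⟨![0, 1, 4, 7, 2, 3, 5, 6], ![0, 1, 4, 5, 2, 6, 7, 3], by decide, by decide⟩, by rw [Perm.mem_alternatingGroup]; decide +kernel⟩
def g8 : ↥(alternatingGroup (Fin 8)) :=
  ⟨⟨![0, 1, 4, 6, 3, 2, 5, 7], ![0, 1, 5, 4, 2, 6, 3, 7], by decide, by decide⟩, by rw [Perm.mem_alternatingGroup]; decide +kernel⟩
def g9 : ↥(alternatingGroup (Fin 8)) :=
  ⟨⟨![0, 2, 4, 7, 1, 3, 6, 5], ![0, 4, 1, 5, 2, 7, 6, 3], by decide, by decide⟩, by rw [Perm.mem_alternatingGroup]; decide +kernel⟩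
def g10 : ↥(alternatingGroup (Fin 8)) :=
  ⟨⟨![0, 1, 4, 5, 2, 3, 6, 7], ![0, 1, 4, 5, 2, 3, 6, 7], by decide, by decide⟩, by rw [Perm.mem_alternatingGroup]; decide +kernel⟩
def g11 : ↥(alternatingGroup (Fin 8)) :=
  ⟨⟨![0, 1, 4, 7, 3, 2, 6, 5], ![0, 1, 5, 4, 2, 7, 6, 3], by decide, by decide⟩, by rw [Perm.mem_alternatingGroup]; decide +kernel⟩
def g12 : ↥(alternatingGroup (Fin 8)) :=
  ⟨⟨![0, 2, 4, 5, 1, 3, 7, 6], ![0, 4, 1, 5, 2, 3, 7, 6], by decide, by decide⟩, by rw [Perm.mem_alternatingGroup]; decide +kernel⟩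
def g13 : ↥(alternatingGroup (Fin 8)) :=
  ⟨⟨![0, 1, 4, 6, 2, 3, 7, 5], ![0, 1, 4, 5, 2, 7, 3, 6], by decide, by decide⟩, by rw [Perm.mem_alternatingGroup]; decide +kernel⟩
def g14 : ↥(alternatingGroup (Fin 8)) :=
  ⟨⟨![0, 1, 4, 5, 3, 2, 7, 6], ![0, 1, 5, 4, 2, 3, 7, 6], by decide, by decide⟩, by rw [Perm.mem_alternatingGroup]; decide +kernel⟩
def g15 : ↥(alternatingGroup (Fin 8)) :=
  ⟨⟨![0, 1, 4, 5, 3, 2, 7, 6], ![0, 1, 5, 4, 2, 3, 7, 6], by decide, by decide⟩, by rw [Perm.mem_alternatingGroup]; decide +kernel⟩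
def g16 : ↥(alternatingGroup (Fin 8)) :=
  ⟨⟨![0, 1, 2, 3, 5, 4, 7, 6], ![0, 1, 2, 3, 5, 4, 7, 6], by decide, by decide⟩, by rw [Perm.mem_alternatingGroup]; decide +kernel⟩
def g17 : ↥(alternatingGroup (Fin 8)) :=
  ⟨⟨![0, 1, 2, 3, 6, 7, 4, 5], ![0, 1, 2, 3, 6, 7, 4, 5], by decide, by decide⟩, by rw [Perm.mem_alternatingGroup]; decide +kernel⟩
def g18 : ↥(alternatingGroup (Fin 8)) :=
  ⟨⟨![0, 1, 2, 3, 7, 6, 5, 4], ![0, 1, 2, 3, 7, 6, 5, 4], by decide, by decide⟩, by rw [Perm.mem_alternatingGroup]; decide +kernel⟩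

theorem gr1 : g1 * e1 * g1⁻¹ = e2 := by decide +kernel
theorem gr2 : g2 * e1 * g2⁻¹ = e3 := by decide +kernel
theorem gr3 : g3 * e1 * g3⁻¹ = e4 := by decide +kernel
theorem gr4 : g4 * e1 * g4⁻¹ = e1 * e2 := by decide +kernel
theorem gr5 : g5 * e1 * g5⁻¹ = e3 * e4 := by decide +kernel
theorem gr6 : g6 * r3 * g6⁻¹ = e1 * e3 := by decide +kernel
theorem gr7 : g7 * r3 * g7⁻¹ = e2 * e3 := by decide +kernel
theorem gr8 : g8 * r3 * g8⁻¹ = e1 * e2 * e3 := by decide +kernel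
theorem gr9 : g9 * r3 * g9⁻¹ = e1 * e4 := by decide +kernel
theorem gr10 : g10 * r3 * g10⁻¹ = e2 * e4 := by decide +kernel
theorem gr11 : g11 * r3 * g11⁻¹ = e1 * e2 * e4 := by decide +kernel
theorem gr12 : g12 * r3 * g12⁻¹ = e1 * (e3 * e4) := by decide +kernel
theorem gr13 : g13 * r3 * g13⁻¹ = e2 * (e3 * e4) := by decide +kernel
theorem gr14 : g14 * r3 * g14⁻¹ = e1 * e2 * (e3 * e4) := by decide +kernel
theorem gr15 : g15 * r3 * g15⁻¹ = e1 * e3 * (e2 * e4) := by decide +kernel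
theorem gr16 : g16 * r3 * g16⁻¹ = e1 * e3 * r3 := by decide +kernel
theorem gr17 : g17 * r3 * g17⁻¹ = e2 * e4 * r3 := by decide +kernel
theorem gr18 : g18 * r3 * g18⁻¹ = e1 * e3 * (e2 * e4) * r3 := by decide +kernel

def CA (y : ↥(alternatingGroup (Fin 8))) : Prop := ∃ g, g * e1 * g⁻¹ = y
def CB (y : ↥(alternatingGroup (Fin 8))) : Prop := ∃ g, g * r3 * g⁻¹ = y

theorem sqs : e1 * e1 = 1 ∧ e2 * e2 = 1 ∧ e3 * e3 = 1 ∧ e4 * e4 = 1 ∧ r3 * r3 = 1 ∧ e1 * e2 = e2 * e1 ∧ e1 * e3 = e3 * e1 ∧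
    e1 * e4 = e4 * e1 ∧ e2 * e3 = e3 * e2 ∧ e2 * e4 = e4 * e2 ∧ e3 * e4 = e4 * e3 ∧
    (e1 * e3) * (e2 * e4) = (e2 * e4) * (e1 * e3) ∧ (e1 * e3) * r3 = r3 * (e1 * e3) ∧ (e2 * e4) * r3 = r3 * (e2 * e4) := by
  decide +kernel

theorem tyA : CA (e2) ∧ CA (e3) ∧ CA (e4) ∧ CA (e1 * e2) ∧ CA (e3 * e4) :=
  ⟨⟨g1, gr1⟩, ⟨g2, gr2⟩, ⟨g3, gr3⟩, ⟨g4, gr4⟩, ⟨g5, gr5⟩⟩

theorem tyB : CB (e1 * e3) ∧
    CB (e2 * e3) ∧
    CB (e1 * e2 * e3) ∧
    CB (e1 * e4) ∧
    CB (e2 * e4) ∧
    CB (e1 * e2 * e4) ∧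
    CB (e1 * (e3 * e4)) ∧
    CB (e2 * (e3 * e4)) ∧
    CB (e1 * e2 * (e3 * e4)) ∧
    CB (e1 * e3 * (e2 * e4)) ∧
    CB (e1 * e3 * r3) ∧
    CB (e2 * e4 * r3) ∧
    CB (e1 * e3 * (e2 * e4) * r3) :=
  ⟨⟨g6, gr6⟩, ⟨g7, gr7⟩, ⟨g8, gr8⟩, ⟨g9, gr9⟩, ⟨g10, gr10⟩, ⟨g11, gr11⟩, ⟨g12, gr12⟩, ⟨g13, gr13⟩, ⟨g14, gr14⟩, ⟨g15, gr15⟩, ⟨g16, gr16⟩, ⟨g17, gr17⟩, ⟨g18, gr18⟩⟩

theorem ne_ones : e1 ≠ 1 ∧ r3 ≠ 1 := by decide +kernel

/-! ### The contradiction -/

theorem ev_conj' {K V G : Type*} [Field K] [AddCommGroup V] [Module K V] [FiniteDimensional K V] [Group G]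
    (ρ : Representation K G V) (g x : G) : ev (ρ (g * x * g⁻¹)) 1 = ev (ρ x) 1 := by
  have hinj : ∀ g : G, Function.Injective (ρ g) := by
    intro g v w hvw
    have h : ∀ v, ρ g⁻¹ (ρ g v) = v := fun v => by rw [← rho_mul, inv_mul_cancel, map_one]; rfl
    rw [← h v, hvw, h]
  have key : ∀ g x : G, ev (ρ x) 1 ≤ ev (ρ (g * x * g⁻¹)) 1 := by
    intro g x
    rw [ev_eq, ev_eq, (Submodule.equivMapOfInjective (ρ g) (hinj g) (es (ρ x) 1)).finrank_eq]
    apply Submodule.finrank_mono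
    rintro _ ⟨v, hv, rfl⟩
    rw [SetLike.mem_coe, mem_es_one] at hv
    rw [mem_es_one, ← rho_mul]
    have e : g * x * g⁻¹ * g = g * x := by group
    rw [e, rho_mul, hv]
  apply le_antisymm _ (key g x)
  have h := key g⁻¹ (g * x * g⁻¹)
  have e : g⁻¹ * (g * x * g⁻¹) * g⁻¹⁻¹ = x := by group
  rwa [e] at h

theorem no_A8 {K V Z : Type*} [Field K] [AddCommGroup V] [Module K V] [FiniteDimensional K V] [Group Z]
    (h2 : (2 : K) ≠ 0) (ρ : Representation K Z V) (hd : finrank K V = 27) (f : ↥(alternatingGroup (Fin 8)) → Z)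
    (hsq : ∀ a, a * a = 1 → f a * f a = 1) (hcomm : ∀ a b, a * b = b * a → f a * f b = f b * f a)
    (hmul : ∀ a b, a * a = 1 → b * b = 1 → a * b = b * a → f (a * b) = f a * f b)
    (hconj : ∀ g a, ∃ y : Z, y * f a * y⁻¹ = f (g * a * g⁻¹))
    (hev : ∀ a, a ≠ 1 → a * a = 1 → ev (ρ (f a)) 1 = 15 ∨ ev (ρ (f a)) 1 = 11) : False := by
  obtain ⟨q1, q2, q3, q4, q5, c12, c13, c14, c23, c24, c34, d12, d13, d23⟩ := sqs
  obtain ⟨n1, n5⟩ := ne_ones
  -- the dimensions
  have hA : ∀ y : ↥(alternatingGroup (Fin 8)), CA y → ev (ρ (f y)) 1 = ev (ρ (f e1)) 1 := by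
    intro y hy
    obtain ⟨g, hg⟩ := hy
    obtain ⟨z, hz⟩ := hconj g e1
    rw [hg] at hz
    rw [← hz, ev_conj']
  have hB : ∀ y : ↥(alternatingGroup (Fin 8)), CB y → ev (ρ (f y)) 1 = ev (ρ (f r3)) 1 := by
    intro y hy
    obtain ⟨g, hg⟩ := hy
    obtain ⟨z, hz⟩ := hconj g r3
    rw [hg] at hz
    rw [← hz, ev_conj']
  have hTA := hev e1 n1 q1
  have hTB := hev r3 n5 q5
  obtain ⟨ty2, ty3, ty4, ty12, ty34⟩ := tyA
  obtain ⟨b13, b23, b123, b14, b24, b124, b134, b234, b1234, b1324, b13r, b24r, b1324r⟩ := tyB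
  have sq_of : ∀ {a b : ↥(alternatingGroup (Fin 8))}, a * a = 1 → b * b = 1 → a * b = b * a → (a * b) * (a * b) = 1 := by
    intro a b ha hb hab
    calc a * b * (a * b) = a * (b * a) * b := by group
      _ = a * (a * b) * b := by rw [hab]
      _ = (a * a) * (b * b) := by group
      _ = 1 := by rw [ha, hb, one_mul]
  have s13 := sq_of q1 q3 c13
  have s24 := sq_of q2 q4 c24
  have s34 := sq_of q3 q4 c34
  have s12 := sq_of q1 q2 c12
  -- the regular group
  have k1 := eight h2 ρ (hsq _ s13) (hsq _ s24) (hsq _ q5) (hcomm _ _ d12) (hcomm _ _ d13) (hcomm _ _ d23)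
  have s1324 := sq_of s13 s24 d12
  have d : (e1 * e3) * (e2 * e4) * r3 = r3 * ((e1 * e3) * (e2 * e4)) := by
    rw [mul_assoc, d23, ← mul_assoc, d13, mul_assoc]
  rw [← hmul _ _ s13 s24 d12, ← hmul _ _ s13 q5 d13, ← hmul _ _ s24 q5 d23, ← hmul _ _ s1324 q5 d,
    hB _ b13, hB _ b24, hB _ b1324, hB _ b13r, hB _ b24r, hB _ b1324r, hd] at k1
  -- `V₄ × V₄`
  have k2 := four h2 ρ (hsq _ q1) (hsq _ q2) (hcomm _ _ c12)
  rw [← hmul _ _ q1 q2 c12, hA e2 ty2, hA (e1 * e2) ty12, hd] at k2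
  have key : ∀ c : ↥(alternatingGroup (Fin 8)), c * c = 1 → e1 * c = c * e1 → e2 * c = c * e2 →
      CA c → CB (e1 * c) → CB (e2 * c) → CB (e1 * e2 * c) →
      4 * finrank K ↥(es (ρ (f e1)) 1 ⊓ es (ρ (f e2)) 1 ⊓ es (ρ (f c)) 1) + 3 * 27 =
        4 * ev (ρ (f e1)) 1 + 3 * ev (ρ (f r3)) 1 := by
    intro c hc hc1 hc2 t0 t1 t2 t3
    have h := eight h2 ρ (hsq _ q1) (hsq _ q2) (hsq _ hc) (hcomm _ _ c12) (hcomm _ _ hc1) (hcomm _ _ hc2)
    have d' : e1 * e2 * c = c * (e1 * e2) := by rw [mul_assoc, hc2, ← mul_assoc, hc1, mul_assoc]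
    rw [← hmul _ _ q1 q2 c12, ← hmul _ _ q1 hc hc1, ← hmul _ _ q2 hc hc2, ← hmul _ _ s12 hc d', hA e2 ty2, hA c t0,
      hA (e1 * e2) ty12, hB _ t1, hB _ t2, hB _ t3, hd] at h
    (clear * - h; omega)
  have k3 := key e3 q3 c13 c23 ty3 b13 b23 b123
  have k4 := key e4 q4 c14 c24 ty4 b14 b24 b124
  have c134 : e1 * (e3 * e4) = e3 * e4 * e1 := by rw [← mul_assoc, c13, mul_assoc, c14, mul_assoc]
  have c234 : e2 * (e3 * e4) = e3 * e4 * e2 := by rw [← mul_assoc, c23, mul_assoc, c24, mul_assoc]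
  have k5 := key (e3 * e4) s34 c134 c234 ty34 b134 b234 b1234
  have inv : ∀ c : ↥(alternatingGroup (Fin 8)), e1 * c = c * e1 → e2 * c = c * e2 →
      ∀ v ∈ es (ρ (f e1)) 1 ⊓ es (ρ (f e2)) 1, ρ (f c) v ∈ es (ρ (f e1)) 1 ⊓ es (ρ (f e2)) 1 := by
    intro c hc1 hc2 v hv
    obtain ⟨hv1, hv2⟩ := hv
    rw [SetLike.mem_coe, mem_es_one] at hv1 hv2
    refine ⟨?_, ?_⟩
    · rw [SetLike.mem_coe, mem_es_one, rho_comm ρ (hcomm _ _ hc1), hv1]
    · rw [SetLike.mem_coe, mem_es_one, rho_comm ρ (hcomm _ _ hc2), hv2]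
  have k6 := four_rel ρ h2 (hsq _ q3) (hsq _ q4) (hcomm _ _ c34) (es (ρ (f e1)) 1 ⊓ es (ρ (f e2)) 1)
    (inv e3 c13 c23) (inv e4 c14 c24)
  rw [← hmul _ _ q3 q4 c34] at k6
  omega

end Cfsg.Agent.H500.E6Big
end

-- part: H500/E6/Big
section
/-!
# S5927, `Cases.big_odd` (helper500)
-/

set_option autoImplicit false
set_option linter.unusedSectionVars false

namespace Cfsg.Agent.H163.E6

open Cfsg Cfsg.Lie Module
open Cfsg.Agent.ChevalleyStructure.E6Min.Tables Cfsg.Agent.ChevalleyStructure.E6Min.Basic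
  Cfsg.Agent.ChevalleyStructure.E6Min.Adjoint
open Cfsg.Agent.H952.F4 (ev es matRep sh cr tf MaxAlt)
open Cfsg.Agent.H500.E6Big

universe u

namespace Cases
variable {F : Type u} [Field F] [Finite F] {n : ℕ}

theorem big_odd_ker (z : ↥(Zgrp F)) (hz : ad F z = 1) : z ^ 3 = 1 ∧ ∀ x, z * x = x * z := by
  obtain ⟨c, hc, hzc⟩ := (Act.ad_eq_one_iff z).1 hz
  constructor
  · apply Subtype.ext
    rw [SubgroupClass.coe_pow, hzc]
    show scal c ^ 3 = 1
    unfold scal
    rw [← map_pow, hc, map_one]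
  · intro x
    apply Subtype.ext
    apply Units.ext
    show ((z : GL I27 F) : Matrix I27 I27 F) * ((x : GL I27 F) : Matrix I27 I27 F) =
      ((x : GL I27 F) : Matrix I27 I27 F) * ((z : GL I27 F) : Matrix I27 I27 F)
    rw [hzc, Act.coe_scal, smul_mul_assoc, one_mul, mul_smul_comm, mul_one]

theorem big_odd (p : ℕ) [Fact p.Prime] [CharP F p] (hp2 : p ≠ 2) (hn : 8 ≤ n)
    {φ : ↥(alternatingGroup (Fin n)) →* ↥(chevE6.group F)} (hφ : Function.Injective φ) : False := by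
  have T : Tab p F := Tor.tab p
  have h2 : (2 : F) ≠ 0 := by
    intro h
    have h1 : ((2 : ℕ) : F) = 0 := by exact_mod_cast h
    rw [CharP.cast_eq_zero_iff F p] at h1
    exact hp2 ((Nat.prime_dvd_prime_iff_eq Fact.out Nat.prime_two).1 h1)
  have hsurj : Function.Surjective (ad F) := ad_surjective
  let y : Equiv.Perm (Fin n) := Equiv.Perm.extendDomainHom (Cfsg.Agent.H177.F4.fst hn) (e1 : Equiv.Perm (Fin 8))
  have hy : y.cycleType = ((e1 : ↥(alternatingGroup (Fin 8))) : Equiv.Perm (Fin 8)).cycleType := by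
    show (Equiv.Perm.extendDomainHom (Cfsg.Agent.H177.F4.fst hn) (e1 : Equiv.Perm (Fin 8))).cycleType = _
    rw [Equiv.Perm.extendDomainHom_apply, Equiv.Perm.cycleType_extendDomain]
  have hy' : Equiv.Perm.sign y = 1 := by
    show Equiv.Perm.sign (Equiv.Perm.extendDomainHom (Cfsg.Agent.H177.F4.fst hn) (e1 : Equiv.Perm (Fin 8))) = 1
    rw [Equiv.Perm.extendDomainHom_apply, Equiv.Perm.sign_extendDomain]
    exact Equiv.Perm.mem_alternatingGroup.1 e1.2
  obtain ⟨ι, hι, -⟩ := Cfsg.Agent.H177.F4.exists_emb hn e1 ⟨y, Equiv.Perm.mem_alternatingGroup.2 hy'⟩ hy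
  let ψ : ↥(alternatingGroup (Fin 8)) →* ↥(chevE6.group F) := φ.comp ι
  have hψ : Function.Injective ψ := hφ.comp hι
  refine no_A8 h2 (V F) (by rw [finrank_fintype_fun_eq_card]; rfl) (cub hsurj ψ) (fun a ha => cub_sq big_odd_ker hsurj ψ ha)
    (fun a b hab => cub_comm big_odd_ker hsurj ψ hab) (fun a b ha hb hab => cub_mul big_odd_ker hsurj ψ ha hb hab)
    (fun g a => cub_conj big_odd_ker hsurj ψ g a) (fun a ha1 ha => ?_)
  have hne : cub hsurj ψ a ≠ 1 := by
    intro h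
    have h3 := map_cub hsurj ψ ha
    rw [h, map_one] at h3
    exact ha1 (hψ (by rw [← h3, map_one]))
  rcases T.two hp2 _ hne (cub_sq big_odd_ker hsurj ψ ha) with h | h
  · exact Or.inl h.1
  · exact Or.inr h.1

end Cases

end Cfsg.Agent.H163.E6
end

-- part: H882/E6BigTwo
section
/-!
# S5927, S5928: `A_n`, `9 ≤ n ≤ 12`, in characteristic 2 (helper882, proof by helper905)

`n = 9, 10, 11` : Scott's lemma for generating triples of type (2, 4, 6), (2, 3, 8), (2, 5, 5); `n = 12` : the fixed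
vectors of `A₁₁` on `V` and `V'`.
-/

set_option autoImplicit false
set_option linter.unusedSectionVars false

namespace Cfsg.Agent.H882.E6Big

open Cfsg Cfsg.Lie Module
open Cfsg.Agent.ChevalleyStructure.E6Min.Tables
open Cfsg.Agent.H952.F4 (ev es sh cr tf tr1 u0)
open Cfsg.Agent.H952.F4.Jord Cfsg.Agent.H163.E6 Cfsg.Agent.H905.E6T

/-! ### generating triples -/

section gens

open Equiv Equiv.Perm

theorem clo {n : ℕ} (x y : Perm (Fin (n + 2))) (hx : x ∈ alternatingGroup (Fin (n + 2)))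
    (hy : y ∈ alternatingGroup (Fin (n + 2))) (W : Fin (n + 2) → List (Fin 4))
    (hW : ∀ k, k ≠ 0 → Cfsg.Agent.H952.F4.Gen.ev x y (W k) = swap 0 1 * swap 0 k) :
    Subgroup.closure {(⟨x, hx⟩ : ↥(alternatingGroup (Fin (n + 2)))), ⟨y, hy⟩} = ⊤ := by
  rw [eq_top_iff]
  intro σ _
  have h1 : (σ : Perm (Fin (n + 2))) ∈ Subgroup.closure {x, y} := by
    refine Cfsg.Agent.H952.F4.Gen.mem_of_star _ ?_ ?_ σ.2
    · rw [Subgroup.closure_le]
      rintro z (rfl | rfl)
      · exact hx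
      · exact hy
    · intro k hk
      rw [← hW k hk]
      exact Cfsg.Agent.H952.F4.Gen.ev_mem (Subgroup.subset_closure (by simp)) (Subgroup.subset_closure (by simp)) _
  have h2 : (Subgroup.closure {(⟨x, hx⟩ : ↥(alternatingGroup (Fin (n + 2)))),
      ⟨y, hy⟩}).map (alternatingGroup (Fin (n + 2))).subtype = Subgroup.closure {x, y} := by
    rw [MonoidHom.map_closure, Set.image_pair]
    rfl
  rw [← h2] at h1
  obtain ⟨τ, hτ, h3⟩ := h1
  rwa [← Subtype.ext h3]

theorem trip9 : ∃ x y g : ↥(alternatingGroup (Fin 9)), Subgroup.closure {x, y} = ⊤ ∧ x * x = 1 ∧ y ^ 4 = 1 ∧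
    ((x * y) * (x * y)) ^ 3 = 1 ∧ (x * y) * (x * y) ≠ 1 ∧ g * ((x * y) * (x * y)) * g⁻¹ = ((x * y) * (x * y))⁻¹ := by
  refine ⟨⟨c[(0 : Fin 9), 4] * c[(1 : Fin 9), 2] * c[(5 : Fin 9), 7] * c[(6 : Fin 9), 8], by rw [mem_alternatingGroup]; decide +kernel⟩,
    ⟨c[(0 : Fin 9), 6, 7, 4] * c[(1 : Fin 9), 3, 2, 5], by rw [mem_alternatingGroup]; decide +kernel⟩,
    ⟨c[(2 : Fin 9), 6] * c[(7 : Fin 9), 8], by rw [mem_alternatingGroup]; decide +kernel⟩, ?_, ?_, ?_, ?_, ?_, ?_⟩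
  · exact clo (n := 7) _ _ _ _ ![[],
    [],
    [0, 2, 2, 0, 2, 2, 0, 3, 0, 2, 0, 3, 0, 2, 0, 2, 0, 2],
    [0, 3, 0, 3, 0, 2, 2, 0, 2, 0, 3, 3, 0, 2, 0, 2, 2, 0, 2, 0, 2, 2, 0],
    [0, 2, 0, 3, 0, 2, 2, 0, 3, 0, 2, 0, 2, 2, 0, 3, 0, 2, 2, 0, 3, 0],
    [0, 2, 0, 3, 0, 3, 0, 2, 0, 3, 3, 0, 3, 0, 2, 0, 3, 0, 3, 0],
    [3, 0, 2, 0, 3, 0, 2, 0, 2, 2, 0, 2, 2, 0, 3, 0, 3, 0],
    [3, 0, 3, 0, 2, 2, 0, 2, 0, 2, 0, 3, 0, 2, 0, 2, 2, 0, 2, 2, 0, 3],
    [2, 0, 2, 2, 0, 3, 0, 2, 2, 0, 3, 0, 2, 2, 0, 2, 0, 3, 0, 2, 2]] (by decide +kernel)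
  all_goals decide +kernel

theorem trip10 : ∃ x y g : ↥(alternatingGroup (Fin 10)), Subgroup.closure {x, y} = ⊤ ∧ x * x = 1 ∧ y ^ 3 = 1 ∧
    y ≠ 1 ∧ g * y * g⁻¹ = y⁻¹ ∧ (x * y) ^ 8 = 1 := by
  refine ⟨⟨c[(0 : Fin 10), 7] * c[(1 : Fin 10), 6] * c[(2 : Fin 10), 8] * c[(3 : Fin 10), 5], by rw [mem_alternatingGroup]; decide +kernel⟩,
    ⟨c[(0 : Fin 10), 3, 6] * c[(1 : Fin 10), 5, 9] * c[(4 : Fin 10), 7, 8], by rw [mem_alternatingGroup]; decide +kernel⟩,
    ⟨c[(1 : Fin 10), 4] * c[(3 : Fin 10), 6] * c[(5 : Fin 10), 8] * c[(7 : Fin 10), 9], by rw [mem_alternatingGroup]; decide +kernel⟩, ?_, ?_, ?_, ?_, ?_, ?_⟩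
  · exact clo (n := 8) _ _ _ _ ![[],
    [],
    [2, 0, 3, 0, 3, 0, 3, 0, 2, 0, 2, 0, 3, 0, 2, 0, 3, 0, 2, 0, 2, 0, 2, 0, 3, 0, 2, 0, 3, 0, 3, 0, 3, 0, 2, 0, 3, 0, 2, 0, 3, 0],
    [0, 2, 0, 3, 0, 2, 0, 3, 0, 2, 0, 3, 0, 2, 0, 2, 0, 3, 0, 3, 0, 2, 0, 2, 0, 2, 0, 3, 0, 2, 0, 3, 0, 3, 0, 2, 0, 3],
    [2, 0, 3, 0, 2, 0, 3, 0, 2, 0, 2, 0, 3, 0, 2, 0, 2, 0, 3, 0, 2, 0, 2, 0, 3, 0, 2, 0, 2, 0, 3, 0, 3, 0, 3],
    [3, 0, 3, 0, 2, 0, 3, 0, 2, 0, 3, 0, 2, 0, 3, 0, 2, 0, 3, 0, 2, 0, 3, 0, 2, 0, 3, 0, 3],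
    [3, 0, 3, 0, 2, 0, 2, 0, 3, 0, 3, 0, 2, 0, 3, 0, 3, 0, 2, 0, 3, 0, 3, 0, 2, 0, 3, 0, 3, 0, 2, 0, 3, 0, 2, 0, 2, 0, 2],
    [3, 0, 2, 0, 2, 0, 3, 0, 2, 0, 2, 0, 3, 0, 3, 0, 3, 0, 2, 0, 2, 0, 3, 0, 3, 0, 3, 0, 2, 0, 3, 0, 2, 0, 3, 0, 2, 0, 3, 0, 3, 0],
    [2, 0, 2, 0, 2, 0, 3, 0, 2, 0, 2, 0, 3, 0, 2, 0, 2, 0, 3, 0, 3, 0, 3, 0, 2, 0, 3, 0, 2, 0, 3, 0, 3, 0, 2, 0, 3, 0, 3, 0, 2, 0, 2],
    [2, 0, 2, 0, 3, 0, 2, 0, 2, 0, 3, 0, 2, 0, 2, 0, 3, 0, 3, 0, 3, 0, 2, 0, 3, 0, 2, 0, 3, 0, 3, 0, 2, 0, 3, 0, 3, 0, 2, 0, 3, 0]] (by decide +kernel)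
  all_goals (set_option synthInstance.maxSize 9000 in open scoped Cfsg.Agent.Lib.FastPerm in decide +kernel)

theorem trip11 : ∃ x y g h : ↥(alternatingGroup (Fin 11)), Subgroup.closure {x, y} = ⊤ ∧ x * x = 1 ∧ y ^ 5 = 1 ∧
    y ≠ 1 ∧ g * y * g⁻¹ = y ^ 2 ∧ (x * y) ^ 5 = 1 ∧ x * y ≠ 1 ∧ h * (x * y) * h⁻¹ = (x * y) ^ 2 := by
  refine ⟨⟨c[(0 : Fin 11), 10] * c[(1 : Fin 11), 6] * c[(2 : Fin 11), 8] * c[(3 : Fin 11), 7], by rw [mem_alternatingGroup]; decide +kernel⟩,
    ⟨c[(0 : Fin 11), 1, 2, 5, 10] * c[(4 : Fin 11), 6, 9, 8, 7], by rw [mem_alternatingGroup]; decide +kernel⟩,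
    ⟨c[(1 : Fin 11), 2, 10, 5] * c[(6 : Fin 11), 9, 7, 8], by rw [mem_alternatingGroup]; decide +kernel⟩,
    ⟨c[(2 : Fin 11), 6, 9, 5] * c[(3 : Fin 11), 4, 7, 8], by rw [mem_alternatingGroup]; decide +kernel⟩, ?_, ?_, ?_, ?_, ?_, ?_, ?_, ?_⟩
  · exact clo (n := 9) _ _ _ _ ![[],
    [],
    [3, 0, 3, 3, 0, 2, 0, 3, 0, 3, 3, 0, 2, 0, 2, 2, 0, 2, 2, 0, 3, 0, 2, 0, 2, 2, 0, 2, 2, 0],
    [2, 2, 0, 3, 0, 3, 3, 0, 2, 0, 3, 0, 2, 0, 3, 0, 2, 0, 3, 3, 0, 2, 2],
    [2, 0, 2, 2, 0, 2, 2, 0, 3, 0, 2, 0, 3, 0, 2, 0, 3, 0, 2, 2, 0, 2, 0, 3, 0, 3],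
    [3, 3, 0, 3, 0, 2, 2, 0, 2, 2, 0, 2, 2, 0, 2, 0, 3, 0, 2, 0, 3, 0, 3, 3, 0, 3, 3],
    [3, 0, 2, 2, 0, 2, 0, 3, 0, 3, 3, 0, 3, 3, 0, 3, 3, 0, 2, 0, 3, 0, 2, 0, 3, 0, 3, 0, 2, 0, 2],
    [0, 3, 0, 3, 0, 2, 0, 2, 0, 3, 0, 2, 0, 3, 0, 3, 3, 0, 3, 3, 0, 3, 3, 0, 2, 0, 3, 3, 0, 3],
    [0, 3, 3, 0, 2, 0, 3, 0, 3, 0, 2, 0, 3, 0, 2, 0, 3, 0, 2, 0, 3, 0, 2, 2, 0, 3, 0, 2, 2, 0],
    [3, 3, 0, 3, 3, 0, 3, 3, 0, 3, 3, 0, 3, 3, 0, 2, 0, 3, 0, 2, 2, 0, 2, 0, 3, 3, 0, 3, 0, 2],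
    [3, 3, 0, 3, 3, 0, 2, 0, 3, 0, 3, 3, 0, 2, 0, 2, 2, 0, 2, 2, 0, 3, 0, 2, 0, 2, 2, 0, 2, 2, 0, 2]] (by decide +kernel)
  all_goals decide +kernel

theorem el12 : ∃ z g : ↥(alternatingGroup (Fin 12)), z ^ 5 = 1 ∧ z ≠ 1 ∧ g * z * g⁻¹ = z ^ 2 ∧
    ∀ i : Fin 12, i.val < 7 → (z : Perm (Fin 12)) i = i := by
  refine ⟨⟨c[(7 : Fin 12), 8, 9, 10, 11], by rw [mem_alternatingGroup]; decide +kernel⟩,
    ⟨c[(5 : Fin 12), 6] * c[(8 : Fin 12), 9, 11, 10], by rw [mem_alternatingGroup]; decide +kernel⟩, ?_, ?_, ?_, ?_⟩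
  all_goals decide +kernel


end gens

universe u

variable {F : Type u} [Field F]

/-! ### numerical conditions -/

/-- characteristic 2: a linear map has at least half as many fixed vectors as its square -/
theorem ev_sq (h2 : (2 : F) = 0) {M : Type*} [AddCommGroup M] [Module F M] [FiniteDimensional F M]
    (T : Module.End F M) : ev (T * T) 1 ≤ 2 * ev T 1 := by
  have h1 : ∀ v, v ∈ End.eigenspace (T * T) 1 ↔ T (T v - v) = T v - v := by
    intro v
    rw [End.mem_eigenspace_iff, one_smul, map_sub, Module.End.mul_apply]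
    constructor
    · intro h
      rw [h]
      have h3 : (T v - v) + (T v - v) = 0 := add_self2 h2 _
      rw [← neg_sub, neg_eq_iff_add_eq_zero]
      exact h3
    · intro h
      have h3 : T v + T v = 0 := add_self2 h2 _
      have h4 : v + v = 0 := add_self2 h2 _
      have h5 : T (T v) = T v + T v - v := by rw [sub_eq_iff_eq_add.1 h]; abel
      rw [h5, h3, zero_sub, neg_eq_iff_add_eq_zero]
      exact h4
  set D : M →ₗ[F] M := T - 1 with hD
  have hDa : ∀ v, D v = T v - v := fun v => rfl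
  have h3 := LinearMap.finrank_range_add_finrank_ker (D.domRestrict (End.eigenspace (T * T) 1))
  have h4 : finrank F ↥(LinearMap.range (D.domRestrict (End.eigenspace (T * T) 1))) ≤
      finrank F ↥(End.eigenspace T 1) := by
    apply Submodule.finrank_mono
    rintro _ ⟨v, rfl⟩
    rw [LinearMap.domRestrict_apply, End.mem_eigenspace_iff, one_smul, hDa]
    exact (h1 v).1 v.2
  have h5 : finrank F ↥(LinearMap.ker (D.domRestrict (End.eigenspace (T * T) 1))) ≤
      finrank F ↥(End.eigenspace T 1) := by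
    rw [← Submodule.finrank_map_subtype_eq (End.eigenspace (T * T) 1)]
    apply Submodule.finrank_mono
    rintro _ ⟨v, hv, rfl⟩
    rw [SetLike.mem_coe, LinearMap.mem_ker, LinearMap.domRestrict_apply, hDa] at hv
    rw [End.mem_eigenspace_iff, one_smul]
    exact sub_eq_zero.1 hv
  unfold ev
  omega

/-- the numerical conditions for a representation of a group on `V` -/
structure Num {G : Type*} [Group G] (σ : Representation F G (I27 → F)) : Prop where
  two : ∀ x, x * x = 1 → 15 ≤ ev (σ x) 1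
  four : ∀ x, x ^ 4 = 1 → 8 ≤ ev (σ x) 1
  three : ∀ x g, x ^ 3 = 1 → x ≠ 1 → g * x * g⁻¹ = x⁻¹ → 9 ≤ ev (σ x) 1
  five : ∀ x g, x ^ 5 = 1 → x ≠ 1 → g * x * g⁻¹ = x ^ 2 → ev (σ x) 1 = 7

theorem Num.comp {G G' : Type*} [Group G] [Group G'] {σ : Representation F G (I27 → F)} (h : Num σ) (f : G' →* G)
    (hf : Function.Injective f) : Num (MonoidHom.comp σ f) := by
  have hne : ∀ x, x ≠ 1 → f x ≠ 1 := fun x hx h0 => hx (hf (h0.trans (map_one f).symm))
  refine ⟨fun x hx => ?_, fun x hx => ?_, fun x g hx hx1 hg => ?_, fun x g hx hx1 hg => ?_⟩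
  · exact h.two (f x) (by rw [← map_mul, hx, map_one])
  · exact h.four (f x) (by rw [← map_pow, hx, map_one])
  · exact h.three (f x) (f g) (by rw [← map_pow, hx, map_one]) (hne x hx1) (by rw [← map_inv, ← map_mul, ← map_mul, hg, map_inv])
  · exact h.five (f x) (f g) (by rw [← map_pow, hx, map_one]) (hne x hx1) (by rw [← map_inv, ← map_mul, ← map_mul, hg, map_pow])

theorem nine_false (h2 : (2 : F) = 0) {σ σ' : Representation F ↥(alternatingGroup (Fin 9)) (I27 → F)} (hP : PD σ σ')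
    (hN : Num σ) (h0 : σ.invariants = ⊥) (h0' : σ'.invariants = ⊥) : False := by
  obtain ⟨x, y, g, hgen, hx, hy, hz, hz1, hg⟩ := trip9
  have h := hP.scott hgen
  rw [h0, h0', finrank_bot] at h
  have k1 := hN.two x hx
  have k2 := hN.four y hy
  have k3 := hN.three _ g hz hz1 hg
  have k4 := ev_sq h2 (σ (x * y))
  rw [← map_mul] at k4
  omega

theorem ten_false (h2 : (2 : F) = 0) {σ σ' : Representation F ↥(alternatingGroup (Fin 10)) (I27 → F)} (hP : PD σ σ')
    (hN : Num σ) (h0 : σ.invariants = ⊥) (h0' : σ'.invariants = ⊥) : False := by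
  obtain ⟨x, y, g, hgen, hx, hy, hy1, hg, hz⟩ := trip10
  have h := hP.scott hgen
  rw [h0, h0', finrank_bot] at h
  have k1 := hN.two x hx
  have k2 := hN.three y g hy hy1 hg
  have k4 := ev_sq h2 (σ (x * y))
  rw [← map_mul] at k4
  have k5 := ev_sq h2 (σ (x * y * (x * y)))
  rw [← map_mul] at k5
  have k6 := hN.four (x * y * (x * y)) (by rw [← pow_two, ← pow_mul]; exact hz)
  omega

theorem eleven {σ σ' : Representation F ↥(alternatingGroup (Fin 11)) (I27 → F)} (hP : PD σ σ')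
    (hN : Num σ) : 2 ≤ finrank F σ.invariants + finrank F σ'.invariants := by
  obtain ⟨x, y, g, g', hgen, hx, hy, hy1, hg, hz, hz1, hg'⟩ := trip11
  have h := hP.scott hgen
  have k1 := hN.two x hx
  have k2 := hN.five y g hy hy1 hg
  have k3 := hN.five (x * y) g' hz hz1 hg'
  omega

/-! ### degree 12 -/

section twelve

variable {σ σ' : Representation F ↥(alternatingGroup (Fin 12)) (I27 → F)}

/-- restriction to `A₁₁` -/
noncomputable abbrev res (σ : Representation F ↥(alternatingGroup (Fin 12)) (I27 → F)) :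
    Representation F ↥(alternatingGroup (Fin 11)) (I27 → F) :=
  MonoidHom.comp σ (io (by norm_num : 11 ≤ 12))

/-- the vectors fixed by `A₁₁` give families -/
theorem exists_fam_of_inv {x : I27 → F} (hx : x ∈ (res σ).invariants) :
    ∃ v, Fam σ v ∧ v 11 = x := by
  refine exists_fam (by norm_num) 11 x fun g hg => ?_
  obtain ⟨g', hg'⟩ := exists_io (by norm_num : 11 ≤ 12) g (by
    intro i hi
    have : i = 11 := by omega
    rw [this, hg])
  rw [Representation.mem_invariants] at hx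
  rw [← hg']
  exact hx g'

/-- independent families give many fixed vectors -/
theorem fam_count (h2 : (2 : F) = 0) (hinv : σ.invariants = ⊥) {κ : Type} [Fintype κ] {v : κ → Fin 12 → I27 → F}
    (hv : ∀ k, Fam σ (v k)) (hli : LinearIndependent F fun k => v k 11) :
    LinearIndependent F (fun q : κ × Fin 7 => v q.1 (Fin.castLE (by norm_num) q.2)) := by
  classical
  rw [Fintype.linearIndependent_iff]
  intro c hc
  let c' : κ → Fin 12 → F := fun k i => if h : i.val < 7 then c (k, ⟨i.val, h⟩) else 0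
  have h1 : ∑ k, ∑ i, c' k i • v k i = 0 := by
    rw [← hc, Fintype.sum_prod_type]
    apply Finset.sum_congr rfl
    intro k _
    have : ∀ f : Fin 12 → I27 → F, (∀ i : Fin 12, 7 ≤ i.val → f i = 0) →
        ∑ i, f i = ∑ j : Fin 7, f (Fin.castLE (by norm_num) j) := by
      intro f hf
      simp only [Fin.sum_univ_succ, Fin.sum_univ_zero]
      rw [hf (Fin.succ (Fin.succ (Fin.succ (Fin.succ (Fin.succ (Fin.succ (Fin.succ 0))))))) (by decide),
        hf (Fin.succ (Fin.succ (Fin.succ (Fin.succ (Fin.succ (Fin.succ (Fin.succ (Fin.succ 0)))))))) (by decide),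
        hf (Fin.succ (Fin.succ (Fin.succ (Fin.succ (Fin.succ (Fin.succ (Fin.succ (Fin.succ (Fin.succ 0))))))))) (by decide),
        hf (Fin.succ (Fin.succ (Fin.succ (Fin.succ (Fin.succ (Fin.succ (Fin.succ (Fin.succ (Fin.succ (Fin.succ 0)))))))))) (by decide),
        hf (Fin.succ (Fin.succ (Fin.succ (Fin.succ (Fin.succ (Fin.succ (Fin.succ (Fin.succ (Fin.succ (Fin.succ (Fin.succ 0))))))))))) (by decide)]
      simp only [add_zero]
      rfl
    rw [this _ (by
      intro i hi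
      simp only [c']
      rw [dif_neg (by omega), zero_smul])]
    apply Finset.sum_congr rfl
    intro j _
    simp only [c']
    rw [dif_pos (by simp)]
    rfl
  intro q
  obtain ⟨k, i⟩ := q
  have h3 := fam_rel h2 (by norm_num : 5 ≤ 12) hinv hv h1 (a := Fin.castLE (by norm_num) i) (b := 11) (by
    intro h
    have := congrArg Fin.val h
    have := i.2
    simp only [_root_.Fin.isValue, _root_.Fin.val_castLE, _root_.Fin.coe_ofNat_eq_mod, _root_.Nat.mod_succ, _root_.Fin.is_lt] at *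
    omega) 11
  have h4 := Fintype.linearIndependent_iff.1 hli _ h3 k
  simp only [c'] at h4
  rw [dif_pos (by simp), dif_neg (by decide), add_zero] at h4
  exact h4

theorem two_false (h2 : (2 : F) = 0) (hinv : σ.invariants = ⊥) (hN : Num σ)
    (hd : 2 ≤ finrank F (res σ).invariants) : False := by
  obtain ⟨f, hf⟩ := exists_linearIndependent_of_le_finrank hd
  have hf' : LinearIndependent F fun k : Fin 2 => ((f k : _) : I27 → F) := hf.map' (Submodule.subtype _) (Submodule.ker_subtype _)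
  choose v hv hv11 using fun k => exists_fam_of_inv (f k).2
  have h1 := fam_count h2 hinv hv (by simpa only [hv11] using hf')
  obtain ⟨z, g, hz, hz1, hg, hfix⟩ := el12
  have h3 := hN.five z g hz hz1 hg
  have h4 : Submodule.span F (Set.range fun q : Fin 2 × Fin 7 => v q.1 (Fin.castLE (by norm_num) q.2)) ≤
      End.eigenspace (σ z) 1 := by
    rw [Submodule.span_le]
    rintro _ ⟨q, rfl⟩
    rw [SetLike.mem_coe, End.mem_eigenspace_iff, one_smul]
    change σ z (v q.1 _) = v q.1 _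
    rw [hv q.1 z, hfix _ (by simp)]
  have h5 := Submodule.finrank_mono h4
  rw [finrank_span_eq_card h1] at h5
  unfold ev at h3
  rw [h3] at h5
  simp at h5

theorem one_one (h2 : (2 : F) = 0) (hP : PD σ σ') (hinv : σ.invariants = ⊥) (hinv' : σ'.invariants = ⊥) (hN' : Num σ')
    {x x' : I27 → F} (hx : x ∈ (res σ).invariants)
    (hx' : x' ∈ (res σ').invariants) (hx0' : x' ≠ 0) : x = 0 := by
  obtain ⟨v, hv, rfl⟩ := exists_fam_of_inv hx
  obtain ⟨w, hw, rfl⟩ := exists_fam_of_inv hx'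
  obtain ⟨z, g, hz, hz1, hg, hfix⟩ := el12
  have five_ne : (5 : F) ≠ 0 := by
    intro h5
    have : (1 : F) = 0 := by linear_combination h5 - 2 * h2
    exact one_ne_zero this
  -- the pairing of the families
  have hpair : ∀ i j k l : Fin 12, i ≠ j → k ≠ l → tf (v i) (w j) = tf (v k) (w l) := by
    intro i j k l hij hkl
    obtain ⟨m, hm1, hm2⟩ := move2 (by norm_num : 4 ≤ 12) hij hkl
    rw [← hm1, ← hm2, ← hv, ← hw, hP.htf]
  have hdiag : ∀ i k : Fin 12, tf (v i) (w i) = tf (v k) (w k) := by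
    intro i k
    obtain ⟨m, hm1⟩ := move1 (by norm_num : 3 ≤ 12) i k
    rw [← hm1, ← hv, ← hw, hP.htf]
  have hsum := fam_sum hinv' hw
  have h01 : tf (v 0) (w 0) = tf (v 0) (w 1) := by
    have h3 : tf (v 0) (∑ j, w j) = 0 := by rw [hsum, tf_zero_right]
    have h4 : tf (v 0) (∑ j, w j) = ∑ j, tf (v 0) (w j) := by
      have : ∀ j, tf (v 0) (w j) = tfB F (v 0) (w j) := fun j => (tfB_apply _ _).symm
      simp only [this, ← map_sum]
      rfl
    rw [h4] at h3
    have h5 : ∀ j : Fin 12, tf (v 0) (w j) = tf (v 0) (w 1) +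
        (if j = 0 then tf (v 0) (w 0) - tf (v 0) (w 1) else 0) := by
      intro j
      by_cases hj : j = 0
      · rw [if_pos hj, hj]; ring
      · rw [if_neg hj, add_zero]; exact hpair 0 j 0 1 (Ne.symm hj) (by decide)
    rw [Finset.sum_congr rfl (fun j _ => h5 j), Finset.sum_add_distrib, Finset.sum_const, Finset.sum_ite_eq',
      if_pos (Finset.mem_univ _), Finset.card_univ, Fintype.card_fin, nsmul_eq_mul] at h3
    push_cast at h3
    linear_combination h3 - 6 * h2 * tf (v 0) (w 1)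
  have hall : ∀ i j, tf (v i) (w j) = tf (v 0) (w 0) := by
    intro i j
    by_cases hij : i = j
    · subst hij; exact hdiag i 0
    · rw [h01]; exact hpair i j 0 1 hij (by decide)
  -- the fixed vectors of `z`
  have h3 := hN'.five z g hz hz1 hg
  have hli := fam_count (κ := Unit) (v := fun _ => w) h2 hinv' (fun _ => hw) (by
    rw [linearIndependent_unique_iff]; exact hx0')
  have h4 : Submodule.span F (Set.range fun q : Unit × Fin 7 => w (Fin.castLE (by norm_num) q.2)) ≤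
      End.eigenspace (σ' z) 1 := by
    rw [Submodule.span_le]
    rintro _ ⟨q, rfl⟩
    rw [SetLike.mem_coe, End.mem_eigenspace_iff, one_smul]
    change σ' z (w _) = w _
    rw [hw z, hfix _ (by simp)]
  have h5 := Submodule.eq_of_le_of_finrank_le h4 (by
    rw [finrank_span_eq_card hli]
    unfold ev at h3
    rw [h3]
    simp)
  set d := v 0 - v 1 with hd
  have hd1 : ∀ y ∈ End.eigenspace (σ' z) 1, tf d y = 0 := by
    intro y hy
    rw [← h5] at hy
    induction hy using Submodule.span_induction with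
    | mem y hy =>
      obtain ⟨q, rfl⟩ := hy
      rw [hd, sub_eq_add_neg, ← neg_one_smul F (v 1), tf_add_left, tf_smul_left, hall, hall 1]
      ring
    | zero => exact tf_zero_right _
    | add a b _ _ ha hb => rw [tf_add_right, ha, hb, add_zero]
    | smul c a _ ha => rw [tf_smul_right, ha, mul_zero]
  have hdz : σ z d = d := by
    rw [hd, map_sub, hv z, hv z, hfix 0 (by decide), hfix 1 (by decide)]
  have hd0 : d = 0 := by
    refine tf_nondeg fun y => ?_
    have hz5 : ∀ u, σ' z (σ' z (σ' z (σ' z (σ' z u)))) = u := by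
      intro u
      have : σ' (z ^ 5) u = u := by rw [hz, map_one]; rfl
      simpa [pow_succ, map_mul] using this
    have h6 : tf d (y + σ' z y + σ' z (σ' z y) + σ' z (σ' z (σ' z y)) + σ' z (σ' z (σ' z (σ' z y)))) = 0 := by
      apply hd1
      rw [End.mem_eigenspace_iff, one_smul]
      simp only [map_add]
      rw [hz5]
      abel
    have h7 : ∀ u, tf d (σ' z u) = tf d u := by
      intro u
      conv_lhs => rw [← hdz]
      exact hP.htf z d u
    simp only [tf_add_right, h7] at h6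
    have h8 : (5 : F) * tf d y = 0 := by linear_combination h6
    exact (mul_eq_zero.1 h8).resolve_left five_ne
  exact fam_const (by norm_num) hinv hv (a := 0) (b := 1) (by decide) (sub_eq_zero.1 hd0) 11

theorem twelve_false (h2 : (2 : F) = 0) (hP : PD σ σ') (hinv : σ.invariants = ⊥) (hinv' : σ'.invariants = ⊥)
    (hN : Num σ) (hN' : Num σ') : False := by
  have hio : Function.Injective (io (by norm_num : 11 ≤ 12)) := Cfsg.Agent.H191.AltElts.embAlt_injective _
  have h : 2 ≤ finrank F (res σ).invariants + finrank F (res σ').invariants :=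
    eleven (hP.comp (io (by norm_num : 11 ≤ 12))) (hN.comp _ hio)
  rcases Nat.lt_or_ge 1 (finrank F (res σ).invariants) with h1 | h1
  · exact two_false h2 hinv hN h1
  rcases Nat.lt_or_ge 1 (finrank F (res σ').invariants) with h1' | h1'
  · exact two_false h2 hinv' hN' h1'
  have k1 : finrank F (res σ).invariants ≠ 0 := by omega
  have k2 : finrank F (res σ').invariants ≠ 0 := by omega
  obtain ⟨x, hx⟩ := Module.finrank_pos_iff_exists_ne_zero.1 (Nat.pos_of_ne_zero k1)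
  obtain ⟨x', hx'⟩ := Module.finrank_pos_iff_exists_ne_zero.1 (Nat.pos_of_ne_zero k2)
  exact hx (Subtype.ext (one_one h2 hP hinv hinv' hN' x.2 x'.2 (fun h0 => hx' (Subtype.ext h0))))

end twelve

/-! ### lifts -/

section lift

open Cfsg.Agent.ChevalleyStructure.E6Min.Basic Cfsg.Agent.ChevalleyStructure.E6Min.Adjoint

variable [Finite F] {n : ℕ} {φ : ↥(alternatingGroup (Fin n)) →* ↥(chevE6.group F)}
  {ψ : ↥(alternatingGroup (Fin n)) →* ↥(Zgrp F)}

theorem pd_lift (ψ : ↥(alternatingGroup (Fin n)) →* ↥(Zgrp F)) :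
    PD (MonoidHom.comp (V F) ψ) (MonoidHom.comp (V' F) ψ) :=
  ⟨fun g x y => Act.tf_act (ψ g) x y, fun g x => Act.sh_act (ψ g) x, fun g x => Act.sh_act' (ψ g) x⟩

theorem ne_lift (hφ : Function.Injective φ) (hψ : Lift φ ψ) {x : ↥(alternatingGroup (Fin n))} (hx : x ≠ 1) :
    ad F (ψ x) ≠ 1 := by
  rw [hψ x]
  exact fun h => hx (hφ (h.trans (map_one φ).symm))

theorem num_V [CharP F 2] (hφ : Function.Injective φ) (hψ : Lift φ ψ) : Num (MonoidHom.comp (V F) ψ) := by
  have : Fact (Nat.Prime 2) := ⟨Nat.prime_two⟩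
  have T := Tor.tab 2 (F := F)
  refine ⟨fun x hx => ?_, fun x hx => ?_, fun x g hx hx1 hg => ?_, fun x g hx hx1 hg => ?_⟩
  · exact Tor.two_two (ψ x) (by rw [← map_mul, hx, map_one])
  · exact Tor.two_four (ψ x) (by rw [← map_pow, hx, map_one])
  · have k1 := T.three (by norm_num) (ψ x) (ne_lift hφ hψ hx1) (by rw [← map_pow, hx, map_one])
    have k2 := T.three_real (by norm_num) (ψ x) (ne_lift hφ hψ hx1) (by rw [← map_pow, hx, map_one])
      ⟨ψ g, by rw [← map_inv, ← map_mul, ← map_mul, hg, map_inv]⟩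
    change 9 ≤ ev (V F (ψ x)) 1
    rcases k1 with k | k | k | k
    · omega
    · omega
    · omega
    · exact absurd k.1 k2
  · have hne : ψ x ≠ 1 := fun h => ne_lift hφ hψ hx1 (by rw [h, map_one])
    exact (T.five_rat (by norm_num) (ψ x) hne (by rw [← map_pow, hx, map_one])
      ⟨ψ g, by rw [← map_inv, ← map_mul, ← map_mul, hg, map_pow]⟩).1

theorem num_V' [CharP F 2] (hφ : Function.Injective φ) (hψ : Lift φ ψ) : Num (MonoidHom.comp (V' F) ψ) := by
  have h := num_V hφ hψ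
  have e : ∀ x, ev ((MonoidHom.comp (V' F) ψ) x) 1 = ev ((MonoidHom.comp (V F) ψ) x) 1 := by
    intro x
    change ev (V' F (ψ x)) 1 = ev (V F (ψ x)) 1
    rw [Act.ev_dual _ one_ne_zero, inv_one]
  refine ⟨fun x hx => ?_, fun x hx => ?_, fun x g hx hx1 hg => ?_, fun x g hx hx1 hg => ?_⟩
  · rw [e]; exact h.two x hx
  · rw [e]; exact h.four x hx
  · rw [e]; exact h.three x g hx hx1 hg
  · rw [e]; exact h.five x g hx hx1 hg

theorem two_eq_zero [CharP F 2] : (2 : F) = 0 := by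
  have := CharP.cast_eq_zero F 2
  exact_mod_cast this

end lift

end Cfsg.Agent.H882.E6Big

namespace Cfsg.Agent.H163.E6.Cases

open Cfsg Cfsg.Lie Module
open Cfsg.Agent.ChevalleyStructure.E6Min.Tables Cfsg.Agent.ChevalleyStructure.E6Min.Basic
  Cfsg.Agent.ChevalleyStructure.E6Min.Adjoint
open Cfsg.Agent.H882.E6Big

universe u

variable {F : Type u} [Field F] [Finite F] {H : Subgroup ↥(chevE6.group F)} {n : ℕ}

/-- characteristic 2, degrees 9 to 12 -/
theorem big_two_ge [CharP F 2] (hn : 9 ≤ n) (hn' : n ≤ 12) {φ : ↥(alternatingGroup (Fin n)) →* ↥(chevE6.group F)}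
    (hS : Sit H n φ) {ψ : ↥(alternatingGroup (Fin n)) →* ↥(Zgrp F)} (hψ : Lift φ ψ) : False := by
  obtain ⟨h1, h2⟩ := hS.no_fixed ψ hψ
  obtain rfl | rfl | rfl | rfl : n = 9 ∨ n = 10 ∨ n = 11 ∨ n = 12 := by omega
  · exact nine_false two_eq_zero (pd_lift ψ) (num_V hS.inj hψ) h1 h2
  · exact ten_false two_eq_zero (pd_lift ψ) (num_V hS.inj hψ) h1 h2
  · have := eleven (pd_lift ψ) (num_V hS.inj hψ)
    rw [h1, h2, finrank_bot] at this
    omega
  · exact twelve_false two_eq_zero (pd_lift ψ) h1 h2 (num_V hS.inj hψ) (num_V' hS.inj hψ)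

end Cfsg.Agent.H163.E6.Cases
end

-- part: H163/E6/Main
section
/-!
# S5927, S5928: the case distinction (helper163)
-/

set_option autoImplicit false

namespace Cfsg.Agent.H163.E6

open Cfsg Cfsg.Lie Module
open Cfsg.Agent.ChevalleyStructure.E6Min.Tables Cfsg.Agent.ChevalleyStructure.E6Min.Basic
  Cfsg.Agent.ChevalleyStructure.E6Min.Adjoint
open Cfsg.Agent.H952.F4 (ev es matRep sh cr tf MaxAlt tr1)

universe u

variable {F : Type u} [Field F] [Finite F] {H : Subgroup ↥(chevE6.group F)} {n : ℕ}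
  {φ : ↥(alternatingGroup (Fin n)) →* ↥(chevE6.group F)}

theorem main (p : ℕ) [Fact p.Prime] [CharP F p] (hn : 5 ≤ n) (hn' : n ≤ 12) (hS : Sit H n φ)
    (hx : MaxAlt H n φ ∨ FixSym φ)
    (hcen : ∀ ω : Fˣ, Cover φ ω → 5 ≤ p → Cen H φ)
    (hs : p = 2 → n = 6 → (∃ ω : Fˣ, Cover φ ω) →
      (Nat.card ↥H = 360 ∧ Small H) ∨ (∃ h ∈ H, h ∉ φ.range) ∨ ∃ q, Twist q φ ∧ Semi q φ) :
    n = 6 ∧ 7 ≤ p := by
  have hp : p.Prime := Fact.out
  have h3 : (3 : F) = 0 ↔ p = 3 := by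
    have h := CharP.cast_eq_zero_iff F p 3
    push_cast at h
    rw [h, Nat.prime_dvd_prime_iff_eq hp Nat.prime_three]
  have hlift := Cov.exists_lift (φ := φ) hn hS.inj
  have hcp : p = 2 ∨ p = 3 ∨ p = 5 ∨ 7 ≤ p := by
    have := hp.two_le
    by_contra h
    push Not at h
    obtain ⟨h1, h2, h3, h4⟩ := h
    have h5 : p = 4 ∨ p = 6 := by omega
    rcases h5 with rfl | rfl <;> revert hp <;> decide
  by_cases hn5 : n = 5
  · subst hn5
    exfalso
    rcases hcp with rfl | rfl | rfl | h7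
    · exact Cases.five_two hS
    · exact Cases.five_three hS
    · exact Cases.five_five hS
    · exact Cases.five_big p h7 hS
  by_cases hn6 : n = 6
  · subst hn6
    refine ⟨rfl, ?_⟩
    rcases hcp with rfl | rfl | rfl | h7
    · exfalso
      rcases hlift with ⟨ψ, hψ⟩ | ⟨-, -, ω, hω⟩
      · exact Cases.six_two hS hψ
      · exact Cases.sixc_two' hS (hs rfl rfl ⟨ω, hω⟩) hω
    · exfalso
      rcases hlift with ⟨ψ, hψ⟩ | ⟨-, h, -⟩
      · exact Cases.six_three hS hψ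
      · exact h (h3.2 rfl)
    · exfalso
      rcases hlift with ⟨ψ, hψ⟩ | ⟨-, -, ω, hω⟩
      · exact Cases.six_five hS hψ
      · exact Cov.cov_odd (Or.inl rfl) hS (hcen ω hω le_rfl) (Cov.exists_X 5 le_rfl (Or.inl rfl) hS hω) hω
    · exact h7
  exfalso
  by_cases hn7 : n = 7
  · subst hn7
    rcases hlift with ⟨ψ, hψ⟩ | ⟨-, h, ω, hω⟩
    · rcases hcp with rfl | rfl | rfl | h7
      · exact Cases.seven_two hS hψ
      · exact Cases.seven_three hS hψ
      · exact Cases.seven_five hS hx hψ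
      · by_cases h77 : p = 7
        · subst h77
          exact Cases.seven_seven hS hψ
        · have h11 : 11 ≤ p := by
            by_contra hlt
            have : p = 8 ∨ p = 9 ∨ p = 10 := by omega
            rcases this with rfl | rfl | rfl <;> revert hp <;> decide
          exact Cases.seven_big p h11 hS hψ
    · rcases hcp with rfl | rfl | rfl | h7
      · exact Cases.sevenc_two hS hω
      · exact h (h3.2 rfl)
      · exact Cov.cov_odd (Or.inr rfl) hS (hcen ω hω le_rfl) (Cov.exists_X 5 le_rfl (Or.inr rfl) hS hω) hω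
      · exact Cov.cov_odd (Or.inr rfl) hS (hcen ω hω (by omega)) (Cov.exists_X p (by omega) (Or.inr rfl) hS hω) hω
  by_cases hp2 : p = 2
  · subst hp2
    rcases hlift with ⟨ψ, hψ⟩ | ⟨h, -⟩
    · by_cases h8 : n = 8
      · subst h8
        exact Cases.big_two_eight hS hψ
      · exact Cases.big_two_ge (by omega) hn' hS hψ
    · omega
  · exact Cases.big_odd p hp2 (by omega) hS.inj

end Cfsg.Agent.H163.E6
end

private theorem dce_faeadcdd3a4f : _root_.True := by
  try have : _root_.True := by simp only [_root_.Cfsg.Agent.H952.E6FiveFive.zeta.eq_1]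
  exact _root_.True.intro
end
end
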